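import Mathlib

/-!
# Odd `p`: a finite `p`-group of `p`-rank at most one is cyclic

`isCyclic_of_rankLEOne`: for `p` odd, a finite `p`-group in which every abelian subgroup of exponent `p`
has order at most `p` is cyclic. Also class-two power formulas.
-/

set_option autoImplicit false

namespace Cfsg.Agent.Lib.Helper49

section Class2
variable {G : Type*} [Group G]

/-- if `y * x = c * x * y` and `c` commutes with `y` then `y^k * x = c^k * x * y^k`. -/
theorem pow_mul_of_mul_eq {x y c : G} (hc : y * x = c * x * y) (hcy : Commute c y) (k : ℕ) :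
    y ^ k * x = c ^ k * x * y ^ k := by
  induction k with
  | zero => simp
  | succ k ih =>
    have h1 : y ^ k * c = c * y ^ k := ((hcy.pow_right k).eq).symm
    calc y ^ (k+1) * x = y ^ k * (y * x) := by rw [pow_succ, mul_assoc]
      _ = y ^ k * (c * x * y) := by rw [hc]
      _ = (y ^ k * c) * x * y := by simp only [mul_assoc]
      _ = c * (y ^ k * x) * y := by rw [h1]; simp only [mul_assoc]
      _ = c * (c ^ k * x * y ^ k) * y := by rw [ih]
      _ = c ^ (k+1) * x * y ^ (k+1) := by rw [pow_succ' c, pow_succ y]; simp only [mul_assoc]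

theorem mul_pow_of_mul_eq {x y c : G} (hc : y * x = c * x * y) (hcx : Commute c x) (hcy : Commute c y)
    (k : ℕ) : (x * y) ^ k = x ^ k * y ^ k * c ^ (k * (k - 1) / 2) := by
  induction k with
  | zero => simp
  | succ k ih =>
    have h1 := pow_mul_of_mul_eq hc hcy k
    have h2 : c ^ (k * (k - 1) / 2) * x = x * c ^ (k * (k - 1) / 2) := ((hcx.pow_left _).eq)
    have h3 : c ^ (k * (k - 1) / 2) * y = y * c ^ (k * (k - 1) / 2) := ((hcy.pow_left _).eq)
    have h4 : c ^ k * x = x * c ^ k := (hcx.pow_left _).eq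
    have h5 : c ^ k * y ^ k = y ^ k * c ^ k := ((hcy.pow_left k).pow_right k).eq
    have h6 : c ^ k * y = y * c ^ k := (hcy.pow_left k).eq
    calc (x * y) ^ (k+1) = (x * y) ^ k * (x * y) := pow_succ _ _
      _ = x ^ k * y ^ k * c ^ (k * (k - 1) / 2) * (x * y) := by rw [ih]
      _ = x ^ k * y ^ k * (c ^ (k * (k - 1) / 2) * x) * y := by simp only [mul_assoc]
      _ = x ^ k * (y ^ k * x) * (c ^ (k * (k - 1) / 2) * y) := by rw [h2]; simp only [mul_assoc]
      _ = x ^ k * (c ^ k * x * y ^ k) * (y * c ^ (k * (k - 1) / 2)) := by rw [h1, h3]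
      _ = x ^ k * (c ^ k * x) * (y ^ k * y) * c ^ (k * (k - 1) / 2) := by simp only [mul_assoc]
      _ = x ^ k * (x * c ^ k) * (y ^ k * y) * c ^ (k * (k - 1) / 2) := by rw [h4]
      _ = (x ^ k * x) * (c ^ k * (y ^ k * y)) * c ^ (k * (k - 1) / 2) := by simp only [mul_assoc]
      _ = x ^ (k+1) * (y ^ (k+1) * c ^ k) * c ^ (k * (k - 1) / 2) := by
          rw [← pow_succ, ← pow_succ, ((hcy.pow_left k).pow_right (k+1)).eq]
      _ = x ^ (k+1) * y ^ (k+1) * (c ^ k * c ^ (k * (k - 1) / 2)) := by simp only [mul_assoc]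
      _ = x ^ (k+1) * y ^ (k+1) * c ^ ((k+1) * (k + 1 - 1) / 2) := by
          rw [← pow_add, Nat.triangle_succ, add_comm (k * (k-1)/2) k]

/-- In the above situation, if moreover `y^p` commutes with `x` then `c^p = 1`. -/
theorem pow_eq_one_of_mul_eq {x y c : G} (hc : y * x = c * x * y) (hcy : Commute c y) (k : ℕ)
    (hk : Commute (y ^ k) x) : c ^ k = 1 := by
  have h1 := pow_mul_of_mul_eq hc hcy k
  rw [hk.eq, mul_assoc] at h1
  exact (mul_eq_right (a := c ^ k) (b := x * y ^ k)).mp h1.symm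

/-- Class two, `p` odd: `(xy)^p = x^p y^p`. -/
theorem mul_pow_odd_of_class_two {x y c : G} (hc : y * x = c * x * y) (hcx : Commute c x)
    (hcy : Commute c y) (p : ℕ) (hp : Odd p) (hk : Commute (y ^ p) x) :
    (x * y) ^ p = x ^ p * y ^ p := by
  rw [mul_pow_of_mul_eq hc hcx hcy p]
  obtain ⟨m, hm⟩ := hp
  have : p * (p - 1) / 2 = p * m := by
    rw [hm]; simp
    rw [show (2 * m + 1) * (2 * m) = 2 * ((2*m+1) * m) by ring, Nat.mul_div_cancel_left _ (by norm_num)]
  rw [this, pow_mul, pow_eq_one_of_mul_eq hc hcy p hk, one_pow, mul_one]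

end Class2

section RankOne
universe u

/-- every abelian subgroup of exponent `p` has order at most `p`. -/
def RankLEOne (p : ℕ) (P : Type*) [Group P] : Prop :=
  ∀ A : Subgroup P, IsMulCommutative A → (∀ a ∈ A, a ^ p = 1) → Nat.card A ≤ p

theorem rankLEOne_subgroup {p : ℕ} {P : Type*} [Group P] (H : RankLEOne p P) (Q : Subgroup P) :
    RankLEOne p Q := by
  intro A hA hexp
  have h1 := H (A.map Q.subtype) inferInstance (by
    rintro _ ⟨a, ha, rfl⟩
    have := hexp a ha
    rw [← map_pow, this, map_one])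
  rwa [Subgroup.card_map_of_injective Q.subtype_injective] at h1

theorem pow_mem_and_comm_mem_of_index_prime {p : ℕ} [hp : Fact p.Prime] {P : Type*} [Group P]
    (M : Subgroup P) [M.Normal] (hidx : M.index = p) :
    (∀ x : P, x ^ p ∈ M) ∧ (∀ x y : P, y * x * y⁻¹ * x⁻¹ ∈ M) := by
  have hcard : Nat.card (P ⧸ M) = p := by rw [← Subgroup.index_eq_card, hidx]
  have : IsCyclic (P ⧸ M) := isCyclic_of_prime_card hcard
  constructor
  · intro x
    rw [← QuotientGroup.eq_one_iff, QuotientGroup.mk_pow, ← hcard]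
    exact pow_card_eq_one'
  · intro x y
    rw [← QuotientGroup.eq_one_iff]
    have : ((y * x * y⁻¹ * x⁻¹ : P) : P ⧸ M) = (y : P ⧸ M) * (x : P ⧸ M) * (y : P ⧸ M)⁻¹ * (x : P ⧸ M)⁻¹ := by
      simp
    rw [this, mul_comm' (y : P ⧸ M) (x : P ⧸ M)]
    group

theorem isCyclic_of_rankLEOne {p : ℕ} [hp : Fact p.Prime] (hp2 : p ≠ 2) :
    ∀ (n : ℕ) (P : Type u) [Group P] [Finite P], Nat.card P = p ^ n → RankLEOne p P → IsCyclic P := by
  intro n
  induction n using Nat.strong_induction_on with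
  | _ n ih =>
  intro P _ _ hcard H
  by_contra hnc
  have hpG : IsPGroup p P := IsPGroup.of_card hcard
  have hp1 : 1 < p := hp.out.one_lt
  have hodd : Odd p := hp.out.eq_two_or_odd'.resolve_left hp2
  -- proper subgroups are cyclic
  have hlt_of_ne : ∀ Q : Subgroup P, Q ≠ ⊤ → Nat.card Q < Nat.card P := fun Q hQ =>
    lt_of_le_of_ne (Subgroup.card_le_card_group Q) (mt (Subgroup.card_eq_iff_eq_top Q).mp hQ)
  have hprop : ∀ Q : Subgroup P, Q ≠ ⊤ → IsCyclic Q := by
    intro Q hQ
    obtain ⟨m, hm⟩ := IsPGroup.iff_card.mp (hpG.to_subgroup Q)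
    have hlt := hlt_of_ne Q hQ
    have hmn : m < n := by
      rw [hm, hcard] at hlt
      exact (Nat.pow_lt_pow_iff_right hp1).mp hlt
    exact ih m hmn Q hm (rankLEOne_subgroup H Q)
  have hn0 : n ≠ 0 := by
    rintro rfl
    rw [pow_zero] at hcard
    have : Subsingleton P := (Nat.card_eq_one_iff_unique.mp hcard).1
    exact hnc inferInstance
  have hn1 : n - 1 + 1 = n := Nat.sub_add_cancel (Nat.pos_of_ne_zero hn0)
  have hdvd : p ^ (n - 1) ∣ Nat.card P := by rw [hcard]; exact pow_dvd_pow p (Nat.sub_le n 1)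
  obtain ⟨M₁, hM₁⟩ := Sylow.exists_subgroup_card_pow_prime p hdvd
  have hcard_ne : p ^ (n - 1) ≠ Nat.card P := by
    rw [hcard]; intro h
    have := Nat.pow_right_injective hp1 h
    omega
  have hM₁top : M₁ ≠ ⊤ := by
    intro h
    rw [h, Subgroup.card_top] at hM₁
    exact hcard_ne hM₁.symm
  obtain ⟨x, hx⟩ : ∃ x : P, x ∉ M₁ := by
    by_contra h
    push Not at h
    exact hM₁top (eq_top_iff.mpr fun x _ => h x)
  obtain ⟨j, hj⟩ := IsPGroup.iff_card.mp (hpG.to_subgroup (Subgroup.zpowers x))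
  have hzx : Subgroup.zpowers x ≠ ⊤ := by
    intro h
    exact hnc ⟨x, fun y => by show y ∈ Subgroup.zpowers x; rw [h]; exact Subgroup.mem_top y⟩
  have hjn : j ≤ n - 1 := by
    have hlt := hlt_of_ne _ hzx
    rw [hj, hcard] at hlt
    have := (Nat.pow_lt_pow_iff_right hp1).mp hlt
    omega
  obtain ⟨M₂, hM₂, hxM₂⟩ := Sylow.exists_subgroup_card_pow_prime_le p hdvd (Subgroup.zpowers x) hj hjn
  have hxM₂' : x ∈ M₂ := hxM₂ (Subgroup.mem_zpowers x)
  have hidx : ∀ M : Subgroup P, Nat.card M = p ^ (n - 1) → M.index = p := by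
    intro M hM
    have h := Subgroup.card_mul_index M
    rw [hM, hcard] at h
    have h2 : p ^ (n - 1) * M.index = p ^ (n - 1) * p := by rw [h, ← pow_succ, hn1]
    exact Nat.eq_of_mul_eq_mul_left (pow_pos hp.out.pos _) h2
  have hminfac : (Nat.card P).minFac = p := by
    rw [hcard, Nat.pow_minFac hn0, Nat.Prime.minFac_eq hp.out]
  have hnorm : ∀ M : Subgroup P, Nat.card M = p ^ (n - 1) → M.Normal := by
    intro M hM
    exact Subgroup.normal_of_index_eq_minFac_card (by rw [hidx M hM, hminfac])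
  have := hnorm M₁ hM₁
  have := hnorm M₂ hM₂
  obtain ⟨hpow₁, hcomm₁⟩ := pow_mem_and_comm_mem_of_index_prime M₁ (hidx M₁ hM₁)
  obtain ⟨hpow₂, hcomm₂⟩ := pow_mem_and_comm_mem_of_index_prime M₂ (hidx M₂ hM₂)
  -- M₁ ⊔ M₂ = ⊤
  have hsup : M₁ ⊔ M₂ = ⊤ := by
    have hdv : (M₁ ⊔ M₂).index ∣ p := by
      rw [← hidx M₁ hM₁]; exact Subgroup.index_dvd_of_le le_sup_left
    rcases (Nat.dvd_prime hp.out).mp hdv with h1 | h1
    · exact Subgroup.index_eq_one.mp h1
    · exfalso
      have h := Subgroup.card_mul_index (M₁ ⊔ M₂)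
      have h' := Subgroup.card_mul_index M₁
      rw [h1] at h
      rw [hidx M₁ hM₁, ← h] at h'
      have hc : Nat.card ↥(M₁ ⊔ M₂) = Nat.card ↥M₁ :=
        (Nat.eq_of_mul_eq_mul_right hp.out.pos h').symm
      have : M₁ = M₁ ⊔ M₂ := Subgroup.eq_of_le_of_card_ge le_sup_left hc.le
      exact hx (this ▸ (le_sup_right : M₂ ≤ M₁ ⊔ M₂) hxM₂')
  have : IsCyclic M₁ := hprop M₁ hM₁top
  have hM₂top : M₂ ≠ ⊤ := by
    intro h
    rw [h, Subgroup.card_top] at hM₂
    exact hcard_ne hM₂.symm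
  have : IsCyclic M₂ := hprop M₂ hM₂top
  -- elements of M₁ ⊓ M₂ are central
  have hcentral : ∀ d : P, d ∈ M₁ → d ∈ M₂ → ∀ g : P, Commute d g := by
    intro d hd₁ hd₂ g
    have hle : M₁ ⊔ M₂ ≤ Subgroup.centralizer ({d} : Set P) := by
      apply sup_le
      · intro m hm
        rw [Subgroup.mem_centralizer_iff]
        intro e he
        rw [Set.mem_singleton_iff.mp he]
        have := mul_comm' (⟨d, hd₁⟩ : M₁) ⟨m, hm⟩
        exact congrArg Subtype.val this
      · intro m hm
        rw [Subgroup.mem_centralizer_iff]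
        intro e he
        rw [Set.mem_singleton_iff.mp he]
        have := mul_comm' (⟨d, hd₂⟩ : M₂) ⟨m, hm⟩
        exact congrArg Subtype.val this
    have hg : g ∈ Subgroup.centralizer ({d} : Set P) := hle (hsup ▸ Subgroup.mem_top g)
    rw [Subgroup.mem_centralizer_iff] at hg
    exact hg d rfl
  -- the p-power map is a homomorphism
  let φ : P →* P :=
    { toFun := fun x => x ^ p
      map_one' := one_pow p
      map_mul' := fun a b => by
        have hcc : ∀ g : P, Commute (b * a * b⁻¹ * a⁻¹) g :=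
          hcentral _ (hcomm₁ a b) (hcomm₂ a b)
        exact mul_pow_odd_of_class_two (c := b * a * b⁻¹ * a⁻¹) (by group) (hcc a) (hcc b) p hodd
          (hcentral _ (hpow₁ b) (hpow₂ b) a) }
  have hφ : ∀ a : P, φ a = a ^ p := fun a => rfl
  have hrange : φ.range ≤ M₁ ⊓ M₂ := by
    rintro _ ⟨a, rfl⟩
    exact ⟨hpow₁ a, hpow₂ a⟩
  have hDlt : Nat.card ↥(M₁ ⊓ M₂) < p ^ (n - 1) := by
    rw [← hM₁]
    refine lt_of_le_of_ne (Subgroup.card_le_of_le inf_le_left) ?_
    intro h
    have h1 : M₁ ⊓ M₂ = M₁ := Subgroup.eq_of_le_of_card_ge inf_le_left h.ge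
    have h2 : M₁ ≤ M₂ := inf_eq_left.mp h1
    have h3 : M₁ = M₂ := Subgroup.eq_of_le_of_card_ge h2 (by rw [hM₁, hM₂])
    exact hx (h3 ▸ hxM₂')
  have hcardφ : Nat.card φ.ker * Nat.card φ.range = p ^ n := by
    rw [← Subgroup.index_ker, Subgroup.card_mul_index, hcard]
  have hrange_lt : Nat.card φ.range < p ^ (n - 1) :=
    lt_of_le_of_lt (Subgroup.card_le_of_le hrange) hDlt
  by_cases hker : φ.ker = ⊤
  · -- exponent p
    have hexp : ∀ a : P, a ^ p = 1 := by
      intro a
      have : a ∈ φ.ker := hker ▸ Subgroup.mem_top a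
      exact this
    obtain ⟨a, ha⟩ := IsCyclic.exists_generator (α := M₁)
    have h1 : orderOf a = Nat.card M₁ := orderOf_eq_card_of_forall_mem_zpowers ha
    have h2 : orderOf a ∣ p := orderOf_dvd_of_pow_eq_one (by
      apply Subtype.ext; simpa using hexp (a : P))
    have h3 : p ^ (n - 1) ≤ p ^ 1 := by
      rw [pow_one, ← hM₁, ← h1]; exact Nat.le_of_dvd hp.out.pos h2
    have h4 : n - 1 ≤ 1 := (Nat.pow_le_pow_iff_right hp1).mp h3
    have h5 : n = 1 ∨ n = 2 := by omega
    rcases h5 with rfl | rfl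
    · rw [pow_one] at hcard
      exact hnc (isCyclic_of_prime_card hcard)
    · have : IsMulCommutative P := IsPGroup.isMulCommutative_of_card_eq_prime_sq hcard
      have h6 := H ⊤ inferInstance (fun a _ => hexp a)
      rw [Subgroup.card_top, hcard] at h6
      have : p ^ 1 < p ^ 2 := Nat.pow_lt_pow_right hp1 (by norm_num)
      rw [pow_one] at this
      omega
  · have : IsCyclic φ.ker := hprop _ hker
    have h1 : Nat.card φ.ker ≤ p := H φ.ker inferInstance (fun a ha => ha)
    have h2 : p ^ n < p * p ^ (n - 1) := by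
      rw [← hcardφ]
      exact lt_of_le_of_lt (Nat.mul_le_mul_right _ h1)
        (Nat.mul_lt_mul_of_pos_left hrange_lt hp.out.pos)
    rw [← pow_succ', hn1] at h2
    exact lt_irrefl _ h2

/-- Odd `p`: a finite `p`-group all of whose abelian subgroups of exponent `p` have order at most `p`
is cyclic. -/
theorem isCyclic_of_isPGroup_rankLEOne {p : ℕ} [Fact p.Prime] (hp2 : p ≠ 2) {P : Type u} [Group P]
    [Finite P] (hP : IsPGroup p P) (H : RankLEOne p P) : IsCyclic P := by
  obtain ⟨n, hn⟩ := IsPGroup.iff_card.mp hP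
  exact isCyclic_of_rankLEOne hp2 n P hn H

end RankOne

end Cfsg.Agent.Lib.Helper49
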