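import Mathlib
import Cfsg.Agent.Lib.Helper6.Nc.Defs

/-!
# Nc hive (S3894, architect helper6): leaf NC-G3A `u0g_mem_lineStab`, `u0g_unique_line` (helper49)
-/

set_option autoImplicit false

namespace Cfsg.Agent.Lib.Helper6.Nc

open Matrix

variable {F : Type*} [Field F]

/-- the rows of `1 + N` applied to a column vector -/
theorem ncg3a_row (n : ℕ) (w : Fin n → F) (i : Fin n) :
    (u0M n F *ᵥ w) i = w i + (if h : (i : ℕ) + 1 < n then w ⟨(i : ℕ) + 1, h⟩ else 0) := by
  classical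
  simp only [Matrix.mulVec, dotProduct, u0M]
  have h1 : ∀ j : Fin n, (if j = i then (1 : F) else if (j : ℕ) = (i : ℕ) + 1 then 1 else 0) * w j =
      (if j = i then w j else 0) + (if (j : ℕ) = (i : ℕ) + 1 then w j else 0) := by
    intro j
    by_cases hj : j = i
    · subst hj; simp
    · by_cases hj2 : (j : ℕ) = (i : ℕ) + 1 <;> simp [hj, hj2]
  rw [Finset.sum_congr rfl (fun j _ => h1 j), Finset.sum_add_distrib, Finset.sum_ite_eq' Finset.univ i]
  simp only [Finset.mem_univ, if_true]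
  congr 1
  by_cases h : (i : ℕ) + 1 < n
  · rw [dif_pos h]
    have h2 : ∀ j : Fin n, (if (j : ℕ) = (i : ℕ) + 1 then w j else 0) =
        (if j = ⟨(i : ℕ) + 1, h⟩ then w j else 0) := by
      intro j
      have : (j : ℕ) = (i : ℕ) + 1 ↔ j = ⟨(i : ℕ) + 1, h⟩ := by
        rw [Fin.ext_iff]
      simp only [this]
    rw [Finset.sum_congr rfl (fun j _ => h2 j), Finset.sum_ite_eq' Finset.univ]
    simp
  · rw [dif_neg h]
    apply Finset.sum_eq_zero
    intro j _
    have : (j : ℕ) ≠ (i : ℕ) + 1 := by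
      have := j.2
      omega
    rw [if_neg this]

/-- NC-G3A (a). -/
theorem u0g_mem_lineStab (k : ℕ) : u0g (k + 2) F ∈ lineStab (Pi.single (0 : Fin (k + 2)) (1 : F)) := by
  rw [mem_lineStab]
  refine ⟨1, ?_⟩
  rw [coe_u0g, Units.val_one, one_smul]
  ext i
  rw [ncg3a_row]
  by_cases h : (i : ℕ) + 1 < k + 2
  · rw [dif_pos h]
    have : (⟨(i : ℕ) + 1, h⟩ : Fin (k + 2)) ≠ 0 := by
      intro h0
      have := congrArg Fin.val h0
      simp at this
    rw [Pi.single_eq_of_ne this, add_zero]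
  · rw [dif_neg h, add_zero]

/-- NC-G3A (b).  `w = g e₀ ≠ 0` satisfies `(1+N) w = c w`; look at the LAST nonzero coordinate of
`w`: `(N w)_i = w_{i+1}`, so `c = 1`, `N w = 0`, `w ∈ F e₀`. -/
theorem u0g_unique_line (k : ℕ) (g : GL (Fin (k + 2)) F)
    (h : g⁻¹ * u0g (k + 2) F * g ∈ lineStab (Pi.single (0 : Fin (k + 2)) (1 : F))) :
    g ∈ lineStab (Pi.single (0 : Fin (k + 2)) (1 : F)) := by
  classical
  rw [mem_lineStab] at h ⊢
  obtain ⟨c, hc⟩ := h
  obtain ⟨w, hw⟩ : ∃ w : Fin (k + 2) → F,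
      w = (g : Matrix (Fin (k + 2)) (Fin (k + 2)) F) *ᵥ Pi.single (0 : Fin (k + 2)) (1 : F) := ⟨_, rfl⟩
  -- the eigenvector equation
  have h1 : u0M (k + 2) F *ᵥ w = (c : F) • w := by
    have h2 : (g : Matrix (Fin (k + 2)) (Fin (k + 2)) F) *ᵥ
        (((g⁻¹ * u0g (k + 2) F * g : GL (Fin (k + 2)) F) : Matrix (Fin (k + 2)) (Fin (k + 2)) F) *ᵥ
          Pi.single (0 : Fin (k + 2)) (1 : F)) =
        (g : Matrix (Fin (k + 2)) (Fin (k + 2)) F) *ᵥ ((c : F) • Pi.single (0 : Fin (k + 2)) (1 : F)) := by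
      rw [hc]
    rw [Matrix.mulVec_mulVec, ← Units.val_mul, Matrix.mulVec_smul] at h2
    have e : g * (g⁻¹ * u0g (k + 2) F * g) = u0g (k + 2) F * g := by group
    rw [e, Units.val_mul, ← Matrix.mulVec_mulVec, coe_u0g, ← hw] at h2
    exact h2
  have hrow : ∀ i : Fin (k + 2),
      w i + (if h : (i : ℕ) + 1 < k + 2 then w ⟨(i : ℕ) + 1, h⟩ else 0) = (c : F) * w i := by
    intro i
    have := congrFun h1 i
    rw [ncg3a_row, Pi.smul_apply, smul_eq_mul] at this
    exact this
  -- `w ≠ 0`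
  have hw0 : w ≠ 0 := by
    intro h0
    have h3 : ((g⁻¹ : GL (Fin (k + 2)) F) : Matrix (Fin (k + 2)) (Fin (k + 2)) F) *ᵥ w =
        Pi.single (0 : Fin (k + 2)) (1 : F) := by
      rw [hw, Matrix.mulVec_mulVec, ← Units.val_mul, inv_mul_cancel, Units.val_one, Matrix.one_mulVec]
    rw [h0, Matrix.mulVec_zero] at h3
    have := congrFun h3 0
    simp at this
  -- `c = 1`
  have hc1 : (c : F) = 1 := by
    by_contra hne
    apply hw0
    have hall : ∀ d : ℕ, ∀ i : Fin (k + 2), (i : ℕ) + d + 1 = k + 2 → w i = 0 := by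
      intro d
      induction d with
      | zero =>
        intro i hi
        have hlt : ¬ (i : ℕ) + 1 < k + 2 := by omega
        have := hrow i
        rw [dif_neg hlt, add_zero] at this
        have h4 : ((c : F) - 1) * w i = 0 := by linear_combination -this
        rcases mul_eq_zero.mp h4 with h5 | h5
        · exact absurd (sub_eq_zero.mp h5) hne
        · exact h5
      | succ d ih =>
        intro i hi
        have hlt : (i : ℕ) + 1 < k + 2 := by omega
        have h6 : w ⟨(i : ℕ) + 1, hlt⟩ = 0 := ih ⟨(i : ℕ) + 1, hlt⟩ (by simp only; omega)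
        have := hrow i
        rw [dif_pos hlt, h6, add_zero] at this
        have h4 : ((c : F) - 1) * w i = 0 := by linear_combination -this
        rcases mul_eq_zero.mp h4 with h5 | h5
        · exact absurd (sub_eq_zero.mp h5) hne
        · exact h5
    ext i
    exact hall (k + 2 - 1 - (i : ℕ)) i (by have := i.2; omega)
  -- `N w = 0`
  have hN : ∀ i : ℕ, ∀ hi : i + 1 < k + 2, w ⟨i + 1, hi⟩ = 0 := by
    intro i hi
    have := hrow ⟨i, by omega⟩
    rw [dif_pos (by simpa using hi), hc1, one_mul] at this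
    simpa using this
  have hw00 : w 0 ≠ 0 := by
    intro h0
    apply hw0
    ext i
    rcases Nat.eq_zero_or_pos (i : ℕ) with hi | hi
    · have : i = 0 := Fin.ext hi
      rw [this]; exact h0
    · have h7 := hN ((i : ℕ) - 1) (by have := i.2; omega)
      have h8 : (⟨(i : ℕ) - 1 + 1, by have := i.2; omega⟩ : Fin (k + 2)) = i := by
        apply Fin.ext; simp only; omega
      rw [h8] at h7
      exact h7
  refine ⟨Units.mk0 (w 0) hw00, ?_⟩
  rw [← hw, Units.val_mk0]
  ext i
  rw [Pi.smul_apply, smul_eq_mul]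
  rcases Nat.eq_zero_or_pos (i : ℕ) with hi | hi
  · have : i = 0 := Fin.ext hi
    rw [this, Pi.single_eq_same, mul_one]
  · have h7 := hN ((i : ℕ) - 1) (by have := i.2; omega)
    have h8 : (⟨(i : ℕ) - 1 + 1, by have := i.2; omega⟩ : Fin (k + 2)) = i := by
      apply Fin.ext; simp only; omega
    rw [h8] at h7
    have hi0 : i ≠ 0 := by
      intro h0; rw [h0] at hi; simp at hi
    rw [h7, Pi.single_eq_of_ne hi0, mul_zero]

end Cfsg.Agent.Lib.Helper6.Nc
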