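import Cfsg.Agent.Lib.Helper22.CgDefs

/-!
# Cg hive (S4257, helper22), leaf CG8c (helper49): if `q ∤ |g^G|` then a Sylow `q`-subgroup
centralizes `g`.
-/

set_option autoImplicit false

namespace Cfsg.Agent.Lib.Helper22.Cg

open Subgroup

universe u

/-- CG8c. If `q ∤ |g^G|` then some Sylow `q`-subgroup centralizes `g`. -/
theorem cg8c {G : Type u} [Group G] [Finite G] (q : ℕ) [Fact q.Prime] (g : G) (hq : ¬ q ∣ cs g) :
    ∃ Q : Sylow q G, ∀ y ∈ Q, g * y = y * g := by
  let Q₀ : Sylow q (centralizer ({g} : Set G)) := Sylow.nonempty.some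
  have hpQ : IsPGroup q (Q₀.1.map (centralizer ({g} : Set G)).subtype) :=
    Q₀.2.map (centralizer ({g} : Set G)).subtype
  have hQ : ¬ q ∣ (Q₀.1.map (centralizer ({g} : Set G)).subtype).index := by
    rw [Subgroup.index_map_subtype Q₀.1]
    exact Nat.Prime.not_dvd_mul Fact.out Q₀.not_dvd_index hq
  refine ⟨hpQ.toSylow hQ, ?_⟩
  intro y hy
  have hy' : y ∈ Q₀.1.map (centralizer ({g} : Set G)).subtype := hy
  have hyC : y ∈ centralizer ({g} : Set G) := Subgroup.map_subtype_le Q₀.1 hy'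
  exact (Subgroup.mem_centralizer_iff.1 hyC) g (Set.mem_singleton g)

end Cfsg.Agent.Lib.Helper22.Cg
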