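import Cfsg.Agent.Lib.Helper41.PsDefs
import Cfsg.Agent.Lib.Helper9.CoprimeIndex

/-!
# Ps hive (S4321, helper41), leaf PS18 `ps_cC` (helper49):
for `x ∈ P` with class size coprime to `cs b`: `G = P * C(x)`.
-/

set_option autoImplicit false

namespace Cfsg.Agent.Lib.Helper41.Ps

open Subgroup
open Cfsg.Agent.Lib.Helper22.Cg

universe u

/-- PS18 (C). for `x ∈ P` with class size coprime to `cs b`: `G = P * C(x)`.
(Helper9.exists_mul_of_coprime_index + hB) -/
theorem ps_cC {G : Type u} [Group G] [Finite G] (p : ℕ) [Fact p.Prime] (P : Sylow p G) (b : G)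
    (hB : ∀ g : G, g * b = b * g → ∃ y ∈ P, ∃ c : G, (∀ u ∈ P, c * u = u * c) ∧ g = y * c)
    (x : G) (hx : x ∈ P) (hcop : (cs x).Coprime (cs b)) (g : G) :
    ∃ y ∈ P, ∃ c : G, c * x = x * c ∧ g = y * c := by
  obtain ⟨u, hu, v, hv, huv⟩ := Cfsg.Agent.Lib.Helper9.exists_mul_of_coprime_index
    (centralizer ({b} : Set G)) (centralizer ({x} : Set G)) hcop.symm g
  have hub : u * b = b * u :=
    ((Subgroup.mem_centralizer_iff.1 hu) b (Set.mem_singleton b)).symm
  have hvx : v * x = x * v :=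
    ((Subgroup.mem_centralizer_iff.1 hv) x (Set.mem_singleton x)).symm
  obtain ⟨y, hy, c, hc, huyc⟩ := hB u hub
  refine ⟨y, hy, c * v, ?_, ?_⟩
  · rw [mul_assoc, hvx, ← mul_assoc, hc x hx, mul_assoc]
  · rw [huv, huyc, mul_assoc]

end Cfsg.Agent.Lib.Helper41.Ps
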