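import Cfsg.Agent.Lib.Helper22.CgDefs

/-!
# Cg hive (S4257, helper22), leaf CG3a (helper49): `rstab x` is normal.
-/

set_option autoImplicit false

namespace Cfsg.Agent.Lib.Helper22.Cg

open Subgroup

universe u

theorem cg3a_aux {G : Type u} [Group G] (x n g : G)
    (h : ∀ k : G, ∃ k' : G, (k * x * k⁻¹) * n = k' * x * k'⁻¹) (k : G) :
    ∃ k' : G, (k * x * k⁻¹) * (g * n * g⁻¹) = k' * x * k'⁻¹ := by
  obtain ⟨k', hk'⟩ := h (g⁻¹ * k)
  refine ⟨g * k', ?_⟩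
  have e1 : (k * x * k⁻¹) * (g * n * g⁻¹) = g * (((g⁻¹ * k) * x * (g⁻¹ * k)⁻¹) * n) * g⁻¹ := by
    group
  rw [e1, hk']
  group

/-- CG3a. `rstab x` is normal. -/
theorem cg3a {G : Type u} [Group G] (x : G) : (rstab x).Normal := by
  constructor
  intro n hn g
  obtain ⟨h1, h2⟩ := hn
  refine ⟨fun k => cg3a_aux x n g h1 k, fun k => ?_⟩
  have e : (g * n * g⁻¹)⁻¹ = g * n⁻¹ * g⁻¹ := by group
  rw [e]
  exact cg3a_aux x n⁻¹ g h2 k

end Cfsg.Agent.Lib.Helper22.Cg
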