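import Mathlib
import Cfsg.Agent.Lib.Helper17.SylowTools

/-!
# A TI centralizer of an abelian Sylow 3-subgroup with Klein four automizer (helper49)

Setting of S4018: `P` an abelian Sylow `3`-subgroup, `|N(P)| = 4|P|`, `|C(P)| = 2|P|`, `C(P)` a
TI-subset, and every proper subgroup of even order has order dividing `4|P|`.  Assuming `G` simple
we derive the local structure.  Part 1: general lemmas, the involution `t` of `C(P)`,
`N(P) = C(t)`.
-/

set_option autoImplicit false

namespace Cfsg.Agent.Lib.Helper49.KleinTI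

open Subgroup

variable {G : Type*} [Group G]

/-! ### General lemmas -/

theorem orderOf_conj' (g x : G) : orderOf (g * x * g⁻¹) = orderOf x := by
  rw [← MulAut.conj_apply, MulEquiv.orderOf_eq]

theorem mul_self_of_orderOf_two {u : G} (hu : orderOf u = 2) : u * u = 1 := by
  have := pow_orderOf_eq_one u
  rwa [hu, pow_two] at this

theorem inv_of_orderOf_two {u : G} (hu : orderOf u = 2) : u⁻¹ = u :=
  inv_eq_of_mul_eq_one_left (mul_self_of_orderOf_two hu)

theorem ne_one_of_orderOf_two {u : G} (hu : orderOf u = 2) : u ≠ 1 := by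
  rintro rfl
  rw [orderOf_one] at hu
  omega

theorem orderOf_two_of_mul_self {u : G} (h1 : u ≠ 1) (h2 : u * u = 1) : orderOf u = 2 := by
  have hd : orderOf u ∣ 2 := orderOf_dvd_of_pow_eq_one (by rw [pow_two, h2])
  rcases (Nat.dvd_prime Nat.prime_two).mp hd with h | h
  · exact absurd (orderOf_eq_one_iff.mp h) h1
  · exact h

/-- A `p`-element normalizing a Sylow `p`-subgroup lies in it. -/
theorem mem_sylow_of_mem_normalizer {p : ℕ} [Fact p.Prime] (g : G)
    (hg : IsPGroup p ↥(zpowers g)) (Q : Sylow p G)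
    (hgQ : g ∈ normalizer ((Q : Subgroup G) : Set G)) : g ∈ (Q : Subgroup G) := by
  have h1 := hg.inf_normalizer_sylow Q
  have h2 : g ∈ zpowers g ⊓ (Q : Subgroup G) := by
    rw [← h1]
    exact ⟨mem_zpowers g, hgQ⟩
  exact h2.2

/-- The two nontrivial cosets of a subgroup of index two coincide. -/
theorem inv_mul_mem_of_card_eq_two_mul [Finite G] {K L : Subgroup G} (hKL : K ≤ L)
    (hcard : Nat.card ↥L = 2 * Nat.card ↥K) {a b : G} (ha : a ∈ L) (hb : b ∈ L) (haK : a ∉ K)
    (hbK : b ∉ K) : a⁻¹ * b ∈ K := by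
  have hidx : (K.subgroupOf L).index = 2 := by
    have h1 := (K.subgroupOf L).card_mul_index
    rw [Nat.card_congr (subgroupOfEquivOfLe hKL).toEquiv, hcard] at h1
    have hpos : 0 < Nat.card ↥K := Nat.card_pos
    exact Nat.eq_of_mul_eq_mul_left hpos (by rw [h1, mul_comm])
  have h2 := mul_mem_iff_of_index_two hidx (a := (⟨a⁻¹, L.inv_mem ha⟩ : ↥L)) (b := ⟨b, hb⟩)
  have h3 : ((⟨a⁻¹, L.inv_mem ha⟩ : ↥L) ∈ K.subgroupOf L ↔ (⟨b, hb⟩ : ↥L) ∈ K.subgroupOf L) := by
    rw [mem_subgroupOf, mem_subgroupOf]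
    constructor
    · intro h
      exact absurd (by simpa using K.inv_mem h) haK
    · intro h
      exact absurd h hbK
  have h4 := h2.mpr h3
  rw [mem_subgroupOf] at h4
  exact h4

/-- Elements of a subgroup of order two. -/
theorem eq_of_mem_zpowers_of_orderOf_two {v y : G} (hv : orderOf v = 2) (hy : y ∈ zpowers v) :
    y = 1 ∨ y = v := by
  obtain ⟨k, rfl⟩ := mem_zpowers_iff.mp hy
  rw [← zpow_mod_orderOf, hv]
  rcases Int.emod_two_eq_zero_or_one k with h | h
  · left
    rw [show (k % ((2 : ℕ) : ℤ)) = 0 from h, zpow_zero]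
  · right
    rw [show (k % ((2 : ℕ) : ℤ)) = 1 from h, zpow_one]

/-- The elements of a group of order four containing an involution `v` and some `w ∉ ⟨v⟩`. -/
theorem four_cases [Finite G] {T : Subgroup G} (hT : Nat.card ↥T = 4) {v w y : G} (hv : orderOf v = 2)
    (hvT : v ∈ T) (hwT : w ∈ T) (hw1 : w ≠ 1) (hwv : w ≠ v) (hyT : y ∈ T) :
    y = 1 ∨ y = v ∨ y = w ∨ y = w * v := by
  have hle : zpowers v ≤ T := zpowers_le.mpr hvT
  have hcard : Nat.card ↥T = 2 * Nat.card ↥(zpowers v) := by
    rw [hT, Nat.card_zpowers, hv]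
  have hwz : w ∉ zpowers v := by
    intro h
    rcases eq_of_mem_zpowers_of_orderOf_two hv h with h | h
    · exact hw1 h
    · exact hwv h
  by_cases hyz : y ∈ zpowers v
  · rcases eq_of_mem_zpowers_of_orderOf_two hv hyz with h | h
    · exact Or.inl h
    · exact Or.inr (Or.inl h)
  · have h1 := inv_mul_mem_of_card_eq_two_mul hle hcard hwT hyT hwz hyz
    rcases eq_of_mem_zpowers_of_orderOf_two hv h1 with h | h
    · right; right; left
      exact (inv_mul_eq_one.mp h).symm
    · right; right; right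
      rw [← h]
      group

/-! ### The hypotheses -/

variable [Finite G]

/-- The hypotheses of S4018 together with simplicity of `G`. -/
structure Hyp (P : Sylow 3 G) : Prop where
  simple : IsSimpleGroup G
  comm : ∀ a ∈ (P : Subgroup G), ∀ b ∈ (P : Subgroup G), a * b = b * a
  cardN : Nat.card ↥(normalizer ((P : Subgroup G) : Set G)) = 4 * Nat.card ↥(P : Subgroup G)
  cardC : Nat.card ↥(centralizer ((P : Subgroup G) : Set G)) = 2 * Nat.card ↥(P : Subgroup G)
  ti : ∀ g : G, g ∉ normalizer ((centralizer ((P : Subgroup G) : Set G) : Subgroup G) : Set G) →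
    ∀ x ∈ centralizer ((P : Subgroup G) : Set G),
      g * x * g⁻¹ ∈ centralizer ((P : Subgroup G) : Set G) → x = 1
  even : ∀ H : Subgroup G, H ≠ ⊤ → 2 ∣ Nat.card ↥H → Nat.card ↥H ∣ 4 * Nat.card ↥(P : Subgroup G)

variable {P : Sylow 3 G}

namespace Hyp

theorem fact3 : Fact (Nat.Prime 3) := ⟨Nat.prime_three⟩
theorem fact2 : Fact (Nat.Prime 2) := ⟨Nat.prime_two⟩

theorem card_P (_h : Hyp P) : ∃ a : ℕ, Nat.card ↥(P : Subgroup G) = 3 ^ a := by
  have := fact3
  exact IsPGroup.iff_card.mp P.isPGroup'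

theorem odd_card_P (h : Hyp P) : ¬ 2 ∣ Nat.card ↥(P : Subgroup G) := by
  obtain ⟨a, ha⟩ := h.card_P
  rw [ha]
  intro h2
  have := Nat.Prime.dvd_of_dvd_pow Nat.prime_two h2
  omega

theorem not_mem_P_of_orderOf_two (h : Hyp P) {u : G} (hu : orderOf u = 2) :
    u ∉ (P : Subgroup G) := by
  intro hmem
  have := Subgroup.orderOf_dvd_natCard (P : Subgroup G) hmem
  rw [hu] at this
  exact h.odd_card_P this

theorem eq_one_of_mul_self (h : Hyp P) {x : G} (hx : x ∈ (P : Subgroup G)) (hxx : x * x = 1) :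
    x = 1 := by
  by_contra hx1
  exact h.not_mem_P_of_orderOf_two (orderOf_two_of_mul_self hx1 hxx) hx

theorem not_comm (h : Hyp P) : ¬ ∀ a b : G, a * b = b * a := by
  intro hc
  have h1 : centralizer ((P : Subgroup G) : Set G) = ⊤ := by
    rw [eq_top_iff]
    intro g _
    rw [mem_centralizer_iff]
    intro y _
    exact hc y g
  have h2 : normalizer ((P : Subgroup G) : Set G) = ⊤ := by
    rw [eq_top_iff, ← h1]
    exact centralizer_le_normalizer _
  have e1 := h.cardN
  have e2 := h.cardC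
  rw [h2] at e1
  rw [h1] at e2
  have hpos : 0 < Nat.card ↥(P : Subgroup G) := Nat.card_pos
  omega

theorem center_eq_bot (h : Hyp P) : center G = ⊥ := by
  haveI := h.simple
  rcases (inferInstance : (center G).Normal).eq_bot_or_eq_top with h1 | h1
  · exact h1
  · exfalso
    apply h.not_comm
    intro a b
    have ha : a ∈ center G := by rw [h1]; trivial
    exact (mem_center_iff.mp ha b).symm

theorem card_sylow2 (h : Hyp P) (T : Sylow 2 G) : Nat.card ↥(T : Subgroup G) = 4 := by
  haveI := h.simple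
  have := fact2
  obtain ⟨a, ha⟩ := h.card_P
  obtain ⟨k, hk⟩ := IsPGroup.iff_card.mp T.isPGroup'
  have h4G : 2 ^ 2 ∣ Nat.card G := by
    have h1 := (normalizer ((P : Subgroup G) : Set G)).card_subgroup_dvd_card
    rw [h.cardN] at h1
    exact dvd_trans ⟨_, rfl⟩ h1
  have h4T : 2 ^ 2 ∣ Nat.card ↥(T : Subgroup G) := T.pow_dvd_card_of_pow_dvd_card h4G
  have hT : (T : Subgroup G) ≠ ⊤ := by
    intro htop
    have hG2 : IsPGroup 2 G := by
      have h1 := T.isPGroup'
      rw [htop] at h1
      exact h1.of_equiv topEquiv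
    have hnt := hG2.center_nontrivial
    rw [h.center_eq_bot] at hnt
    exact not_nontrivial _ hnt
  have h2T : 2 ∣ Nat.card ↥(T : Subgroup G) := dvd_trans (by norm_num) h4T
  have hd := h.even T hT h2T
  rw [hk, ha] at hd
  have hcop : Nat.Coprime (2 ^ k) (3 ^ a) := Nat.Coprime.pow _ _ (by norm_num)
  have hd4 : 2 ^ k ∣ 4 := hcop.dvd_of_dvd_mul_right hd
  rw [hk] at h4T ⊢
  exact Nat.dvd_antisymm hd4 (by simpa using h4T)

theorem P_le_A (h : Hyp P) : (P : Subgroup G) ≤ centralizer ((P : Subgroup G) : Set G) := by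
  intro x hx
  rw [mem_centralizer_iff]
  intro y hy
  exact h.comm y hy x hx

theorem exists_invol (h : Hyp P) :
    ∃ t ∈ centralizer ((P : Subgroup G) : Set G), orderOf t = 2 := by
  have := fact2
  obtain ⟨t, ht⟩ := exists_prime_orderOf_dvd_card'
    (G := ↥(centralizer ((P : Subgroup G) : Set G))) 2 (by rw [h.cardC]; exact ⟨_, rfl⟩)
  exact ⟨(t : G), t.2, by rw [Subgroup.orderOf_coe, ht]⟩

variable {t : G}

theorem A_cases (h : Hyp P) (htA : t ∈ centralizer ((P : Subgroup G) : Set G))
    (ht : orderOf t = 2) {a : G} (ha : a ∈ centralizer ((P : Subgroup G) : Set G)) :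
    a ∈ (P : Subgroup G) ∨ t⁻¹ * a ∈ (P : Subgroup G) := by
  by_cases haP : a ∈ (P : Subgroup G)
  · exact Or.inl haP
  · exact Or.inr (inv_mul_mem_of_card_eq_two_mul h.P_le_A h.cardC htA ha
      (h.not_mem_P_of_orderOf_two ht) haP)

/-- `t` is the only involution of `C(P)`. -/
theorem invol_unique (h : Hyp P) (htA : t ∈ centralizer ((P : Subgroup G) : Set G))
    (ht : orderOf t = 2) {u : G} (huA : u ∈ centralizer ((P : Subgroup G) : Set G))
    (hu : orderOf u = 2) : u = t := by
  have hx := inv_mul_mem_of_card_eq_two_mul h.P_le_A h.cardC htA huA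
    (h.not_mem_P_of_orderOf_two ht) (h.not_mem_P_of_orderOf_two hu)
  have hcomm : (t⁻¹ * u) * t = t * (t⁻¹ * u) := (mem_centralizer_iff.mp htA) _ hx
  have hux : u = t * (t⁻¹ * u) := by group
  have huu : u * u = (t⁻¹ * u) * (t⁻¹ * u) := by
    calc u * u = t * (t⁻¹ * u) * (t * (t⁻¹ * u)) := by rw [← hux]
      _ = t * ((t⁻¹ * u) * t) * (t⁻¹ * u) := by group
      _ = t * (t * (t⁻¹ * u)) * (t⁻¹ * u) := by rw [hcomm]
      _ = (t * t) * ((t⁻¹ * u) * (t⁻¹ * u)) := by group
      _ = (t⁻¹ * u) * (t⁻¹ * u) := by rw [mul_self_of_orderOf_two ht, one_mul]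
  have h1 := h.eq_one_of_mul_self hx (by rw [← huu]; exact mul_self_of_orderOf_two hu)
  exact (inv_mul_eq_one.mp h1).symm

/-- `N(P)` normalizes `C(P)`. -/
theorem conj_mem_A (_h : Hyp P) {n a : G} (hn : n ∈ normalizer ((P : Subgroup G) : Set G))
    (ha : a ∈ centralizer ((P : Subgroup G) : Set G)) :
    n * a * n⁻¹ ∈ centralizer ((P : Subgroup G) : Set G) := by
  rw [mem_centralizer_iff]
  intro y hy
  have hy' : n⁻¹ * y * n ∈ (P : Subgroup G) := by
    have := (mem_normalizer_iff.mp (inv_mem hn) y).mp hy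
    rwa [inv_inv] at this
  have hcomm : (n⁻¹ * y * n) * a = a * (n⁻¹ * y * n) := (mem_centralizer_iff.mp ha) _ hy'
  have e1 : y * (n * a * n⁻¹) = n * ((n⁻¹ * y * n) * a) * n⁻¹ := by group
  have e2 : (n * a * n⁻¹) * y = n * (a * (n⁻¹ * y * n)) * n⁻¹ := by group
  rw [e1, e2, hcomm]

theorem conj_t (h : Hyp P) (htA : t ∈ centralizer ((P : Subgroup G) : Set G))
    (ht : orderOf t = 2) {n : G} (hn : n ∈ normalizer ((P : Subgroup G) : Set G)) :
    n * t * n⁻¹ = t :=
  h.invol_unique htA ht (h.conj_mem_A hn htA) (by rw [orderOf_conj', ht])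

/-- `N(P) = C(t)`. -/
theorem H_eq (h : Hyp P) (htA : t ∈ centralizer ((P : Subgroup G) : Set G))
    (ht : orderOf t = 2) :
    normalizer ((P : Subgroup G) : Set G) = centralizer ({t} : Set G) := by
  have hle : normalizer ((P : Subgroup G) : Set G) ≤ centralizer ({t} : Set G) := by
    intro n hn
    rw [mem_centralizer_iff]
    intro y hy
    rw [Set.mem_singleton_iff] at hy
    subst hy
    have h1 := h.conj_t htA ht hn
    calc y * n = (n * y * n⁻¹) * n := by rw [h1]
      _ = n * y := by group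
  apply Subgroup.eq_of_le_of_card_ge hle
  have hne : centralizer ({t} : Set G) ≠ ⊤ := by
    intro htop
    have hc : t ∈ center G := by
      rw [mem_center_iff]
      intro g
      have hg : g ∈ centralizer ({t} : Set G) := by rw [htop]; trivial
      exact (mem_centralizer_iff.mp hg t rfl).symm
    rw [h.center_eq_bot, mem_bot] at hc
    exact ne_one_of_orderOf_two ht hc
  have h2 : 2 ∣ Nat.card ↥(centralizer ({t} : Set G)) := by
    have htc : t ∈ centralizer ({t} : Set G) := by
      rw [mem_centralizer_iff]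
      intro y hy
      rw [Set.mem_singleton_iff] at hy
      rw [hy]
    have := Subgroup.orderOf_dvd_natCard _ htc
    rwa [ht] at this
  have h3 := h.even _ hne h2
  rw [h.cardN]
  exact Nat.le_of_dvd (by have : 0 < Nat.card ↥(P : Subgroup G) := Nat.card_pos; omega) h3

theorem mem_H_iff (h : Hyp P) (htA : t ∈ centralizer ((P : Subgroup G) : Set G))
    (ht : orderOf t = 2) {x : G} :
    x ∈ normalizer ((P : Subgroup G) : Set G) ↔ x * t = t * x := by
  rw [h.H_eq htA ht, mem_centralizer_iff]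
  constructor
  · intro hx
    exact (hx t rfl).symm
  · intro hx y hy
    rw [Set.mem_singleton_iff] at hy
    rw [hy, hx]

/-- `N(C(P)) ≤ N(P)`. -/
theorem NA_le (h : Hyp P) (htA : t ∈ centralizer ((P : Subgroup G) : Set G))
    (ht : orderOf t = 2) :
    normalizer ((centralizer ((P : Subgroup G) : Set G) : Subgroup G) : Set G) ≤
      normalizer ((P : Subgroup G) : Set G) := by
  intro n hn
  have h1 : n * t * n⁻¹ ∈ centralizer ((P : Subgroup G) : Set G) :=
    (mem_normalizer_iff.mp hn t).mp htA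
  have h2 := h.invol_unique htA ht h1 (by rw [orderOf_conj', ht])
  rw [h.mem_H_iff htA ht]
  calc n * t = (n * t * n⁻¹) * n := by group
    _ = t * n := by rw [h2]

/-- The TI property in usable form. -/
theorem ti' (h : Hyp P) (htA : t ∈ centralizer ((P : Subgroup G) : Set G))
    (ht : orderOf t = 2) {g x : G} (hx : x ∈ centralizer ((P : Subgroup G) : Set G))
    (hgx : g * x * g⁻¹ ∈ centralizer ((P : Subgroup G) : Set G)) (hx1 : x ≠ 1) :
    g ∈ normalizer ((P : Subgroup G) : Set G) := by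
  by_contra hg
  exact hx1 (h.ti g (fun hn => hg (h.NA_le htA ht hn)) x hx hgx)

end Hyp

end Cfsg.Agent.Lib.Helper49.KleinTI
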