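import Mathlib
import Cfsg.Agent.Lib.Helper49.KleinTI1

/-!
# S4018, part 2: one class of involutions, `N(P) = (P × ⟨t⟩) ⋊ ⟨s⟩` with `s` inverting `P`,
intersections of involution centralizers have exponent two (helper49)
-/

set_option autoImplicit false

namespace Cfsg.Agent.Lib.Helper49.KleinTI

open Subgroup

variable {G : Type*} [Group G]

theorem conj_mem_smul {p : ℕ} (g : G) (Q : Sylow p G) {x : G} (hx : x ∈ (Q : Subgroup G)) :
    g * x * g⁻¹ ∈ ((g • Q : Sylow p G) : Subgroup G) := by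
  rw [Sylow.coe_subgroup_smul]
  have := Subgroup.smul_mem_pointwise_smul x (MulAut.conj g) (Q : Subgroup G) hx
  rwa [MulAut.smul_def, MulAut.conj_apply] at this

variable [Finite G]

/-- In a Sylow `2`-subgroup `T` of order four, an element of `N(T)` fixing an involution of `T`
centralizes `T`. -/
theorem mem_centralizer_of_fix {T : Sylow 2 G} (hT : Nat.card ↥(T : Subgroup G) = 4) {c v : G}
    (hc : c ∈ normalizer ((T : Subgroup G) : Set G)) (hvT : v ∈ (T : Subgroup G))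
    (hv : orderOf v = 2) (hcv : c * v * c⁻¹ = v) : c ∈ centralizer ((T : Subgroup G) : Set G) := by
  have := Hyp.fact2
  have hTc : ∀ a ∈ (T : Subgroup G), ∀ b ∈ (T : Subgroup G), a * b = b * a := by
    have hcm := IsPGroup.isMulCommutative_of_card_eq_prime_sq (p := 2) (G := ↥(T : Subgroup G))
      (by rw [hT]; norm_num)
    intro a ha b hb
    exact congrArg Subtype.val (hcm.is_comm.comm ⟨a, ha⟩ ⟨b, hb⟩)
  have hcases : ∀ z ∈ zpowers v, c * z * c⁻¹ = z ∧ z * z = 1 := by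
    intro z hz
    rcases eq_of_mem_zpowers_of_orderOf_two hv hz with h | h
    · rw [h]
      exact ⟨by group, by group⟩
    · rw [h]
      exact ⟨hcv, mul_self_of_orderOf_two hv⟩
  have hsq : ∀ y ∈ (T : Subgroup G), (c * c) * y * (c * c)⁻¹ = y := by
    intro y hy
    have hcy : c * y * c⁻¹ ∈ (T : Subgroup G) := (mem_normalizer_iff.mp hc y).mp hy
    have hz : y⁻¹ * (c * y * c⁻¹) ∈ zpowers v := by
      by_cases hyv : y ∈ zpowers v
      · rw [(hcases y hyv).1, inv_mul_cancel]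
        exact one_mem _
      · have hcyv : c * y * c⁻¹ ∉ zpowers v := by
          intro hmem
          apply hyv
          have h1 : c⁻¹ * (c * y * c⁻¹) * c⁻¹⁻¹ = c * y * c⁻¹ := by
            have h2 := (hcases _ hmem).1
            calc c⁻¹ * (c * y * c⁻¹) * c⁻¹⁻¹ = c⁻¹ * (c * (c * y * c⁻¹) * c⁻¹) * c⁻¹⁻¹ := by
                  rw [h2]
              _ = c * y * c⁻¹ := by group
          have h3 : y = c * y * c⁻¹ := by
            calc y = c⁻¹ * (c * y * c⁻¹) * c⁻¹⁻¹ := by group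
              _ = c * y * c⁻¹ := h1
          rw [h3]
          exact hmem
        exact inv_mul_mem_of_card_eq_two_mul (zpowers_le.mpr hvT)
          (by rw [hT, Nat.card_zpowers, hv]) hy hcy hyv hcyv
    obtain ⟨hcz, hzz⟩ := hcases _ hz
    have hcy' : c * y * c⁻¹ = y * (y⁻¹ * (c * y * c⁻¹)) := by group
    calc (c * c) * y * (c * c)⁻¹ = c * (c * y * c⁻¹) * c⁻¹ := by group
      _ = c * (y * (y⁻¹ * (c * y * c⁻¹))) * c⁻¹ := by rw [← hcy']
      _ = (c * y * c⁻¹) * (c * (y⁻¹ * (c * y * c⁻¹)) * c⁻¹) := by group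
      _ = (c * y * c⁻¹) * (y⁻¹ * (c * y * c⁻¹)) := by rw [hcz]
      _ = y * ((y⁻¹ * (c * y * c⁻¹)) * (y⁻¹ * (c * y * c⁻¹))) := by group
      _ = y := by rw [hzz, mul_one]
  have hc2 : c * c ∈ centralizer ((T : Subgroup G) : Set G) := by
    rw [mem_centralizer_iff]
    intro y hy
    have h1 := hsq y hy
    calc y * (c * c) = ((c * c) * y * (c * c)⁻¹) * (c * c) := by rw [h1]
      _ = (c * c) * y := by group
  obtain ⟨k, m, hm, hkm⟩ := Nat.exists_eq_two_pow_mul_odd (orderOf_pos c).ne'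
  have hm0 : m ≠ 0 := by
    rcases hm with ⟨j, rfl⟩
    omega
  have hcm : c ^ m ∈ centralizer ((T : Subgroup G) : Set G) := by
    have hord : orderOf (c ^ m) = 2 ^ k := by
      rw [orderOf_pow_of_dvd hm0 ⟨2 ^ k, by rw [hkm, mul_comm]⟩, hkm,
        Nat.mul_div_cancel _ (Nat.pos_of_ne_zero hm0)]
    have hp : IsPGroup 2 ↥(zpowers (c ^ m)) :=
      IsPGroup.of_card (n := k) (by rw [Nat.card_zpowers, hord])
    have hN : c ^ m ∈ normalizer ((T : Subgroup G) : Set G) := pow_mem hc m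
    have hmem := mem_sylow_of_mem_normalizer (c ^ m) hp T hN
    rw [mem_centralizer_iff]
    intro y hy
    exact hTc y hy _ hmem
  have hcop : IsCoprime ((2 : ℕ) : ℤ) (m : ℤ) :=
    Nat.isCoprime_iff_coprime.mpr (Nat.coprime_two_left.mpr hm)
  obtain ⟨a, b, hab⟩ := hcop
  have hc1 : c = (c * c) ^ a * (c ^ m) ^ b := by
    calc c = c ^ (1 : ℤ) := (zpow_one c).symm
      _ = c ^ (a * ((2 : ℕ) : ℤ) + b * (m : ℤ)) := by rw [hab]
      _ = (c * c) ^ a * (c ^ m) ^ b := by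
        rw [zpow_add, mul_comm a, zpow_mul, mul_comm b, zpow_mul, zpow_natCast, zpow_natCast,
          pow_two]
  rw [hc1]
  exact mul_mem (zpow_mem hc2 a) (zpow_mem hcm b)

variable {P : Sylow 3 G} {t : G}

namespace Hyp

theorem sylow2_ne_top (h : Hyp P) (T : Sylow 2 G) : (T : Subgroup G) ≠ ⊤ := by
  haveI := h.simple
  have := fact2
  intro htop
  have hG2 : IsPGroup 2 G := by
    have h1 := T.isPGroup'
    rw [htop] at h1
    exact h1.of_equiv topEquiv
  have hnt := hG2.center_nontrivial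
  rw [h.center_eq_bot] at hnt
  exact not_nontrivial _ hnt

theorem sylow2_comm (h : Hyp P) (T : Sylow 2 G) :
    ∀ a ∈ (T : Subgroup G), ∀ b ∈ (T : Subgroup G), a * b = b * a := by
  have := fact2
  have hcm := IsPGroup.isMulCommutative_of_card_eq_prime_sq (p := 2) (G := ↥(T : Subgroup G))
    (by rw [h.card_sylow2 T]; norm_num)
  intro a ha b hb
  exact congrArg Subtype.val (hcm.is_comm.comm ⟨a, ha⟩ ⟨b, hb⟩)

/-- A Sylow `2`-subgroup containing `t` whose involutions are `t`, `c t c⁻¹`, `c² t c⁻²`. -/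
theorem exists_conj_invols (h : Hyp P) (ht : orderOf t = 2) :
    ∃ (T : Sylow 2 G) (c : G), t ∈ (T : Subgroup G) ∧
      (∀ y ∈ (T : Subgroup G), y = 1 ∨ y = t ∨ y = c * t * c⁻¹ ∨ y = (c * c) * t * (c * c)⁻¹) ∧
      c * t * c⁻¹ ≠ t ∧ c * t * c⁻¹ ∈ (T : Subgroup G) := by
  have := fact2
  haveI := h.simple
  obtain ⟨T, hT⟩ := IsPGroup.exists_le_sylow (p := 2) (P := zpowers t)
    (IsPGroup.of_card (n := 1) (by rw [Nat.card_zpowers, ht, pow_one]))
  have htT : t ∈ (T : Subgroup G) := hT (mem_zpowers t)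
  have hT4 := h.card_sylow2 T
  have hne1 : (T : Subgroup G) ≠ ⊥ := by
    intro hb
    rw [hb, Subgroup.card_bot] at hT4
    omega
  have hnot := Cfsg.Agent.Lib.Helper17.not_normalizer_le_centralizer_of_simple T hne1
    (h.sylow2_ne_top T)
  obtain ⟨c, hcN, hcC⟩ := SetLike.not_le_iff_exists.mp hnot
  obtain ⟨s, hs⟩ : ∃ s, s = c * t * c⁻¹ := ⟨_, rfl⟩
  have hsT : s ∈ (T : Subgroup G) := by
    rw [hs]
    exact (mem_normalizer_iff.mp hcN t).mp htT
  have hs2 : orderOf s = 2 := by rw [hs, orderOf_conj', ht]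
  have hst : s ≠ t := fun heq =>
    hcC (mem_centralizer_of_fix hT4 hcN htT ht (by rw [← hs]; exact heq))
  obtain ⟨r, hr⟩ : ∃ r, r = c * s * c⁻¹ := ⟨_, rfl⟩
  have hrT : r ∈ (T : Subgroup G) := by
    rw [hr]
    exact (mem_normalizer_iff.mp hcN s).mp hsT
  have hr2 : orderOf r = 2 := by rw [hr, orderOf_conj', hs2]
  have hrs : r ≠ s := fun heq =>
    hcC (mem_centralizer_of_fix hT4 hcN hsT hs2 (by rw [← hr]; exact heq))
  have hts : t * s = s * t := h.sylow2_comm T t htT s hsT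
  have hrt : r ≠ t := by
    intro heq
    have hfix : c * (t * s) * c⁻¹ = t * s := by
      calc c * (t * s) * c⁻¹ = (c * t * c⁻¹) * (c * s * c⁻¹) := by group
        _ = s * t := by rw [← hs, ← hr, heq]
        _ = t * s := hts.symm
    have hts1 : t * s ≠ 1 := by
      intro h1
      apply hst
      have := eq_inv_of_mul_eq_one_right h1
      rw [this, inv_of_orderOf_two ht]
    have hts2 : orderOf (t * s) = 2 := by
      apply orderOf_two_of_mul_self hts1
      calc t * s * (t * s) = t * (s * t) * s := by group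
        _ = t * (t * s) * s := by rw [hts]
        _ = (t * t) * (s * s) := by group
        _ = 1 := by rw [mul_self_of_orderOf_two ht, mul_self_of_orderOf_two hs2, one_mul]
    exact hcC (mem_centralizer_of_fix hT4 hcN (mul_mem htT hsT) hts2 hfix)
  have hr_eq : r = s * t := by
    rcases four_cases hT4 ht htT hsT (ne_one_of_orderOf_two hs2) hst hrT with h1 | h1 | h1 | h1
    · exact absurd h1 (ne_one_of_orderOf_two hr2)
    · exact absurd h1 hrt
    · exact absurd h1 hrs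
    · exact h1
  refine ⟨T, c, htT, ?_, by rw [← hs]; exact hst, by rw [← hs]; exact hsT⟩
  intro y hy
  rcases four_cases hT4 ht htT hsT (ne_one_of_orderOf_two hs2) hst hy with h1 | h1 | h1 | h1
  · exact Or.inl h1
  · exact Or.inr (Or.inl h1)
  · exact Or.inr (Or.inr (Or.inl (by rw [h1, hs])))
  · right; right; right
    rw [h1, ← hr_eq, hr, hs]
    group

/-- All involutions are conjugate to `t`. -/
theorem isConj_t (h : Hyp P) (ht : orderOf t = 2) {u : G} (hu : orderOf u = 2) :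
    ∃ g : G, u = g * t * g⁻¹ := by
  have := fact2
  obtain ⟨T, c, htT, hcases, -, -⟩ := h.exists_conj_invols ht
  obtain ⟨T', hT'⟩ := IsPGroup.exists_le_sylow (p := 2) (P := zpowers u)
    (IsPGroup.of_card (n := 1) (by rw [Nat.card_zpowers, hu, pow_one]))
  have huT' : u ∈ (T' : Subgroup G) := hT' (mem_zpowers u)
  obtain ⟨g, hg⟩ := MulAction.exists_smul_eq G T' T
  have hmem : g * u * g⁻¹ ∈ (T : Subgroup G) := by
    rw [← hg]
    exact conj_mem_smul g T' huT'
  have ho : orderOf (g * u * g⁻¹) = 2 := by rw [orderOf_conj', hu]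
  have hu' : u = g⁻¹ * (g * u * g⁻¹) * g := by group
  rcases hcases _ hmem with h1 | h1 | h1 | h1
  · exact absurd h1 (ne_one_of_orderOf_two ho)
  · refine ⟨g⁻¹, ?_⟩
    rw [h1] at hu'
    rw [hu']
    group
  · refine ⟨g⁻¹ * c, ?_⟩
    rw [h1] at hu'
    rw [hu']
    group
  · refine ⟨g⁻¹ * (c * c), ?_⟩
    rw [h1] at hu'
    rw [hu']
    group

/-- An involution of `N(P)` other than `t` has no nontrivial fixed point on `P`. -/
theorem fixed_trivial (h : Hyp P) (htA : t ∈ centralizer ((P : Subgroup G) : Set G))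
    (ht : orderOf t = 2) {u : G} (hu : orderOf u = 2) (hut : u ≠ t) {x : G}
    (hx : x ∈ (P : Subgroup G)) (hfix : u * x = x * u) : x = 1 := by
  have := fact3
  obtain ⟨g, hg⟩ := h.isConj_t ht hu
  by_contra hx1
  have hx't : (g⁻¹ * x * g) * t = t * (g⁻¹ * x * g) := by
    have h1 : x * (g * t * g⁻¹) = (g * t * g⁻¹) * x := by
      rw [← hg]
      exact hfix.symm
    calc (g⁻¹ * x * g) * t = g⁻¹ * (x * (g * t * g⁻¹)) * g := by group
      _ = g⁻¹ * ((g * t * g⁻¹) * x) * g := by rw [h1]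
      _ = t * (g⁻¹ * x * g) := by group
  have hx'H : g⁻¹ * x * g ∈ normalizer ((P : Subgroup G) : Set G) :=
    (h.mem_H_iff htA ht).mpr hx't
  have hp : IsPGroup 3 ↥(zpowers (g⁻¹ * x * g)) := by
    obtain ⟨k, hk⟩ := (IsPGroup.iff_orderOf.mp P.isPGroup') ⟨x, hx⟩
    apply IsPGroup.of_card (n := k)
    rw [Nat.card_zpowers]
    have h1 : orderOf (g⁻¹ * x * g) = orderOf x := by
      have h2 := orderOf_conj' g⁻¹ x
      rwa [inv_inv] at h2
    rw [h1, ← hk, Subgroup.orderOf_mk]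
  have hx'P := mem_sylow_of_mem_normalizer _ hp P hx'H
  have hgH := h.ti' htA ht (g := g⁻¹) (x := x) (h.P_le_A hx)
    (by rw [inv_inv]; exact h.P_le_A hx'P) hx1
  have h2 := (h.mem_H_iff htA ht).mp hgH
  apply hut
  rw [hg]
  calc g * t * g⁻¹ = g * (t * g⁻¹) := by group
    _ = g * (g⁻¹ * t) := by rw [h2]
    _ = t := by group

/-- An involution of `N(P)` other than `t` inverts `P`. -/
theorem inverts (h : Hyp P) (htA : t ∈ centralizer ((P : Subgroup G) : Set G))
    (ht : orderOf t = 2) {u : G} (hu : orderOf u = 2)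
    (huH : u ∈ normalizer ((P : Subgroup G) : Set G)) (hut : u ≠ t) {x : G}
    (hx : x ∈ (P : Subgroup G)) : u * x * u⁻¹ = x⁻¹ := by
  have hux : u * x * u⁻¹ ∈ (P : Subgroup G) := (mem_normalizer_iff.mp huH x).mp hx
  have hy : x * (u * x * u⁻¹) ∈ (P : Subgroup G) := mul_mem hx hux
  have huu := mul_self_of_orderOf_two hu
  have hui := inv_of_orderOf_two hu
  have hc := h.comm x hx _ hux
  have hfix : u * (x * (u * x * u⁻¹)) = (x * (u * x * u⁻¹)) * u := by
    calc u * (x * (u * x * u⁻¹)) = u * ((u * x * u⁻¹) * x) := by rw [hc]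
      _ = (u * u) * x * u⁻¹ * x := by group
      _ = x * u⁻¹ * x := by rw [huu, one_mul]
      _ = x * u * x := by rw [hui]
      _ = (x * (u * x * u⁻¹)) * u := by group
  have h1 := h.fixed_trivial htA ht hu hut hy hfix
  exact eq_inv_of_mul_eq_one_right h1

theorem exists_invol_ne (h : Hyp P) (htA : t ∈ centralizer ((P : Subgroup G) : Set G))
    (ht : orderOf t = 2) :
    ∃ s ∈ normalizer ((P : Subgroup G) : Set G), orderOf s = 2 ∧ s ≠ t := by
  obtain ⟨T, c, htT, -, hst, hsT⟩ := h.exists_conj_invols ht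
  refine ⟨c * t * c⁻¹, ?_, by rw [orderOf_conj', ht], hst⟩
  rw [h.mem_H_iff htA ht]
  exact h.sylow2_comm T _ hsT _ htT

/-- Every element of `N(P)` outside `C(P)` is an involution. -/
theorem sq_of_mem_H (h : Hyp P) (htA : t ∈ centralizer ((P : Subgroup G) : Set G))
    (ht : orderOf t = 2) {x : G} (hx : x ∈ normalizer ((P : Subgroup G) : Set G)) :
    x ∈ centralizer ((P : Subgroup G) : Set G) ∨ x * x = 1 := by
  obtain ⟨s, hsH, hs2, hst⟩ := h.exists_invol_ne htA ht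
  by_cases hxA : x ∈ centralizer ((P : Subgroup G) : Set G)
  · exact Or.inl hxA
  right
  have hsA : s ∉ centralizer ((P : Subgroup G) : Set G) :=
    fun hmem => hst (h.invol_unique htA ht hmem hs2)
  have hAH : centralizer ((P : Subgroup G) : Set G) ≤ normalizer ((P : Subgroup G) : Set G) :=
    centralizer_le_normalizer _
  have hcard : Nat.card ↥(normalizer ((P : Subgroup G) : Set G)) =
      2 * Nat.card ↥(centralizer ((P : Subgroup G) : Set G)) := by
    rw [h.cardN, h.cardC]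
    ring
  have ha := inv_mul_mem_of_card_eq_two_mul hAH hcard hsH hx hsA hxA
  obtain ⟨a, haA, hxa⟩ : ∃ a ∈ centralizer ((P : Subgroup G) : Set G), x = s * a :=
    ⟨s⁻¹ * x, ha, by group⟩
  have hss := mul_self_of_orderOf_two hs2
  have hst' : s * t = t * s := (h.mem_H_iff htA ht).mp hsH
  rcases h.A_cases htA ht haA with hb | hb
  · have hinv := h.inverts htA ht hs2 hsH hst hb
    rw [hxa]
    calc s * a * (s * a) = (s * a * s⁻¹) * (s * s) * a := by group
      _ = 1 := by rw [hinv, hss]; group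
  · obtain ⟨b, hbP, hab⟩ : ∃ b ∈ (P : Subgroup G), a = t * b := ⟨t⁻¹ * a, hb, by group⟩
    have hinv := h.inverts htA ht hs2 hsH hst hbP
    have e1 : s * (t * b) * s⁻¹ = t * b⁻¹ := by
      calc s * (t * b) * s⁻¹ = (s * t) * s⁻¹ * (s * b * s⁻¹) := by group
        _ = (t * s) * s⁻¹ * b⁻¹ := by rw [hst', hinv]
        _ = t * b⁻¹ := by group
    have e2 : b⁻¹ * t = t * b⁻¹ := mem_centralizer_iff.mp htA b⁻¹ (inv_mem hbP)
    rw [hxa, hab]
    calc s * (t * b) * (s * (t * b)) = (s * (t * b) * s⁻¹) * (s * s) * (t * b) := by group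
      _ = t * b⁻¹ * (t * b) := by rw [e1, hss, mul_one]
      _ = t * (b⁻¹ * t) * b := by group
      _ = t * (t * b⁻¹) * b := by rw [e2]
      _ = (t * t) * (b⁻¹ * b) := by group
      _ = 1 := by rw [mul_self_of_orderOf_two ht]; group

/-- Elements commuting with `t` and with a different conjugate of `t` have square one. -/
theorem sq_eq_one_of_conj (h : Hyp P) (htA : t ∈ centralizer ((P : Subgroup G) : Set G))
    (ht : orderOf t = 2) {g x : G} (hg : g * t * g⁻¹ ≠ t) (hx1 : x * t = t * x)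
    (hx2 : x * (g * t * g⁻¹) = (g * t * g⁻¹) * x) : x * x = 1 := by
  have hxH : x ∈ normalizer ((P : Subgroup G) : Set G) := (h.mem_H_iff htA ht).mpr hx1
  have hx't : (g⁻¹ * x * g) * t = t * (g⁻¹ * x * g) := by
    calc (g⁻¹ * x * g) * t = g⁻¹ * (x * (g * t * g⁻¹)) * g := by group
      _ = g⁻¹ * ((g * t * g⁻¹) * x) * g := by rw [hx2]
      _ = t * (g⁻¹ * x * g) := by group
  have hx'H : g⁻¹ * x * g ∈ normalizer ((P : Subgroup G) : Set G) :=
    (h.mem_H_iff htA ht).mpr hx't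
  rcases h.sq_of_mem_H htA ht hxH with hA | hsq
  swap
  · exact hsq
  rcases h.sq_of_mem_H htA ht hx'H with hA' | hsq'
  swap
  · calc x * x = g * ((g⁻¹ * x * g) * (g⁻¹ * x * g)) * g⁻¹ := by group
      _ = 1 := by rw [hsq']; group
  by_cases hx0 : x = 1
  · rw [hx0, one_mul]
  exfalso
  have hgH := h.ti' htA ht (g := g⁻¹) (x := x) hA (by rw [inv_inv]; exact hA') hx0
  have h2 := (h.mem_H_iff htA ht).mp hgH
  apply hg
  calc g * t * g⁻¹ = g * (t * g⁻¹) := by group
    _ = g * (g⁻¹ * t) := by rw [h2]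
    _ = t := by group

/-- Elements commuting with two distinct involutions have square one. -/
theorem sq_eq_one_of_commute_two (h : Hyp P) (htA : t ∈ centralizer ((P : Subgroup G) : Set G))
    (ht : orderOf t = 2) {w₁ w₂ x : G} (h1 : orderOf w₁ = 2) (h2 : orderOf w₂ = 2)
    (hne : w₁ ≠ w₂) (hx1 : x * w₁ = w₁ * x) (hx2 : x * w₂ = w₂ * x) : x * x = 1 := by
  obtain ⟨g₁, hg₁⟩ := h.isConj_t ht h1
  obtain ⟨g₂, hg₂⟩ := h.isConj_t ht h2
  have hne' : (g₁⁻¹ * g₂) * t * (g₁⁻¹ * g₂)⁻¹ ≠ t := by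
    intro heq
    apply hne
    rw [hg₁, hg₂]
    calc g₁ * t * g₁⁻¹ = g₁ * ((g₁⁻¹ * g₂) * t * (g₁⁻¹ * g₂)⁻¹) * g₁⁻¹ := by rw [heq]
      _ = g₂ * t * g₂⁻¹ := by group
  have e1 : (g₁⁻¹ * x * g₁) * t = t * (g₁⁻¹ * x * g₁) := by
    rw [hg₁] at hx1
    calc (g₁⁻¹ * x * g₁) * t = g₁⁻¹ * (x * (g₁ * t * g₁⁻¹)) * g₁ := by group
      _ = g₁⁻¹ * ((g₁ * t * g₁⁻¹) * x) * g₁ := by rw [hx1]
      _ = t * (g₁⁻¹ * x * g₁) := by group
  have e2 : (g₁⁻¹ * x * g₁) * ((g₁⁻¹ * g₂) * t * (g₁⁻¹ * g₂)⁻¹) =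
      ((g₁⁻¹ * g₂) * t * (g₁⁻¹ * g₂)⁻¹) * (g₁⁻¹ * x * g₁) := by
    rw [hg₂] at hx2
    calc (g₁⁻¹ * x * g₁) * ((g₁⁻¹ * g₂) * t * (g₁⁻¹ * g₂)⁻¹) =
          g₁⁻¹ * (x * (g₂ * t * g₂⁻¹)) * g₁ := by group
      _ = g₁⁻¹ * ((g₂ * t * g₂⁻¹) * x) * g₁ := by rw [hx2]
      _ = ((g₁⁻¹ * g₂) * t * (g₁⁻¹ * g₂)⁻¹) * (g₁⁻¹ * x * g₁) := by group
  have h3 := h.sq_eq_one_of_conj htA ht hne' e1 e2
  calc x * x = g₁ * ((g₁⁻¹ * x * g₁) * (g₁⁻¹ * x * g₁)) * g₁⁻¹ := by group
    _ = 1 := by rw [h3]; group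

end Hyp

end Cfsg.Agent.Lib.Helper49.KleinTI
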