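import Mathlib
import Cfsg.Agent.Lib.Helper49.KleinTI2
import Cfsg.Agent.Lib.Helper49.Friendship

/-!
# S4018, part 3: the commuting graph on involutions is a friendship graph (helper49)
-/

set_option autoImplicit false

namespace Cfsg.Agent.Lib.Helper49.KleinTI

open Subgroup

/-- The commuting graph on the involutions of a group. -/
def invGraph (G : Type*) [Group G] : SimpleGraph {u : G // orderOf u = 2} where
  Adj u v := u ≠ v ∧ u.1 * v.1 = v.1 * u.1
  symm := ⟨fun _ _ h => ⟨h.1.symm, h.2.symm⟩⟩
  loopless := ⟨fun _ h => h.1 rfl⟩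

variable {G : Type*} [Group G] [Finite G] {P : Sylow 3 G} {t : G}

namespace Hyp

/-- Two distinct involutions commute with a common third involution. -/
theorem exists_common (h : Hyp P) (htA : t ∈ centralizer ((P : Subgroup G) : Set G))
    (ht : orderOf t = 2) {u v : G} (hu : orderOf u = 2) (hv : orderOf v = 2) (huv : u ≠ v) :
    ∃ w : G, orderOf w = 2 ∧ w ≠ u ∧ w ≠ v ∧ u * w = w * u ∧ v * w = w * v := by
  have := fact3
  have huu := mul_self_of_orderOf_two hu
  have hvv := mul_self_of_orderOf_two hv
  have hui := inv_of_orderOf_two hu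
  have hvi := inv_of_orderOf_two hv
  by_cases hc : u * v = v * u
  · have h1 : u * v ≠ 1 := by
      intro h1
      apply huv
      have := eq_inv_of_mul_eq_one_left h1
      rw [this, hvi]
    have h2 : (u * v) * (u * v) = 1 := by
      calc (u * v) * (u * v) = u * (v * u) * v := by group
        _ = u * (u * v) * v := by rw [hc]
        _ = (u * u) * (v * v) := by group
        _ = 1 := by rw [huu, hvv, one_mul]
    refine ⟨u * v, orderOf_two_of_mul_self h1 h2, ?_, ?_, ?_, ?_⟩
    · intro heq
      apply ne_one_of_orderOf_two hv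
      calc v = u⁻¹ * (u * v) := by group
        _ = 1 := by rw [heq]; group
    · intro heq
      apply ne_one_of_orderOf_two hu
      calc u = (u * v) * v⁻¹ := by group
        _ = 1 := by rw [heq]; group
    · calc u * (u * v) = (u * u) * v := by group
        _ = v := by rw [huu, one_mul]
        _ = v * (u * u) := by rw [huu, mul_one]
        _ = (v * u) * u := by group
        _ = (u * v) * u := by rw [hc]
    · calc v * (u * v) = (v * u) * v := by group
        _ = (u * v) * v := by rw [hc]
  · obtain ⟨y, hy⟩ : ∃ y, y = u * v := ⟨_, rfl⟩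
    have hy1 : y ≠ 1 := by
      intro h1
      apply huv
      rw [hy] at h1
      have := eq_inv_of_mul_eq_one_left h1
      rw [this, hvi]
    have huy : u * y * u⁻¹ = y⁻¹ := by
      rw [hy, mul_inv_rev, hui, hvi]
      calc u * (u * v) * u = (u * u) * v * u := by group
        _ = v * u := by rw [huu, one_mul]
    have hvy : v * y * v⁻¹ = y⁻¹ := by
      rw [hy, mul_inv_rev, hui, hvi]
      calc v * (u * v) * v = v * u * (v * v) := by group
        _ = v * u := by rw [hvv, mul_one]
    have key0 : ∀ g : G, g * g = 1 → g * y * g⁻¹ = y⁻¹ →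
        g ∈ normalizer ((zpowers y : Subgroup G) : Set G) := by
      intro g hgg hgy
      have hfwd : ∀ n ∈ zpowers y, g * n * g⁻¹ ∈ zpowers y := by
        intro n hn
        obtain ⟨k, rfl⟩ := mem_zpowers_iff.mp hn
        have e : g * y ^ k * g⁻¹ = (y⁻¹) ^ k := by
          rw [← hgy, conj_zpow]
        rw [e]
        exact zpow_mem (inv_mem (mem_zpowers y)) k
      rw [mem_normalizer_iff]
      intro n
      constructor
      · exact hfwd n
      · intro hn
        have h3 := hfwd _ hn
        have hgi : g⁻¹ = g := inv_eq_of_mul_eq_one_left hgg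
        have e : g * (g * n * g⁻¹) * g⁻¹ = n := by
          calc g * (g * n * g⁻¹) * g⁻¹ = (g * g) * n * (g⁻¹ * g⁻¹) := by group
            _ = n := by rw [hgi, hgg]; group
        rwa [e] at h3
    have hD : closure ({u, v} : Set G) ≠ ⊤ := by
      intro htop
      have hnorm : (zpowers y).Normal := by
        rw [← normalizer_eq_top_iff, eq_top_iff, ← htop, closure_le]
        intro g hg
        rcases hg with rfl | hg
        · exact key0 _ huu huy
        · rw [Set.mem_singleton_iff] at hg
          rw [hg]
          exact key0 _ hvv hvy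
      haveI := h.simple
      rcases hnorm.eq_bot_or_eq_top with hb | ht'
      · have h3 : y ∈ (⊥ : Subgroup G) := by
          rw [← hb]
          exact mem_zpowers y
        exact hy1 (mem_bot.mp h3)
      · have hu' : u ∈ zpowers y := by rw [ht']; trivial
        have hv' : v ∈ zpowers y := by rw [ht']; trivial
        obtain ⟨i, hi⟩ := mem_zpowers_iff.mp hu'
        obtain ⟨j, hj⟩ := mem_zpowers_iff.mp hv'
        apply hc
        rw [← hi, ← hj, ← zpow_add, ← zpow_add, add_comm]
    have h2D : 2 ∣ Nat.card ↥(closure ({u, v} : Set G)) := by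
      have hmem : u ∈ closure ({u, v} : Set G) := subset_closure (Set.mem_insert _ _)
      have h3 := Subgroup.orderOf_dvd_natCard _ hmem
      rwa [hu] at h3
    have hdvd := h.even _ hD h2D
    have hyD : y ∈ closure ({u, v} : Set G) := by
      rw [hy]
      exact mul_mem (subset_closure (Set.mem_insert _ _))
        (subset_closure (Set.mem_insert_of_mem _ (Set.mem_singleton _)))
    have hoy : orderOf y ∣ 4 * Nat.card ↥(P : Subgroup G) :=
      dvd_trans (Subgroup.orderOf_dvd_natCard _ hyD) hdvd
    rcases Nat.even_or_odd (orderOf y) with he | ho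
    · obtain ⟨k, hk⟩ := he
      have hk0 : k ≠ 0 := by
        intro h0
        have := orderOf_pos y
        omega
      have hz2 : orderOf (y ^ k) = 2 := by
        rw [orderOf_pow_of_dvd hk0 ⟨2, by rw [hk]; ring⟩, hk]
        exact Nat.div_eq_of_eq_mul_left (Nat.pos_of_ne_zero hk0) (by ring)
      have hzi := inv_of_orderOf_two hz2
      have hcomm : ∀ g : G, g * y * g⁻¹ = y⁻¹ → g * y ^ k = y ^ k * g := by
        intro g hgy
        have e : g * y ^ k * g⁻¹ = y ^ k := by
          rw [← conj_pow, hgy, inv_pow, hzi]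
        calc g * y ^ k = (g * y ^ k * g⁻¹) * g := by group
          _ = y ^ k * g := by rw [e]
      have cu := hcomm u huy
      have cv := hcomm v hvy
      refine ⟨y ^ k, hz2, ?_, ?_, cu, cv⟩
      · intro heq
        apply hc
        rw [← heq]
        exact cv.symm
      · intro heq
        apply hc
        rw [← heq]
        exact cu
    · obtain ⟨a, ha⟩ := h.card_P
      have hcop : Nat.Coprime (orderOf y) 4 := by
        have h3 : Nat.Coprime (orderOf y) 2 := Nat.coprime_two_right.mpr ho
        have h4 := Nat.Coprime.pow_right 2 h3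
        norm_num at h4
        exact h4
      have hd3 : orderOf y ∣ 3 ^ a := by
        rw [ha] at hoy
        exact hcop.dvd_of_dvd_mul_left hoy
      obtain ⟨j, -, hyj⟩ := (Nat.dvd_prime_pow Nat.prime_three).mp hd3
      have hp : IsPGroup 3 ↥(zpowers y) :=
        IsPGroup.of_card (n := j) (by rw [Nat.card_zpowers, hyj])
      obtain ⟨Q, hQ⟩ := hp.exists_le_sylow
      obtain ⟨g, hg⟩ := MulAction.exists_smul_eq G Q P
      have hy'P : g * y * g⁻¹ ∈ (P : Subgroup G) := by
        rw [← hg]
        exact conj_mem_smul g Q (hQ (mem_zpowers y))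
      have hy'1 : g * y * g⁻¹ ≠ 1 := by
        intro h1
        apply hy1
        calc y = g⁻¹ * (g * y * g⁻¹) * g := by group
          _ = 1 := by rw [h1]; group
      have key : ∀ e : G, e * y * e⁻¹ = y⁻¹ →
          e * (g⁻¹ * t * g) = (g⁻¹ * t * g) * e := by
        intro e he
        have h1 : (g * e * g⁻¹) * (g * y * g⁻¹) * (g * e * g⁻¹)⁻¹ = (g * y * g⁻¹)⁻¹ := by
          calc (g * e * g⁻¹) * (g * y * g⁻¹) * (g * e * g⁻¹)⁻¹ = g * (e * y * e⁻¹) * g⁻¹ := by
                group
            _ = g * y⁻¹ * g⁻¹ := by rw [he]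
            _ = (g * y * g⁻¹)⁻¹ := by group
        have h2 : (g * e * g⁻¹) * (g * y * g⁻¹) * (g * e * g⁻¹)⁻¹ ∈
            centralizer ((P : Subgroup G) : Set G) := by
          rw [h1]
          exact inv_mem (h.P_le_A hy'P)
        have h3 := h.ti' htA ht (h.P_le_A hy'P) h2 hy'1
        have h4 := (h.mem_H_iff htA ht).mp h3
        calc e * (g⁻¹ * t * g) = g⁻¹ * ((g * e * g⁻¹) * t) * g := by group
          _ = g⁻¹ * (t * (g * e * g⁻¹)) * g := by rw [h4]
          _ = (g⁻¹ * t * g) * e := by group
      have cu := key u huy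
      have cv := key v hvy
      have hw2 : orderOf (g⁻¹ * t * g) = 2 := by
        have h3 := orderOf_conj' g⁻¹ t
        rwa [inv_inv, ht] at h3
      refine ⟨g⁻¹ * t * g, hw2, ?_, ?_, cu, cv⟩
      · intro heq
        apply hc
        rw [← heq]
        exact cv.symm
      · intro heq
        apply hc
        rw [← heq]
        exact cu

/-- The common commuting involution is unique. -/
theorem common_unique (h : Hyp P) (htA : t ∈ centralizer ((P : Subgroup G) : Set G))
    (ht : orderOf t = 2) {u v w w' : G} (hu : orderOf u = 2) (hv : orderOf v = 2) (huv : u ≠ v)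
    (hw : orderOf w = 2) (hw' : orderOf w' = 2) (hwu : w ≠ u) (hwv : w ≠ v) (hw'u : w' ≠ u)
    (hw'v : w' ≠ v) (c1 : u * w = w * u) (c2 : v * w = w * v) (c3 : u * w' = w' * u)
    (c4 : v * w' = w' * v) : w = w' := by
  have := fact2
  by_contra hne
  have e1 : (u * v) * w = w * (u * v) := by
    calc (u * v) * w = u * (v * w) := by group
      _ = u * (w * v) := by rw [c2]
      _ = (u * w) * v := by group
      _ = (w * u) * v := by rw [c1]
      _ = w * (u * v) := by group
  have e2 : (u * v) * w' = w' * (u * v) := by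
    calc (u * v) * w' = u * (v * w') := by group
      _ = u * (w' * v) := by rw [c4]
      _ = (u * w') * v := by group
      _ = (w' * u) * v := by rw [c3]
      _ = w' * (u * v) := by group
  have huv2 : (u * v) * (u * v) = 1 := h.sq_eq_one_of_commute_two htA ht hw hw' hne e1 e2
  have hcomm : u * v = v * u := by
    have h3 : u * v = (u * v)⁻¹ := eq_inv_of_mul_eq_one_left huv2
    rw [mul_inv_rev, inv_of_orderOf_two hu, inv_of_orderOf_two hv] at h3
    exact h3
  have hE : IsPGroup 2 ↥(centralizer ({u} : Set G) ⊓ centralizer ({v} : Set G)) := by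
    intro x
    refine ⟨1, ?_⟩
    have hx := x.2
    have hxu : (x : G) * u = u * x := mem_centralizer_singleton_iff.mp hx.1
    have hxv : (x : G) * v = v * x := mem_centralizer_singleton_iff.mp hx.2
    have h3 := h.sq_eq_one_of_commute_two htA ht hu hv huv hxu hxv
    apply Subtype.ext
    rw [pow_one, pow_two]
    exact h3
  obtain ⟨T', hT'⟩ := hE.exists_le_sylow
  have hT4 := h.card_sylow2 T'
  have memE : ∀ x : G, x * u = u * x → x * v = v * x → x ∈ (T' : Subgroup G) :=
    fun x hxu hxv => hT' ⟨mem_centralizer_singleton_iff.mpr hxu,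
      mem_centralizer_singleton_iff.mpr hxv⟩
  have huT : u ∈ (T' : Subgroup G) := memE u rfl hcomm
  have hvT : v ∈ (T' : Subgroup G) := memE v hcomm.symm rfl
  have hwT : w ∈ (T' : Subgroup G) := memE w c1.symm c2.symm
  have hw'T : w' ∈ (T' : Subgroup G) := memE w' c3.symm c4.symm
  have hw_eq : w = v * u := by
    rcases four_cases hT4 hu huT hvT (ne_one_of_orderOf_two hv) huv.symm hwT with h1 | h1 | h1 | h1
    · exact absurd h1 (ne_one_of_orderOf_two hw)
    · exact absurd h1 hwu
    · exact absurd h1 hwv
    · exact h1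
  have hw'_eq : w' = v * u := by
    rcases four_cases hT4 hu huT hvT (ne_one_of_orderOf_two hv) huv.symm hw'T with
      h1 | h1 | h1 | h1
    · exact absurd h1 (ne_one_of_orderOf_two hw')
    · exact absurd h1 hw'u
    · exact absurd h1 hw'v
    · exact h1
  exact hne (hw_eq.trans hw'_eq.symm)

open FriendshipThm in
/-- The commuting graph on involutions is a friendship graph. -/
theorem friendship (h : Hyp P) (htA : t ∈ centralizer ((P : Subgroup G) : Set G))
    (ht : orderOf t = 2) [Fintype {u : G // orderOf u = 2}] : Friendship (invGraph G) := by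
  classical
  intro u v huv
  rw [Fintype.card_eq_one_iff]
  have huv' : u.1 ≠ v.1 := fun e => huv (Subtype.ext e)
  obtain ⟨w, hw2, hwu, hwv, c1, c2⟩ := h.exists_common htA ht u.2 v.2 huv'
  have hmem : (⟨w, hw2⟩ : {u : G // orderOf u = 2}) ∈ (invGraph G).commonNeighbors u v := by
    rw [SimpleGraph.mem_commonNeighbors]
    exact ⟨⟨fun e => hwu (congrArg Subtype.val e).symm, c1⟩,
      ⟨fun e => hwv (congrArg Subtype.val e).symm, c2⟩⟩
  refine ⟨⟨⟨w, hw2⟩, hmem⟩, ?_⟩
  rintro ⟨⟨w', hw'2⟩, hmem'⟩
  rw [SimpleGraph.mem_commonNeighbors] at hmem'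
  obtain ⟨⟨n1, d1⟩, ⟨n2, d2⟩⟩ := hmem'
  apply Subtype.ext
  apply Subtype.ext
  exact h.common_unique htA ht u.2 v.2 huv' hw'2 hw2
    (fun e => n1 (Subtype.ext e.symm)) (fun e => n2 (Subtype.ext e.symm)) hwu hwv d1 d2 c1 c2

/-- The hypotheses are contradictory. -/
theorem false_of_hyp (h : Hyp P) : False := by
  classical
  obtain ⟨t, htA, ht⟩ := h.exists_invol
  letI : Fintype {u : G // orderOf u = 2} := Fintype.ofFinite _
  haveI : Nonempty {u : G // orderOf u = 2} := ⟨⟨t, ht⟩⟩
  obtain ⟨w, hw⟩ := FriendshipThm.friendship_theorem (h.friendship htA ht)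
  have hall : ∀ u : G, orderOf u = 2 → w.1 * u = u * w.1 := by
    intro u hu
    by_cases heq : w = ⟨u, hu⟩
    · have h1 : w.1 = u := congrArg Subtype.val heq
      rw [h1]
    · exact (hw ⟨u, hu⟩ heq).2
  haveI := h.simple
  have hN : normalClosure ({w.1} : Set G) ≤ centralizer ({w.1} : Set G) := by
    unfold normalClosure
    rw [closure_le]
    intro x hx
    rw [Group.mem_conjugatesOfSet_iff] at hx
    obtain ⟨a, ha, hax⟩ := hx
    rw [Set.mem_singleton_iff] at ha
    rw [ha] at hax
    obtain ⟨c, hc⟩ := isConj_iff.mp hax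
    have hx2 : orderOf x = 2 := by rw [← hc, orderOf_conj', w.2]
    rw [SetLike.mem_coe, mem_centralizer_singleton_iff]
    exact (hall x hx2).symm
  have hne : normalClosure ({w.1} : Set G) ≠ ⊥ := by
    intro hb
    have h1 : w.1 ∈ normalClosure ({w.1} : Set G) := subset_normalClosure (Set.mem_singleton _)
    rw [hb, mem_bot] at h1
    exact ne_one_of_orderOf_two w.2 h1
  have htop := (normalClosure_normal (s := ({w.1} : Set G))).eq_bot_or_eq_top.resolve_left hne
  have hc : w.1 ∈ center G := by
    rw [mem_center_iff]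
    intro g
    have hg : g ∈ centralizer ({w.1} : Set G) := hN (by rw [htop]; trivial)
    exact mem_centralizer_singleton_iff.mp hg
  rw [h.center_eq_bot, mem_bot] at hc
  exact ne_one_of_orderOf_two w.2 hc

end Hyp

end Cfsg.Agent.Lib.Helper49.KleinTI
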