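import Cfsg.Agent.Lib.Helper20.F4cDefs
import Cfsg.Agent.S1025

/-! # F4c hive (S2179, owner helper20): leaf F4C-CONJ6, core (helper49)

The six generators `x_33, x_27, x_25, x_24, x_34, x_26` act on `T a b c d e f` by explicit formulas
(`27 : 39 → 40`, `34 : 39 → 44`, `33 : 40 → 44`, `25 : 45 → 46`, `26 : 45 → 47`, `24 : 46 → 47`);
`conj6_core` is `conj6` with the statement of `T_inj` (leaf F4C-TINJ) as a hypothesis. -/

set_option autoImplicit false

namespace Cfsg.Agent.Lib.Helper20.F4c

open Cfsg Cfsg.Lie Cfsg.Agent.Lib.Helper36 Cfsg.Agent.Lib.Helper18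

section grp
variable {G : Type*} [Group G]
theorem conj6_e27 (A B C D E Ff X : G) :
    A * (X * B) * C * D * E * Ff = A * X * B * C * D * E * Ff := by simp only [mul_assoc]
theorem conj6_e34 (A B C D E Ff X : G) (hc : X * B = B * X) :
    A * B * (X * C) * D * E * Ff = A * X * B * C * D * E * Ff := by
  rw [mul_assoc A X B, hc]; simp only [mul_assoc]
theorem conj6_e33 (A B C D E Ff X : G) :
    A * B * (X * C) * D * E * Ff = A * (B * X) * C * D * E * Ff := by simp only [mul_assoc]
theorem conj6_e25 (A B C D E Ff X : G) :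
    A * B * C * D * (X * E) * Ff = A * B * C * (D * X) * E * Ff := by simp only [mul_assoc]
theorem conj6_e26 (A B C D E Ff X : G) (hc : X * E = E * X) :
    A * B * C * D * E * (X * Ff) = A * B * C * (D * X) * E * Ff := by
  rw [mul_assoc (A * B * C) (D * X) E, mul_assoc D X E, hc]; simp only [mul_assoc]
theorem conj6_e24 (A B C D E Ff X : G) :
    A * B * C * D * E * (X * Ff) = A * B * C * D * (E * X) * Ff := by simp only [mul_assoc]
end grp

variable (F : Type*) [Field F]

/-- commuting root elements (constants vanish over `ℤ`) -/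
theorem conj6_comm0 (r s : ℕ) (hr : r < chevF4.nroots) (h : commVanish chevF4 0 r s = true) (t u : F) :
    xf F s u * xf F r t = xf F r t * xf F s u :=
  comm_of_vanish chevF4 hF4 F 0 (hp0 F) r s hr h t u

/-- commuting root elements in characteristic 2 -/
theorem conj6_comm2 [CharP F 2] (r s : ℕ) (hr : r < chevF4.nroots) (h : commVanish chevF4 2 r s = true)
    (t u : F) : xf F s u * xf F r t = xf F r t * xf F s u :=
  comm_of_vanish chevF4 hF4 F 2 (hp2 F) r s hr h t u

/-- a commutator with a single term -/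
theorem conj6_comm1 (r s k : ℕ) (C : ℤ) (hr : r < chevF4.nroots) (hs : s < chevF4.nroots) (hrs : s ≠ r)
    (hneg : s ≠ chevF4.neg r) (hterms : chevF4.commTerms r s = [(k, C, 1, 1)]) (t u : F) :
    xf F s u * xf F r t = xf F r t * xf F s u * xf F k ((C : F) * (-t) * u) := by
  have hcf := Cfsg.Agent.S1025.result (F := F) chevF4 hF4 r s hr hs hrs hneg t u
  apply Units.ext
  unfold xf
  simp only [Units.val_mul, xGL_coe]
  rw [hcf]
  congr 1
  unfold ChevalleyDatum.commWord ChevalleyDatum.wordMat
  rw [hterms]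
  simp

theorem conj6_semi0 [CharP F 2] (r s : ℕ) (hr : r < chevF4.nroots) (h : commVanish chevF4 2 r s = true)
    (t u : F) : SemiconjBy (xf F s u) (xf F r t) (xf F r t) := conj6_comm2 F r s hr h t u

theorem conj6_semi1 (r s k : ℕ) (C : ℤ) (hr : r < chevF4.nroots) (hs : s < chevF4.nroots)
    (hk : k < chevF4.nroots) (hrs : s ≠ r) (hneg : s ≠ chevF4.neg r)
    (hterms : chevF4.commTerms r s = [(k, C, 1, 1)]) (hks : commVanish chevF4 0 k s = true) (t u : F) :
    SemiconjBy (xf F s u) (xf F r t) (xf F r t * xf F k ((C : F) * (-t) * u)) := by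
  unfold SemiconjBy
  rw [conj6_comm1 F r s k C hr hs hrs hneg hterms t u, mul_assoc, conj6_comm0 F k s hk hks, ← mul_assoc]

/-- `x_27(u)` : `39 → 40` -/
theorem conj6_gen27 [CharP F 2] (u a b c d e f : F) :
    SemiconjBy (xf F 27 u) (T F a b c d e f) (T F a (((-1 : ℤ) : F) * (-a) * u + b) c d e f) := by
  have h := ((((((conj6_semi1 F 39 27 40 (-1) (by decide) (by decide) (by decide) (by decide)
      (by decide +kernel) (by decide +kernel) (by decide +kernel) a u).mul_right
      (conj6_semi0 F 40 27 (by decide) (by decide +kernel) b u)).mul_right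
      (conj6_semi0 F 44 27 (by decide) (by decide +kernel) c u)).mul_right
      (conj6_semi0 F 45 27 (by decide) (by decide +kernel) d u)).mul_right
      (conj6_semi0 F 46 27 (by decide) (by decide +kernel) e u)).mul_right
      (conj6_semi0 F 47 27 (by decide) (by decide +kernel) f u))
  have e1 : T F a (((-1 : ℤ) : F) * (-a) * u + b) c d e f =
      xf F 39 a * xf F 40 (((-1 : ℤ) : F) * (-a) * u) * xf F 40 b * xf F 44 c * xf F 45 d * xf F 46 e *
        xf F 47 f := by
    unfold T xf
    rw [xGL_add]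
    exact conj6_e27 _ _ _ _ _ _ _
  rw [e1]
  exact h

/-- `x_34(u)` : `39 → 44` -/
theorem conj6_gen34 [CharP F 2] (u a b c d e f : F) :
    SemiconjBy (xf F 34 u) (T F a b c d e f) (T F a b (((-1 : ℤ) : F) * (-a) * u + c) d e f) := by
  have h := ((((((conj6_semi1 F 39 34 44 (-1) (by decide) (by decide) (by decide) (by decide)
      (by decide +kernel) (by decide +kernel) (by decide +kernel) a u).mul_right
      (conj6_semi0 F 40 34 (by decide) (by decide +kernel) b u)).mul_right
      (conj6_semi0 F 44 34 (by decide) (by decide +kernel) c u)).mul_right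
      (conj6_semi0 F 45 34 (by decide) (by decide +kernel) d u)).mul_right
      (conj6_semi0 F 46 34 (by decide) (by decide +kernel) e u)).mul_right
      (conj6_semi0 F 47 34 (by decide) (by decide +kernel) f u))
  have hc := conj6_comm0 F 40 44 (by decide) (by decide +kernel) b (((-1 : ℤ) : F) * (-a) * u)
  have e1 : T F a b (((-1 : ℤ) : F) * (-a) * u + c) d e f =
      xf F 39 a * xf F 44 (((-1 : ℤ) : F) * (-a) * u) * xf F 40 b * xf F 44 c * xf F 45 d * xf F 46 e *
        xf F 47 f := by
    unfold T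
    unfold xf at hc ⊢
    rw [xGL_add]
    exact conj6_e34 _ _ _ _ _ _ _ hc
  rw [e1]
  exact h

/-- `x_33(u)` : `40 → 44` -/
theorem conj6_gen33 [CharP F 2] (u a b c d e f : F) :
    SemiconjBy (xf F 33 u) (T F a b c d e f) (T F a b (((-1 : ℤ) : F) * (-b) * u + c) d e f) := by
  have h := ((((((conj6_semi0 F 39 33 (by decide) (by decide +kernel) a u).mul_right
      (conj6_semi1 F 40 33 44 (-1) (by decide) (by decide) (by decide) (by decide)
        (by decide +kernel) (by decide +kernel) (by decide +kernel) b u)).mul_right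
      (conj6_semi0 F 44 33 (by decide) (by decide +kernel) c u)).mul_right
      (conj6_semi0 F 45 33 (by decide) (by decide +kernel) d u)).mul_right
      (conj6_semi0 F 46 33 (by decide) (by decide +kernel) e u)).mul_right
      (conj6_semi0 F 47 33 (by decide) (by decide +kernel) f u))
  have e1 : T F a b (((-1 : ℤ) : F) * (-b) * u + c) d e f =
      xf F 39 a * (xf F 40 b * xf F 44 (((-1 : ℤ) : F) * (-b) * u)) * xf F 44 c * xf F 45 d * xf F 46 e *
        xf F 47 f := by
    unfold T xf
    rw [xGL_add]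
    exact conj6_e33 _ _ _ _ _ _ _
  rw [e1]
  exact h

/-- `x_25(u)` : `45 → 46` -/
theorem conj6_gen25 [CharP F 2] (u a b c d e f : F) :
    SemiconjBy (xf F 25 u) (T F a b c d e f) (T F a b c d (((-1 : ℤ) : F) * (-d) * u + e) f) := by
  have h := ((((((conj6_semi0 F 39 25 (by decide) (by decide +kernel) a u).mul_right
      (conj6_semi0 F 40 25 (by decide) (by decide +kernel) b u)).mul_right
      (conj6_semi0 F 44 25 (by decide) (by decide +kernel) c u)).mul_right
      (conj6_semi1 F 45 25 46 (-1) (by decide) (by decide) (by decide) (by decide)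
        (by decide +kernel) (by decide +kernel) (by decide +kernel) d u)).mul_right
      (conj6_semi0 F 46 25 (by decide) (by decide +kernel) e u)).mul_right
      (conj6_semi0 F 47 25 (by decide) (by decide +kernel) f u))
  have e1 : T F a b c d (((-1 : ℤ) : F) * (-d) * u + e) f =
      xf F 39 a * xf F 40 b * xf F 44 c * (xf F 45 d * xf F 46 (((-1 : ℤ) : F) * (-d) * u)) * xf F 46 e *
        xf F 47 f := by
    unfold T xf
    rw [xGL_add]
    exact conj6_e25 _ _ _ _ _ _ _
  rw [e1]
  exact h

/-- `x_26(u)` : `45 → 47` -/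
theorem conj6_gen26 [CharP F 2] (u a b c d e f : F) :
    SemiconjBy (xf F 26 u) (T F a b c d e f) (T F a b c d e (((-1 : ℤ) : F) * (-d) * u + f)) := by
  have h := ((((((conj6_semi0 F 39 26 (by decide) (by decide +kernel) a u).mul_right
      (conj6_semi0 F 40 26 (by decide) (by decide +kernel) b u)).mul_right
      (conj6_semi0 F 44 26 (by decide) (by decide +kernel) c u)).mul_right
      (conj6_semi1 F 45 26 47 (-1) (by decide) (by decide) (by decide) (by decide)
        (by decide +kernel) (by decide +kernel) (by decide +kernel) d u)).mul_right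
      (conj6_semi0 F 46 26 (by decide) (by decide +kernel) e u)).mul_right
      (conj6_semi0 F 47 26 (by decide) (by decide +kernel) f u))
  have hc := conj6_comm0 F 46 47 (by decide) (by decide +kernel) e (((-1 : ℤ) : F) * (-d) * u)
  have e1 : T F a b c d e (((-1 : ℤ) : F) * (-d) * u + f) =
      xf F 39 a * xf F 40 b * xf F 44 c * (xf F 45 d * xf F 47 (((-1 : ℤ) : F) * (-d) * u)) * xf F 46 e *
        xf F 47 f := by
    unfold T
    unfold xf at hc ⊢
    rw [xGL_add]
    exact conj6_e26 _ _ _ _ _ _ _ hc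
  rw [e1]
  exact h

/-- `x_24(u)` : `46 → 47` -/
theorem conj6_gen24 [CharP F 2] (u a b c d e f : F) :
    SemiconjBy (xf F 24 u) (T F a b c d e f) (T F a b c d e (((-1 : ℤ) : F) * (-e) * u + f)) := by
  have h := ((((((conj6_semi0 F 39 24 (by decide) (by decide +kernel) a u).mul_right
      (conj6_semi0 F 40 24 (by decide) (by decide +kernel) b u)).mul_right
      (conj6_semi0 F 44 24 (by decide) (by decide +kernel) c u)).mul_right
      (conj6_semi0 F 45 24 (by decide) (by decide +kernel) d u)).mul_right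
      (conj6_semi1 F 46 24 47 (-1) (by decide) (by decide) (by decide) (by decide)
        (by decide +kernel) (by decide +kernel) (by decide +kernel) e u)).mul_right
      (conj6_semi0 F 47 24 (by decide) (by decide +kernel) f u))
  have e1 : T F a b c d e (((-1 : ℤ) : F) * (-e) * u + f) =
      xf F 39 a * xf F 40 b * xf F 44 c * xf F 45 d * (xf F 46 e * xf F 47 (((-1 : ℤ) : F) * (-e) * u)) *
        xf F 47 f := by
    unfold T xf
    rw [xGL_add]
    exact conj6_e24 _ _ _ _ _ _ _
  rw [e1]
  exact h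

/-- F4C-CONJ6, core: `T_inj` as a hypothesis -/
theorem conj6_core [CharP F 2]
    (hinj : ∀ a b c d e f a' b' c' d' e' f' : F, T F a b c d e f = T F a' b' c' d' e' f' →
      a = a' ∧ b = b' ∧ c = c' ∧ d = d' ∧ e = e' ∧ f = f')
    (t33 t27 t25 t24 t34 t26 : F)
    (h : (xf F 33 t33 * xf F 27 t27 * xf F 25 t25 * xf F 24 t24 * xf F 34 t34 * xf F 26 t26) *
        T F 1 0 0 1 0 0 *
        (xf F 33 t33 * xf F 27 t27 * xf F 25 t25 * xf F 24 t24 * xf F 34 t34 * xf F 26 t26)⁻¹ =
      T F 1 0 0 1 0 0) :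
    t27 = 0 ∧ t25 = 0 ∧ t34 = 0 ∧ t26 = 0 := by
  have s26 := conj6_gen26 F t26 1 0 0 1 0 0
  have s34 := conj6_gen34 F t34 1 0 0 1 0 (((-1 : ℤ) : F) * (-1) * t26 + 0)
  have s24 := conj6_gen24 F t24 1 0 (((-1 : ℤ) : F) * (-1) * t34 + 0) 1 0
    (((-1 : ℤ) : F) * (-1) * t26 + 0)
  have s25 := conj6_gen25 F t25 1 0 (((-1 : ℤ) : F) * (-1) * t34 + 0) 1 0
    (((-1 : ℤ) : F) * (-0) * t24 + (((-1 : ℤ) : F) * (-1) * t26 + 0))
  have s27 := conj6_gen27 F t27 1 0 (((-1 : ℤ) : F) * (-1) * t34 + 0) 1
    (((-1 : ℤ) : F) * (-1) * t25 + 0)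
    (((-1 : ℤ) : F) * (-0) * t24 + (((-1 : ℤ) : F) * (-1) * t26 + 0))
  have s33 := conj6_gen33 F t33 1 (((-1 : ℤ) : F) * (-1) * t27 + 0)
    (((-1 : ℤ) : F) * (-1) * t34 + 0) 1
    (((-1 : ℤ) : F) * (-1) * t25 + 0)
    (((-1 : ℤ) : F) * (-0) * t24 + (((-1 : ℤ) : F) * (-1) * t26 + 0))
  have hall := ((((s33.mul_left s27).mul_left s25).mul_left s24).mul_left s34).mul_left s26
  have heq := h.symm.trans (mul_inv_eq_iff_eq_mul.mpr hall.eq)
  obtain ⟨-, hb, hc, -, he, hf⟩ := hinj _ _ _ _ _ _ _ _ _ _ _ _ heq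
  push_cast at hb hc he hf
  have h27 : t27 = 0 := by linear_combination (-1 : F) * hb
  have h25 : t25 = 0 := by linear_combination (-1 : F) * he
  have h26 : t26 = 0 := by linear_combination (-1 : F) * hf
  have h34 : t34 = 0 := by linear_combination (-1 : F) * hc - t33 * h27
  exact ⟨h27, h25, h34, h26⟩

end Cfsg.Agent.Lib.Helper20.F4c
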