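import Cfsg.Agent.Lib.Helper20.F4cDefs

/-! # F4c hive (S2179, owner helper20): leaf F4C-TMUL `T_mul`, `mem_Tgrp` (helper49) -/

set_option autoImplicit false

namespace Cfsg.Agent.Lib.Helper20.F4c

open Cfsg Cfsg.Lie Cfsg.Agent.Lib.Helper36 Cfsg.Agent.Lib.Helper18

/-- rearranging a product of six by six pairwise commuting elements -/
theorem tmul_six {G : Type*} [Group G] (A1 A2 A3 A4 A5 A6 B1 B2 B3 B4 B5 B6 : G)
    (h21 : Commute A2 B1)
    (h31 : Commute A3 B1) (h32 : Commute A3 B2)
    (h41 : Commute A4 B1) (h42 : Commute A4 B2) (h43 : Commute A4 B3)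
    (h51 : Commute A5 B1) (h52 : Commute A5 B2) (h53 : Commute A5 B3) (h54 : Commute A5 B4)
    (h61 : Commute A6 B1) (h62 : Commute A6 B2) (h63 : Commute A6 B3) (h64 : Commute A6 B4)
    (h65 : Commute A6 B5) :
    A1 * A2 * A3 * A4 * A5 * A6 * (B1 * B2 * B3 * B4 * B5 * B6) =
      A1 * B1 * (A2 * B2) * (A3 * B3) * (A4 * B4) * (A5 * B5) * (A6 * B6) := by
  rw [Commute.mul_mul_mul_comm ((((h61.mul_right h62).mul_right h63).mul_right h64).mul_right h65),
    Commute.mul_mul_mul_comm (((h51.mul_right h52).mul_right h53).mul_right h54),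
    Commute.mul_mul_mul_comm ((h41.mul_right h42).mul_right h43),
    Commute.mul_mul_mul_comm (h31.mul_right h32),
    Commute.mul_mul_mul_comm h21]

variable (F : Type*) [Field F]

/-- two root elements with vanishing commutator constants (over `ℤ`) commute -/
theorem tmul_comm (r s : ℕ) (hr : r < chevF4.nroots) (h : commVanish chevF4 0 r s = true) (t u : F) :
    Commute (xf F r t) (xf F s u) :=
  (comm_of_vanish chevF4 hF4 F 0 (hp0 F) r s hr h t u).symm

/-- F4C-TMUL (light): the six root elements commute (commVanish chevF4 0). -/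
theorem T_mul (a b c d e f a' b' c' d' e' f' : F) :
    T F a b c d e f * T F a' b' c' d' e' f' = T F (a + a') (b + b') (c + c') (d + d') (e + e') (f + f') := by
  have h21 := tmul_comm F 40 39 (by decide) (by decide +kernel) b a'
  have h31 := tmul_comm F 44 39 (by decide) (by decide +kernel) c a'
  have h32 := tmul_comm F 44 40 (by decide) (by decide +kernel) c b'
  have h41 := tmul_comm F 45 39 (by decide) (by decide +kernel) d a'
  have h42 := tmul_comm F 45 40 (by decide) (by decide +kernel) d b'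
  have h43 := tmul_comm F 45 44 (by decide) (by decide +kernel) d c'
  have h51 := tmul_comm F 46 39 (by decide) (by decide +kernel) e a'
  have h52 := tmul_comm F 46 40 (by decide) (by decide +kernel) e b'
  have h53 := tmul_comm F 46 44 (by decide) (by decide +kernel) e c'
  have h54 := tmul_comm F 46 45 (by decide) (by decide +kernel) e d'
  have h61 := tmul_comm F 47 39 (by decide) (by decide +kernel) f a'
  have h62 := tmul_comm F 47 40 (by decide) (by decide +kernel) f b'
  have h63 := tmul_comm F 47 44 (by decide) (by decide +kernel) f c'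
  have h64 := tmul_comm F 47 45 (by decide) (by decide +kernel) f d'
  have h65 := tmul_comm F 47 46 (by decide) (by decide +kernel) f e'
  unfold T
  rw [tmul_six _ _ _ _ _ _ _ _ _ _ _ _ h21 h31 h32 h41 h42 h43 h51 h52 h53 h54 h61 h62 h63 h64 h65]
  unfold xf
  rw [xGL_add, xGL_add, xGL_add, xGL_add, xGL_add, xGL_add]

/-- F4C-TMUL: closure induction with T_mul (inverse: T(-a,...)). -/
theorem mem_Tgrp (g : GL chevF4.Idx F) (hg : g ∈ Tgrp F) : ∃ a b c d e f : F, g = T F a b c d e f := by
  unfold Tgrp at hg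
  induction hg using Subgroup.closure_induction with
  | mem x hx =>
    obtain ⟨r, hr, t, rfl⟩ := hx
    unfold troots at hr
    simp only [List.mem_cons, List.not_mem_nil, or_false] at hr
    rcases hr with rfl | rfl | rfl | rfl | rfl | rfl
    · exact ⟨t, 0, 0, 0, 0, 0, by unfold T xf; simp only [Cfsg.Agent.Lib.Helper36.xGL_zero, mul_one]⟩
    · exact ⟨0, t, 0, 0, 0, 0, by unfold T xf; simp only [Cfsg.Agent.Lib.Helper36.xGL_zero, mul_one, one_mul]⟩
    · exact ⟨0, 0, t, 0, 0, 0, by unfold T xf; simp only [Cfsg.Agent.Lib.Helper36.xGL_zero, mul_one, one_mul]⟩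
    · exact ⟨0, 0, 0, t, 0, 0, by unfold T xf; simp only [Cfsg.Agent.Lib.Helper36.xGL_zero, mul_one, one_mul]⟩
    · exact ⟨0, 0, 0, 0, t, 0, by unfold T xf; simp only [Cfsg.Agent.Lib.Helper36.xGL_zero, mul_one, one_mul]⟩
    · exact ⟨0, 0, 0, 0, 0, t, by unfold T xf; simp only [Cfsg.Agent.Lib.Helper36.xGL_zero, mul_one, one_mul]⟩
  | one => exact ⟨0, 0, 0, 0, 0, 0, (T_zero F).symm⟩
  | mul x y _ _ hx hy =>
    obtain ⟨a, b, c, d, e, f, rfl⟩ := hx
    obtain ⟨a', b', c', d', e', f', rfl⟩ := hy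
    exact ⟨_, _, _, _, _, _, T_mul F a b c d e f a' b' c' d' e' f'⟩
  | inv x _ hx =>
    obtain ⟨a, b, c, d, e, f, rfl⟩ := hx
    refine ⟨-a, -b, -c, -d, -e, -f, ?_⟩
    rw [inv_eq_iff_mul_eq_one, T_mul]
    simp only [add_neg_cancel]
    exact T_zero F

end Cfsg.Agent.Lib.Helper20.F4c
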