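import Cfsg.Agent.Lib.Helper21.Lq.Defs
import Cfsg.Agent.Lib.Helper13.SpParabolic
import Cfsg.Agent.Lib.Helper13.SpTorus

/-!
# Lq hive (S2333, helper21): leaf C-TOR1 `exists_torus1` (helper49)

`q - 1` torus elements `t_a = diag(a on e0, a⁻¹ on f0)⁻¹` of `Sp_{2(k+1)}(q)`, `q` even, normalising the root subgroup
`Z_{e0}` and acting on its parameter by the `q - 1` different scalars `a²` (squaring is injective in characteristic 2).
-/

set_option autoImplicit false

namespace Cfsg.Agent.Lib.Helper21.Lq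

open Module Cfsg.Agent.Lib.Helper6.Ls Cfsg.Agent.Lib.Helper13

section concrete

variable {F : Type*} [Field F] [Fintype F]

theorem ctor1_transv_mul {m : ℕ} (e : Vec F m) (c d : F) :
    sympTransvElt m e c * sympTransvElt m e d = sympTransvElt m e (c + d) := by
  apply Subtype.ext
  show Cfsg.sympTransvection m e c * Cfsg.sympTransvection m e d = Cfsg.sympTransvection m e (c + d)
  exact sympTransvection_mul m e c d

theorem ctor1_transv_zero {m : ℕ} (e : Vec F m) : sympTransvElt m e (0 : F) = 1 := by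
  apply Subtype.ext
  show Cfsg.sympTransvection m e (0 : F) = 1
  exact sympTransvection_zero m e

theorem ctor1_transv_inv {m : ℕ} (e : Vec F m) (c : F) :
    (sympTransvElt m e c)⁻¹ = sympTransvElt m e (-c) := by
  apply inv_eq_of_mul_eq_one_right
  rw [ctor1_transv_mul, add_neg_cancel, ctor1_transv_zero]

/-- own copy of C-ZG (1). -/
theorem ctor1_mem_Zgrp {m : ℕ} (e : Vec F m) (g : Spg F m) :
    g ∈ Zgrp e ↔ ∃ c : F, g = sympTransvElt m e c := by
  constructor
  · intro hg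
    unfold Zgrp at hg
    induction hg using Subgroup.closure_induction with
    | mem x hx => exact hx
    | one => exact ⟨0, (ctor1_transv_zero e).symm⟩
    | mul x y _ _ hx hy =>
      obtain ⟨c, rfl⟩ := hx
      obtain ⟨d, rfl⟩ := hy
      exact ⟨c + d, ctor1_transv_mul e c d⟩
    | inv x _ hx =>
      obtain ⟨c, rfl⟩ := hx
      exact ⟨-c, ctor1_transv_inv e c⟩
  · intro hg
    exact Subgroup.subset_closure hg

/-- conjugating a transvection by a symplectic element scaling the centre. -/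
theorem ctor1_conj {m : ℕ} (e : Vec F m) (g : Spg F m) (b : F)
    (hge : Matrix.mulVec (g : Matrix (Fin m ⊕ Fin m) (Fin m ⊕ Fin m) F) e = b • e) (c : F) :
    g * sympTransvElt m e c * g⁻¹ = sympTransvElt m e (b ^ 2 * c) := by
  rw [mul_inv_eq_iff_eq_mul]
  apply Subtype.ext
  show (g : Matrix (Fin m ⊕ Fin m) (Fin m ⊕ Fin m) F) * Cfsg.sympTransvection m e c
    = Cfsg.sympTransvection m e (b ^ 2 * c) * (g : Matrix (Fin m ⊕ Fin m) (Fin m ⊕ Fin m) F)
  rw [Matrix.ext_iff_mulVec]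
  intro x
  rw [← Matrix.mulVec_mulVec, ← Matrix.mulVec_mulVec, sympTransvection_mulVec, sympTransvection_mulVec,
    Matrix.mulVec_add, Matrix.mulVec_smul, hge]
  have h1 : Cfsg.sympForm m F (Matrix.mulVec (g : Matrix (Fin m ⊕ Fin m) (Fin m ⊕ Fin m) F) x) e
      = b⁻¹ * Cfsg.sympForm m F x e ∨ b = 0 := by
    by_cases hb : b = 0
    · exact Or.inr hb
    · left
      have h2 := preserves_of_mem_symplectic m _ g.2 x e
      rw [hge, sympForm_smul_right] at h2
      rw [← h2, ← mul_assoc, inv_mul_cancel₀ hb, one_mul]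
  rcases h1 with h1 | hb
  · by_cases hb : b = 0
    · subst hb
      simp
    · rw [h1, smul_smul]
      congr 2
      field_simp
  · subst hb
    simp

/-- the diagonal of the torus element. -/
def ctor1_d (k : ℕ) (a : F) : Fin (k + 1) ⊕ Fin (k + 1) → F :=
  Sum.elim (fun i => if i = Fin.last k then a else 1) (fun i => if i = Fin.last k then a⁻¹ else 1)

theorem ctor1_d_swap (k : ℕ) (a : F) (ha : a ≠ 0) (s : Fin (k + 1) ⊕ Fin (k + 1)) :
    ctor1_d k a s * ctor1_d k a s.swap = 1 := by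
  rcases s with i | i
  · show (if i = Fin.last k then a else 1) * (if i = Fin.last k then a⁻¹ else 1) = 1
    split_ifs
    · exact mul_inv_cancel₀ ha
    · exact one_mul 1
  · show (if i = Fin.last k then a⁻¹ else 1) * (if i = Fin.last k then a else 1) = 1
    split_ifs
    · exact inv_mul_cancel₀ ha
    · exact one_mul 1

theorem ctor1_diag_e0 (k : ℕ) (a : F) (ha : a ≠ 0) :
    Matrix.mulVec ((spDiag (ctor1_d k a) (ctor1_d_swap k a ha) : Spg F (k + 1)) :
      Matrix (Fin (k + 1) ⊕ Fin (k + 1)) (Fin (k + 1) ⊕ Fin (k + 1)) F) (e0 F k) = a • e0 F k := by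
  show Matrix.mulVec (Matrix.diagonal (ctor1_d k a)) (e0 F k) = a • e0 F k
  unfold e0
  rw [Matrix.mulVec_single_one]
  ext s
  rw [Matrix.col_apply, Matrix.diagonal_apply, Pi.smul_apply, Pi.single_apply, smul_eq_mul]
  by_cases hs : s = Sum.inl (Fin.last k)
  · subst hs
    simp [ctor1_d]
  · rw [if_neg hs, if_neg hs, mul_zero]

/-- C-TOR1 -/
theorem exists_torus1 [CharP F 2] (k : ℕ) :
    ∃ (κ : Type) (_ : Fintype κ) (t : κ → Spg F (k + 1)), Fintype.card κ = Fintype.card F - 1 ∧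
      (∀ i, ∀ z ∈ Zgrp (e0 F k), (t i)⁻¹ * z * t i ∈ Zgrp (e0 F k)) ∧
      (∀ i i', i ≠ i' → ∀ z' ∈ Zgrp (e0 F k), ∃ z ∈ Zgrp (e0 F k),
        (t i)⁻¹ * z * t i * ((t i')⁻¹ * z * t i')⁻¹ = z') := by
  classical
  have hcard : Fintype.card Fˣ = Fintype.card F - 1 := Fintype.card_units F
  let eqv : Fin (Fintype.card F - 1) ≃ Fˣ := (Fintype.equivFinOfCardEq hcard).symm
  let a : Fin (Fintype.card F - 1) → F := fun i => ((eqv i : Fˣ) : F)
  have ha0 : ∀ i, a i ≠ 0 := fun i => Units.ne_zero _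
  have hainj : Function.Injective a := fun i j h => eqv.injective (Units.ext h)
  let t : Fin (Fintype.card F - 1) → Spg F (k + 1) :=
    fun i => (spDiag (ctor1_d k (a i)) (ctor1_d_swap k (a i) (ha0 i)))⁻¹
  have hconj : ∀ i (c : F), (t i)⁻¹ * sympTransvElt (k + 1) (e0 F k) c * t i
      = sympTransvElt (k + 1) (e0 F k) ((a i) ^ 2 * c) := by
    intro i c
    have h := ctor1_conj (e0 F k) (spDiag (ctor1_d k (a i)) (ctor1_d_swap k (a i) (ha0 i))) (a i)
      (ctor1_diag_e0 k (a i) (ha0 i)) c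
    show ((spDiag (ctor1_d k (a i)) (ctor1_d_swap k (a i) (ha0 i)))⁻¹)⁻¹ * _ * _ = _
    rw [inv_inv]
    exact h
  have hsq : ∀ x y : F, x ^ 2 = y ^ 2 → x = y := by
    intro x y h
    rcases sq_eq_sq_iff_eq_or_eq_neg.1 h with h1 | h1
    · exact h1
    · rw [h1, CharTwo.neg_eq]
  refine ⟨Fin (Fintype.card F - 1), inferInstance, t, by simp, ?_, ?_⟩
  · intro i z hz
    obtain ⟨c, rfl⟩ := (ctor1_mem_Zgrp _ z).1 hz
    rw [hconj]
    exact (ctor1_mem_Zgrp _ _).2 ⟨_, rfl⟩
  · intro i i' hii' z' hz'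
    obtain ⟨c', rfl⟩ := (ctor1_mem_Zgrp _ z').1 hz'
    set δ : F := (a i) ^ 2 - (a i') ^ 2 with hδ
    have hδ0 : δ ≠ 0 := by
      rw [hδ, sub_ne_zero]
      intro h
      exact hii' (hainj (hsq _ _ h))
    refine ⟨sympTransvElt (k + 1) (e0 F k) (δ⁻¹ * c'), (ctor1_mem_Zgrp _ _).2 ⟨_, rfl⟩, ?_⟩
    rw [hconj, hconj, ctor1_transv_inv, ctor1_transv_mul]
    congr 1
    calc a i ^ 2 * (δ⁻¹ * c') + -(a i' ^ 2 * (δ⁻¹ * c')) = (δ * δ⁻¹) * c' := by rw [hδ]; ring
      _ = c' := by rw [mul_inv_cancel₀ hδ0, one_mul]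

end concrete

end Cfsg.Agent.Lib.Helper21.Lq
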