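import Cfsg.Agent.Lib.Helper27.U3Line3Defs

/-!
# U3 hive (S2283, owner helper23), sub-hive U3-LINE3 (helper27): leaf L3-IND `l3_ind` (helper49)

The members of the cone family `l3cone q u v w` are pairwise linearly independent.
-/

set_option autoImplicit false

namespace Cfsg.Agent.Lib.Helper23.U3

open Matrix Cfsg.Agent.Lib.Helper99 Cfsg.Agent.Lib.Helper13 Cfsg.Agent.Lib.Helper90.Psu

variable {F : Type*} [Field F] [Fintype F] {q : ℕ}

local notation "hh" => Cfsg.hermForm 3 F q

/-- coefficients of a vanishing combination of three independent vectors vanish -/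
theorem l3ind_coeff {u v w : Fin 3 → F} (hind : LinearIndependent F ![u, v, w]) (a b c : F)
    (h : a • u + b • v + c • w = 0) : a = 0 ∧ b = 0 ∧ c = 0 := by
  rw [Fintype.linearIndependent_iff] at hind
  have h1 := hind ![a, b, c] (by simpa [Fin.sum_univ_three, add_assoc] using h)
  exact ⟨h1 0, h1 1, h1 2⟩

/-- from `s * (x * A) = 0`, `x ≠ 0`, `A ≠ 0` get `s = 0` -/
theorem l3ind_zero {s x A : F} (h : s * (x * A) = 0) (hx : x ≠ 0) (hA : A ≠ 0) : s = 0 := by
  rcases mul_eq_zero.mp h with h | h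
  · exact h
  · exact absurd h (mul_ne_zero hx hA)

theorem l3_ind (hF : Fintype.card F = q ^ 2) {u v w : Fin 3 → F} (hu : hh u u = 0) (hv : hh v v = 0)
    (hw : hh w w = 0) (hind : LinearIndependent F ![u, v, w])
    (hwitt : ∀ a b : Fin 3 → F, hh a a = 0 → hh b b = 0 → LinearIndependent F ![a, b] → hh a b ≠ 0)
    (hy : ∀ c : {c : F // c + c ^ q = 0}, hh (l3pt q w v c.1) (l3pt q w v c.1) = 0)
    (i j : {c : F // c + c ^ q = 0} ⊕ ({c : F // c + c ^ q = 0} × {c : F // c + c ^ q = 0}))
    (hij : i ≠ j) : LinearIndependent F ![l3cone q u v w i, l3cone q u v w j] := by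
  classical
  have hvu : LinearIndependent F ![v, u] := by
    rw [LinearIndependent.pair_iff]
    intro s t hst
    obtain ⟨h1, h2, -⟩ := l3ind_coeff hind t s 0 (by rw [← hst]; module)
    exact ⟨h2, h1⟩
  have hwv : LinearIndependent F ![w, v] := by
    rw [LinearIndependent.pair_iff]
    intro s t hst
    obtain ⟨-, h2, h3⟩ := l3ind_coeff hind 0 t s (by rw [← hst]; module)
    exact ⟨h3, h2⟩
  have hA : hh v u ≠ 0 := hwitt v u hv hu hvu
  have hB : hh w v ≠ 0 := hwitt w v hw hv hwv
  have hC : ∀ c : {c : F // c + c ^ q = 0}, hh (l3pt q w v c.1) u ≠ 0 := by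
    intro c
    refine hwitt _ _ (hy c) hu ?_
    rw [LinearIndependent.pair_iff]
    intro s t hst
    unfold l3pt at hst
    obtain ⟨h1, -, h3⟩ := l3ind_coeff hind t (s * (c.1 * hh w v)) s (by rw [← hst]; module)
    exact ⟨h3, h1⟩
  rw [LinearIndependent.pair_iff]
  intro s t hst
  rcases i with c | ⟨c, d⟩ <;> rcases j with c' | ⟨c', d'⟩
  · -- inl, inl
    have hcc : c.1 - c'.1 ≠ 0 := sub_ne_zero.mpr (fun h => hij (by rw [Subtype.ext h]))
    simp only [l3cone, l3pt] at hst
    obtain ⟨h1, h2, -⟩ := l3ind_coeff hind (s * (c.1 * hh v u) + t * (c'.1 * hh v u)) (s + t) 0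
      (by rw [← hst]; module)
    have ht : t = -s := by linear_combination h2
    subst ht
    have h3 : s * ((c.1 - c'.1) * hh v u) = 0 := by linear_combination h1
    have hs : s = 0 := l3ind_zero h3 hcc hA
    subst hs
    simp
  · -- inl, inr
    simp only [l3cone, l3pt] at hst
    obtain ⟨-, h2, h3⟩ := l3ind_coeff hind
      (s * (c.1 * hh v u) + t * (d'.1 * hh (w + (c'.1 * hh w v) • v) u))
      (s + t * (c'.1 * hh w v)) t (by rw [← hst]; module)
    subst h3
    refine ⟨?_, rfl⟩
    linear_combination h2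
  · -- inr, inl
    simp only [l3cone, l3pt] at hst
    obtain ⟨-, h2, h3⟩ := l3ind_coeff hind
      (t * (c'.1 * hh v u) + s * (d.1 * hh (w + (c.1 * hh w v) • v) u))
      (t + s * (c.1 * hh w v)) s (by rw [← hst]; module)
    subst h3
    refine ⟨rfl, ?_⟩
    linear_combination h2
  · -- inr, inr
    simp only [l3cone, l3pt] at hst
    obtain ⟨h1, h2, h3⟩ := l3ind_coeff hind
      (s * (d.1 * hh (w + (c.1 * hh w v) • v) u) + t * (d'.1 * hh (w + (c'.1 * hh w v) • v) u))
      (s * (c.1 * hh w v) + t * (c'.1 * hh w v)) (s + t) (by rw [← hst]; module)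
    have ht : t = -s := by linear_combination h3
    subst ht
    by_cases hcc : c = c'
    · subst hcc
      have hdd : d.1 - d'.1 ≠ 0 := sub_ne_zero.mpr (fun h => hij (by rw [Subtype.ext h]))
      have h4 : s * ((d.1 - d'.1) * hh (w + (c.1 * hh w v) • v) u) = 0 := by linear_combination h1
      have hCc : hh (w + (c.1 * hh w v) • v) u ≠ 0 := hC c
      have hs : s = 0 := l3ind_zero h4 hdd hCc
      subst hs
      simp
    · have hcc' : c.1 - c'.1 ≠ 0 := sub_ne_zero.mpr (fun h => hcc (Subtype.ext h))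
      have h4 : s * ((c.1 - c'.1) * hh w v) = 0 := by linear_combination h2
      have hs : s = 0 := l3ind_zero h4 hcc' hB
      subst hs
      simp

end Cfsg.Agent.Lib.Helper23.U3
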