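import Mathlib.GroupTheory.Sylow
import Mathlib.GroupTheory.Nilpotent
import Cfsg.Prelude.Def_IsolatedElements

set_option autoImplicit false

namespace Cfsg.Agent.Lib.Helper49

/-- an isolated element of `G` lying in a subgroup `H` is isolated in `H` -/
theorem isolated_subtype {G : Type*} [Group G] {x : G} (hiso : Cfsg.IsIsolated x)
    (H : Subgroup G) (hx : x ∈ H) : Cfsg.IsIsolated (⟨x, hx⟩ : ↥H) := by
  intro g hg
  have h1 : Commute x ((g : G) * x * (g : G)⁻¹) := by
    have := congrArg Subtype.val hg.eq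
    simpa [Commute, SemiconjBy] using this
  have := hiso (g : G) h1
  exact Subtype.ext this

/-- an isolated element is central in every nilpotent subgroup containing it -/
theorem isolated_commute_of_nilpotent {G : Type*} [Group G] {x : G} (hiso : Cfsg.IsIsolated x)
    (R : Subgroup G) [Group.IsNilpotent ↥R] (hx : x ∈ R) : ∀ r ∈ R, r * x = x * r := by
  set x' : ↥R := ⟨x, hx⟩ with hx'
  have hnc : NormalizerCondition ↥R := Group.normalizerCondition_of_isNilpotent
  have htop : Subgroup.centralizer ({x'} : Set ↥R) = ⊤ := by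
    by_contra hne
    have hlt : Subgroup.centralizer ({x'} : Set ↥R) < ⊤ := lt_top_iff_ne_top.mpr hne
    obtain ⟨d, hd1, hd2⟩ := SetLike.exists_of_lt (hnc _ hlt)
    apply hd2
    have hxC : x' ∈ Subgroup.centralizer ({x'} : Set ↥R) := by
      rw [Subgroup.mem_centralizer_iff]; intro h hh; rw [Set.mem_singleton_iff.mp hh]
    have h1 : d * x' * d⁻¹ ∈ Subgroup.centralizer ({x'} : Set ↥R) :=
      (Subgroup.mem_normalizer_iff.mp hd1 x').mp hxC
    have h2 : x' * (d * x' * d⁻¹) = (d * x' * d⁻¹) * x' :=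
      (Subgroup.mem_centralizer_iff.mp h1) x' rfl
    have h3 : Commute x ((d : G) * x * (d : G)⁻¹) := by
      have := congrArg Subtype.val h2
      simpa [Commute, SemiconjBy, hx'] using this
    have h4 := hiso (d : G) h3
    rw [Subgroup.mem_centralizer_iff]
    intro h hh
    rw [Set.mem_singleton_iff.mp hh]
    apply Subtype.ext
    show x * (d : G) = (d : G) * x
    calc x * (d : G) = ((d : G) * x * (d : G)⁻¹) * (d : G) := by rw [h4]
      _ = (d : G) * x := by group
  intro r hr
  have : (⟨r, hr⟩ : ↥R) ∈ Subgroup.centralizer ({x'} : Set ↥R) := by rw [htop]; trivial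
  have h2 := (Subgroup.mem_centralizer_iff.mp this) x' rfl
  have := congrArg Subtype.val h2
  simpa [hx'] using this.symm

/-- the normalizer of a `p`-subgroup containing the isolated element `x` centralizes `x` -/
theorem isolated_normalizer_le {G : Type*} [Group G] [Finite G] {p : ℕ} [Fact p.Prime] {x : G}
    (hiso : Cfsg.IsIsolated x) (R : Subgroup G) (hR : IsPGroup p ↥R) (hx : x ∈ R) :
    Subgroup.normalizer (R : Set G) ≤ Subgroup.centralizer ({x} : Set G) := by
  have : Group.IsNilpotent ↥R := hR.isNilpotent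
  intro g hg
  have h1 : g * x * g⁻¹ ∈ R := (Subgroup.mem_normalizer_iff.mp hg x).mp hx
  have h2 : Commute x (g * x * g⁻¹) :=
    (isolated_commute_of_nilpotent hiso R hx _ h1).symm
  have h3 := hiso g h2
  rw [Subgroup.mem_centralizer_iff]
  intro h hh
  rw [Set.mem_singleton_iff.mp hh]
  calc x * g = (g * x * g⁻¹) * g := by rw [h3]
    _ = g * x := by group

/-- Sylow argument: a conjugate of the isolated `p`-element `x` lying in a subgroup `H ∋ x`
is conjugate to `x` inside `H`. -/
theorem isolated_conj_in_subgroup {G : Type*} [Group G] [Finite G] {p : ℕ} [Fact p.Prime] {x : G}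
    (hiso : Cfsg.IsIsolated x) (hord : ∃ k : ℕ, orderOf x = p ^ k) (H : Subgroup G) (hx : x ∈ H)
    (g : G) (hg : g * x * g⁻¹ ∈ H) : ∃ c ∈ H, c * (g * x * g⁻¹) * c⁻¹ = x := by
  obtain ⟨k, hk⟩ := hord
  set x' : ↥H := ⟨x, hx⟩ with hx'
  set z' : ↥H := ⟨g * x * g⁻¹, hg⟩ with hz'
  have hox : orderOf x' = p ^ k := by rw [← Subgroup.orderOf_coe]; exact hk
  have hoz : orderOf z' = p ^ k := by
    rw [← Subgroup.orderOf_coe]
    show orderOf (g * x * g⁻¹) = p ^ k
    have := MulEquiv.orderOf_eq (MulAut.conj g) x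
    rw [← hk, ← this]; simp [MulAut.conj_apply]
  have hpx : IsPGroup p ↥(Subgroup.zpowers x') := by
    apply IsPGroup.of_card (n := k); rw [Nat.card_zpowers, hox]
  have hpz : IsPGroup p ↥(Subgroup.zpowers z') := by
    apply IsPGroup.of_card (n := k); rw [Nat.card_zpowers, hoz]
  obtain ⟨P₁, hP₁⟩ := hpx.exists_le_sylow
  obtain ⟨P₂, hP₂⟩ := hpz.exists_le_sylow
  obtain ⟨c, hc⟩ := MulAction.exists_smul_eq ↥H P₂ P₁
  have hzc : c * z' * c⁻¹ ∈ (P₁ : Subgroup ↥H) := by
    rw [← hc, Sylow.coe_subgroup_smul]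
    exact ⟨z', hP₂ (Subgroup.mem_zpowers z'), by simp [MulAut.smul_def, MulAut.conj_apply]⟩
  have hxP : x' ∈ (P₁ : Subgroup ↥H) := hP₁ (Subgroup.mem_zpowers x')
  have : Group.IsNilpotent ↥(P₁ : Subgroup ↥H) := P₁.isPGroup'.isNilpotent
  have hiso' : Cfsg.IsIsolated x' := isolated_subtype hiso H hx
  have hcomm := isolated_commute_of_nilpotent hiso' (P₁ : Subgroup ↥H) hxP _ hzc
  -- back in G
  have hcomm' : Commute x (((c : G) * g) * x * ((c : G) * g)⁻¹) := by
    have := congrArg Subtype.val hcomm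
    simp only [Subgroup.coe_mul, Subgroup.coe_inv, hx', hz'] at this
    show x * (((c : G) * g) * x * ((c : G) * g)⁻¹) = (((c : G) * g) * x * ((c : G) * g)⁻¹) * x
    have e : ((c : G) * g) * x * ((c : G) * g)⁻¹ = (c : G) * (g * x * g⁻¹) * (c : G)⁻¹ := by group
    rw [e]; exact this.symm
  have h5 := hiso ((c : G) * g) hcomm'
  refine ⟨(c : G), c.2, ?_⟩
  calc (c : G) * (g * x * g⁻¹) * (c : G)⁻¹ = ((c : G) * g) * x * ((c : G) * g)⁻¹ := by group
    _ = x := h5

end Cfsg.Agent.Lib.Helper49
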