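import Mathlib
import Cfsg.Prelude.Def_IsolatedElements
import Cfsg.Agent.Lib.Helper55.Cores
import Cfsg.Agent.Lib.Helper50.Burnside
import Cfsg.Agent.Lib.Helper49.Isolated

set_option autoImplicit false
set_option linter.style.haveILetI false
set_option linter.unusedSectionVars false
set_option linter.unusedVariables false

namespace Cfsg.Agent.Lib.Helper49

open Cfsg
open scoped commutatorElement

/-! ### generalities on the `p'`-core -/

theorem pPrimeCore_characteristic (p : ℕ) (N : Type*) [Group N] :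
    (Cfsg.pPrimeCore p N).Characteristic := by
  rw [Subgroup.characteristic_iff_le_comap]
  intro φ
  apply sSup_le
  rintro K ⟨hKn, hKc⟩
  rw [← Subgroup.map_le_iff_le_comap]
  apply le_sSup
  refine ⟨Subgroup.Normal.map hKn _ φ.surjective, ?_⟩
  rw [Subgroup.card_map_of_injective φ.injective]
  exact hKc

theorem pPrimeCore_map_subtype_le {G : Type*} [Group G] [Finite G] (p : ℕ) (N : Subgroup G)
    [N.Normal] : (Cfsg.pPrimeCore p ↥N).map N.subtype ≤ Cfsg.pPrimeCore p G := by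
  haveI := pPrimeCore_characteristic p ↥N
  haveI : ((Cfsg.pPrimeCore p ↥N).map N.subtype).Normal := ConjAct.normal_of_characteristic_of_normal
  apply le_sSup
  refine ⟨inferInstance, ?_⟩
  rw [Subgroup.card_map_of_injective N.subtype_injective]
  exact Helper55.pPrimeCore_card_coprime p

theorem pPrimeCore_subgroup_eq_bot {G : Type*} [Group G] [Finite G] (p : ℕ)
    (h : Cfsg.pPrimeCore p G = ⊥) (N : Subgroup G) [N.Normal] : Cfsg.pPrimeCore p ↥N = ⊥ := by
  have h1 := pPrimeCore_map_subtype_le p N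
  rw [h, le_bot_iff] at h1
  exact (Subgroup.map_eq_bot_iff_of_injective _ N.subtype_injective).mp h1

/-! ### the minimal counterexample -/

section MinCounter

variable {G : Type*} [Group G] [Finite G] {p : ℕ} [Fact p.Prime] (x : G)

theorem zmin_core_eq_bot (hnz : ¬ Cfsg.InZStar p x)
    (hquot : ∀ (N : Subgroup G) [N.Normal], N ≠ ⊥ → Cfsg.InZStar p (QuotientGroup.mk x : G ⧸ N)) :
    Cfsg.pPrimeCore p G = ⊥ := by
  by_contra hne
  haveI : (Cfsg.pPrimeCore p G).Normal := Helper55.pPrimeCore_normal' p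
  have h1 := hquot (Cfsg.pPrimeCore p G) hne
  apply hnz
  intro g
  have h2 := h1 (QuotientGroup.mk g)
  rw [Helper55.pPrimeCore_quotient_eq_bot, Subgroup.mem_bot] at h2
  have h3 : ((g * x * g⁻¹ * x⁻¹ : G) : G ⧸ Cfsg.pPrimeCore p G) = 1 := by
    rw [← h2]; simp
  exact (QuotientGroup.eq_one_iff _).mp h3

theorem zmin_not_central (hnz : ¬ Cfsg.InZStar p x)
    (hquot : ∀ (N : Subgroup G) [N.Normal], N ≠ ⊥ → Cfsg.InZStar p (QuotientGroup.mk x : G ⧸ N)) :
    ¬ ∀ g : G, g * x * g⁻¹ = x := by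
  intro h
  apply hnz
  intro g
  rw [h g, mul_inv_cancel]
  exact Subgroup.one_mem _

theorem zmin_normalClosure (hiso : Cfsg.IsIsolated x) (hnz : ¬ Cfsg.InZStar p x)
    (hmin : ∀ (H : Subgroup G) (hxH : x ∈ H), H ≠ ⊤ → Cfsg.InZStar p (⟨x, hxH⟩ : ↥H))
    (hquot : ∀ (N : Subgroup G) [N.Normal], N ≠ ⊥ → Cfsg.InZStar p (QuotientGroup.mk x : G ⧸ N)) :
    Subgroup.normalClosure ({x} : Set G) = ⊤ := by
  by_contra hne
  have hcore := zmin_core_eq_bot x hnz hquot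
  have hxN : x ∈ Subgroup.normalClosure ({x} : Set G) :=
    Subgroup.subset_normalClosure (Set.mem_singleton x)
  have h1 := hmin _ hxN hne
  rw [InZStar, pPrimeCore_subgroup_eq_bot p hcore] at h1
  apply zmin_not_central x hnz hquot
  intro g
  apply hiso
  have hgN : g * x * g⁻¹ ∈ Subgroup.normalClosure ({x} : Set G) :=
    (Subgroup.normalClosure_normal (s := ({x} : Set G))).conj_mem x hxN g
  have h2 := h1 ⟨g * x * g⁻¹, hgN⟩
  rw [Subgroup.mem_bot] at h2
  have h3 := congrArg Subtype.val h2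
  simp only [Subgroup.coe_mul, Subgroup.coe_inv, Subgroup.coe_one] at h3
  -- h3 : (g x g⁻¹) * x * (g x g⁻¹)⁻¹ * x⁻¹ = 1
  show x * (g * x * g⁻¹) = (g * x * g⁻¹) * x
  have h4 : (g * x * g⁻¹) * x * (g * x * g⁻¹)⁻¹ = x := by
    have := mul_inv_eq_one.mp h3
    exact this
  calc x * (g * x * g⁻¹) = ((g * x * g⁻¹) * x * (g * x * g⁻¹)⁻¹) * (g * x * g⁻¹) := by rw [h4]
    _ = (g * x * g⁻¹) * x := by group

theorem zmin_commutator_sup (hiso : Cfsg.IsIsolated x) (hnz : ¬ Cfsg.InZStar p x)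
    (hmin : ∀ (H : Subgroup G) (hxH : x ∈ H), H ≠ ⊤ → Cfsg.InZStar p (⟨x, hxH⟩ : ↥H))
    (hquot : ∀ (N : Subgroup G) [N.Normal], N ≠ ⊥ → Cfsg.InZStar p (QuotientGroup.mk x : G ⧸ N)) :
    commutator G ⊔ Subgroup.zpowers x = ⊤ := by
  have hnorm : (commutator G ⊔ Subgroup.zpowers x).Normal := by
    constructor
    intro h hh g
    have h1 : g * h * g⁻¹ = (g * h * g⁻¹ * h⁻¹) * h := by group
    rw [h1]
    refine Subgroup.mul_mem _ ?_ hh
    apply (le_sup_left : commutator G ≤ _)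
    have : g * h * g⁻¹ * h⁻¹ = ⁅g, h⁆ := rfl
    rw [this]
    exact Subgroup.commutator_mem_commutator (Subgroup.mem_top g) (Subgroup.mem_top h)
  rw [eq_top_iff, ← zmin_normalClosure x hiso hnz hmin hquot]
  apply Subgroup.normalClosure_le_normal
  intro y hy
  rw [Set.mem_singleton_iff.mp hy]
  exact (le_sup_right : Subgroup.zpowers x ≤ _) (Subgroup.mem_zpowers x)


/-- `M` is a minimal normal subgroup -/
def IsMinNormal (M : Subgroup G) : Prop :=
  M.Normal ∧ M ≠ ⊥ ∧ ∀ K : Subgroup G, K.Normal → K ≠ ⊥ → K ≤ M → K = M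

theorem exists_minNormal_le (N : Subgroup G) (hN : N.Normal) (hne : N ≠ ⊥) :
    ∃ M, IsMinNormal M ∧ M ≤ N := by
  obtain ⟨M, hMN, hM⟩ := Finite.exists_le_minimal
    (p := fun K : Subgroup G => K.Normal ∧ K ≠ ⊥) (a := N) ⟨hN, hne⟩
  exact ⟨M, ⟨hM.1.1, hM.1.2, fun K hKn hKne hKM => le_antisymm hKM (hM.2 ⟨hKn, hKne⟩ hKM)⟩, hMN⟩

theorem zmin_minNormal_not_comm (hx : orderOf x = p) (hiso : Cfsg.IsIsolated x)
    (hnz : ¬ Cfsg.InZStar p x)
    (hmin : ∀ (H : Subgroup G) (hxH : x ∈ H), H ≠ ⊤ → Cfsg.InZStar p (⟨x, hxH⟩ : ↥H))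
    (hquot : ∀ (N : Subgroup G) [N.Normal], N ≠ ⊥ → Cfsg.InZStar p (QuotientGroup.mk x : G ⧸ N))
    (M : Subgroup G) (hM : IsMinNormal M) : ¬ ∀ a ∈ M, ∀ b ∈ M, a * b = b * a := by
  intro hab
  obtain ⟨hMn, hMne, hMmin⟩ := hM
  haveI := hMn
  have hpp : p.Prime := Fact.out
  have hcore := zmin_core_eq_bot x hnz hquot
  -- Step 1: p ∣ card M
  have hpM : p ∣ Nat.card ↥M := by
    by_contra h
    have h1 : M ≤ Cfsg.pPrimeCore p G :=
      le_sSup ⟨hMn, ((Nat.Prime.coprime_iff_not_dvd hpp).mpr h).symm⟩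
    rw [hcore, le_bot_iff] at h1
    exact hMne h1
  -- Step 2: exponent p
  let Mp : Subgroup G :=
    { carrier := {m | m ∈ M ∧ m ^ p = 1}
      mul_mem' := by
        rintro a b ⟨ha, hap⟩ ⟨hb, hbp⟩
        refine ⟨M.mul_mem ha hb, ?_⟩
        have hc : Commute a b := hab a ha b hb
        rw [hc.mul_pow, hap, hbp, one_mul]
      one_mem' := ⟨M.one_mem, one_pow p⟩
      inv_mem' := by
        rintro a ⟨ha, hap⟩
        exact ⟨M.inv_mem ha, by rw [inv_pow, hap, inv_one]⟩ }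
  have hMpn : Mp.Normal := ⟨fun m hm g => ⟨hMn.conj_mem m hm.1 g, by
    rw [conj_pow, hm.2, mul_one, mul_inv_cancel]⟩⟩
  have hMpne : Mp ≠ ⊥ := by
    obtain ⟨t, ht⟩ := exists_prime_orderOf_dvd_card' (G := ↥M) p hpM
    intro h
    have h1 : (t : G) ∈ Mp := by
      refine ⟨t.2, ?_⟩
      have h2 : t ^ p = 1 := by rw [← ht]; exact pow_orderOf_eq_one t
      have h3 := congrArg Subtype.val h2
      simpa using h3
    rw [h, Subgroup.mem_bot] at h1
    have h4 : t = 1 := Subtype.ext h1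
    rw [h4, orderOf_one] at ht
    exact hpp.one_lt.ne' ht.symm
  have hMpM : Mp = M := hMmin Mp hMpn hMpne (fun m hm => hm.1)
  have hexp : ∀ m ∈ M, m ^ p = 1 := fun m hm => by
    have : m ∈ Mp := by rw [hMpM]; exact hm
    exact this.2
  have hMp : IsPGroup p ↥M := fun m => ⟨1, by
    rw [pow_one]
    apply Subtype.ext
    have := hexp m m.2
    simpa using this⟩
  -- Step 3
  have hxp : IsPGroup p ↥(Subgroup.zpowers x) :=
    IsPGroup.of_card (n := 1) (by rw [Nat.card_zpowers, hx, pow_one])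
  have hPp : IsPGroup p ↥(M ⊔ Subgroup.zpowers x) := IsPGroup.to_sup_of_normal_left hMp hxp
  haveI : Group.IsNilpotent ↥(M ⊔ Subgroup.zpowers x) := hPp.isNilpotent
  have hxP : x ∈ M ⊔ Subgroup.zpowers x :=
    (le_sup_right : Subgroup.zpowers x ≤ _) (Subgroup.mem_zpowers x)
  have hcomm := isolated_commute_of_nilpotent hiso _ hxP
  -- Step 5: centralizer M = ⊤
  have hcent : Subgroup.centralizer (M : Set G) = ⊤ := by
    rw [eq_top_iff, ← zmin_normalClosure x hiso hnz hmin hquot]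
    apply Subgroup.normalClosure_le_normal
    intro y hy
    rw [Set.mem_singleton_iff.mp hy, SetLike.mem_coe, Subgroup.mem_centralizer_iff]
    intro m hm
    exact hcomm m ((le_sup_left : M ≤ _) hm)
  have hMcentral : ∀ m ∈ M, ∀ g : G, m * g = g * m := by
    intro m hm g
    have h1 : g ∈ Subgroup.centralizer (M : Set G) := hcent ▸ Subgroup.mem_top g
    exact Subgroup.mem_centralizer_iff.mp h1 m hm
  -- Step 7
  haveI : (Cfsg.pPrimeCore p (G ⧸ M)).Normal := Helper55.pPrimeCore_normal' p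
  set Y : Subgroup G := (Cfsg.pPrimeCore p (G ⧸ M)).comap (QuotientGroup.mk' M) with hY
  haveI hYn : Y.Normal := by rw [hY]; infer_instance
  have hMY : M ≤ Y := Helper55.le_comap_mk' M _
  have hcomY : ∀ g : G, g * x * g⁻¹ * x⁻¹ ∈ Y := by
    intro g
    have h1 := hquot M hMne (QuotientGroup.mk g)
    rw [hY, Subgroup.mem_comap]
    simpa using h1
  -- Step 8: Y ≤ M
  have hYM : Y ≤ M := by
    have hM'p : IsPGroup p ↥(M.subgroupOf Y) := hMp.comap_subtype
    have hidx : ¬ p ∣ (M.subgroupOf Y).index := by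
      have h1 := Helper55.card_comap_mk' M (Cfsg.pPrimeCore p (G ⧸ M))
      have h2 := Helper55.card_mul_relIndex_eq hMY
      have h3 : M.relIndex Y = Nat.card ↥(Cfsg.pPrimeCore p (G ⧸ M)) :=
        Nat.eq_of_mul_eq_mul_left Nat.card_pos (h2.trans h1)
      show ¬ p ∣ M.relIndex Y
      rw [h3]
      have h4 : (Nat.card ↥(Cfsg.pPrimeCore p (G ⧸ M))).Coprime p :=
        Helper55.pPrimeCore_card_coprime p
      exact (Nat.Prime.coprime_iff_not_dvd hpp).mp h4.symm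
    set P : Sylow p ↥Y := hM'p.toSylow hidx with hP
    have hPcoe : (P : Subgroup ↥Y) = M.subgroupOf Y := IsPGroup.toSylow_coe _ _
    have hNC : Subgroup.normalizer ((P : Subgroup ↥Y) : Set ↥Y) ≤
        Subgroup.centralizer ((P : Subgroup ↥Y) : Set ↥Y) := by
      intro y _
      rw [Subgroup.mem_centralizer_iff]
      intro m hm
      have hm' : (m : G) ∈ M := by
        rw [SetLike.mem_coe, hPcoe] at hm
        exact Subgroup.mem_subgroupOf.mp hm
      exact Subtype.ext (hMcentral m hm' y)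
    have hc := Helper50.pPrimeCore_isComplement' P hNC
    rw [pPrimeCore_subgroup_eq_bot p hcore Y, Subgroup.isComplement'_bot_left] at hc
    intro y hy
    have h5 : (⟨y, hy⟩ : ↥Y) ∈ (P : Subgroup ↥Y) := hc ▸ Subgroup.mem_top _
    rw [hPcoe] at h5
    exact Subgroup.mem_subgroupOf.mp h5
  -- Step 9
  apply zmin_not_central x hnz hquot
  intro g
  apply hiso
  have hc := hYM (hcomY g)
  show x * (g * x * g⁻¹) = g * x * g⁻¹ * x
  have h1 : g * x * g⁻¹ = (g * x * g⁻¹ * x⁻¹) * x := by group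
  have h2 := hMcentral _ hc x
  rw [h1, ← mul_assoc, ← h2]


theorem zmin_minNormal_sup (hx : orderOf x = p) (hiso : Cfsg.IsIsolated x)
    (hnz : ¬ Cfsg.InZStar p x)
    (hmin : ∀ (H : Subgroup G) (hxH : x ∈ H), H ≠ ⊤ → Cfsg.InZStar p (⟨x, hxH⟩ : ↥H))
    (hquot : ∀ (N : Subgroup G) [N.Normal], N ≠ ⊥ → Cfsg.InZStar p (QuotientGroup.mk x : G ⧸ N))
    (M : Subgroup G) (hM : IsMinNormal M) : M ⊔ Subgroup.zpowers x = ⊤ := by
  by_contra hne
  apply zmin_minNormal_not_comm x hx hiso hnz hmin hquot M hM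
  obtain ⟨hMn, hMne, hMmin⟩ := hM
  haveI := hMn
  have hcore := zmin_core_eq_bot x hnz hquot
  have hxH : x ∈ M ⊔ Subgroup.zpowers x :=
    (le_sup_right : Subgroup.zpowers x ≤ _) (Subgroup.mem_zpowers x)
  have hMH : M ≤ M ⊔ Subgroup.zpowers x := le_sup_left
  have h1 := hmin _ hxH hne
  haveI : (Cfsg.pPrimeCore p ↥(M ⊔ Subgroup.zpowers x)).Normal := Helper55.pPrimeCore_normal' p
  set K₀ : Subgroup ↥M :=
    (Cfsg.pPrimeCore p ↥(M ⊔ Subgroup.zpowers x)).comap (Subgroup.inclusion hMH) with hK₀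
  have hK₀n : K₀.Normal := by rw [hK₀]; infer_instance
  have hK₀c : (Nat.card ↥K₀).Coprime p :=
    Nat.Coprime.coprime_dvd_left
      (Subgroup.card_comap_dvd_of_injective _ _ (Subgroup.inclusion_injective hMH))
      (Helper55.pPrimeCore_card_coprime p)
  have hK₀b : K₀ = ⊥ := by
    have h2 : K₀ ≤ Cfsg.pPrimeCore p ↥M := le_sSup ⟨hK₀n, hK₀c⟩
    rw [pPrimeCore_subgroup_eq_bot p hcore M, le_bot_iff] at h2
    exact h2
  have hxM : ∀ m ∈ M, m * x = x * m := by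
    intro m hm
    have h2 := h1 ⟨m, hMH hm⟩
    have hcM : m * x * m⁻¹ * x⁻¹ ∈ M := by
      have h3 : m * x * m⁻¹ * x⁻¹ = m * (x * m⁻¹ * x⁻¹) := by group
      rw [h3]
      exact M.mul_mem hm (hMn.conj_mem _ (M.inv_mem hm) x)
    have h3 : (⟨m * x * m⁻¹ * x⁻¹, hcM⟩ : ↥M) ∈ K₀ := by
      rw [hK₀, Subgroup.mem_comap]
      convert h2 using 1
      apply Subtype.ext
      simp
    rw [hK₀b, Subgroup.mem_bot] at h3
    have h4 : m * x * m⁻¹ * x⁻¹ = 1 := congrArg Subtype.val h3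
    calc m * x = (m * x * m⁻¹ * x⁻¹) * (x * m) := by group
      _ = x * m := by rw [h4, one_mul]
  have hcent : Subgroup.centralizer (M : Set G) = ⊤ := by
    rw [eq_top_iff, ← zmin_normalClosure x hiso hnz hmin hquot]
    apply Subgroup.normalClosure_le_normal
    intro y hy
    rw [Set.mem_singleton_iff.mp hy, SetLike.mem_coe, Subgroup.mem_centralizer_iff]
    intro m hm
    exact hxM m hm
  intro a ha b hb
  have h5 : b ∈ Subgroup.centralizer (M : Set G) := hcent ▸ Subgroup.mem_top b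
  exact Subgroup.mem_centralizer_iff.mp h5 a ha

theorem zmin_commutator_eq (hx : orderOf x = p) (hiso : Cfsg.IsIsolated x)
    (hnz : ¬ Cfsg.InZStar p x)
    (hmin : ∀ (H : Subgroup G) (hxH : x ∈ H), H ≠ ⊤ → Cfsg.InZStar p (⟨x, hxH⟩ : ↥H))
    (hquot : ∀ (N : Subgroup G) [N.Normal], N ≠ ⊥ → Cfsg.InZStar p (QuotientGroup.mk x : G ⧸ N))
    (M : Subgroup G) (hM : IsMinNormal M) : commutator G = M := by
  have hsup := zmin_minNormal_sup x hx hiso hnz hmin hquot M hM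
  obtain ⟨hMn, hMne, hMmin⟩ := hM
  haveI := hMn
  have hrep : ∀ a : G, ∃ j : ℤ, (a : G ⧸ M) = (x : G ⧸ M) ^ j := by
    intro a
    have ha : a ∈ M ⊔ Subgroup.zpowers x := hsup ▸ Subgroup.mem_top a
    rw [← SetLike.mem_coe, Subgroup.normal_mul, Set.mem_mul] at ha
    obtain ⟨m, hm, y, hy, rfl⟩ := ha
    obtain ⟨j, rfl⟩ := Subgroup.mem_zpowers_iff.mp hy
    refine ⟨j, ?_⟩
    rw [QuotientGroup.mk_mul, (QuotientGroup.eq_one_iff m).mpr hm, one_mul, QuotientGroup.mk_zpow]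
  have hle : commutator G ≤ M := by
    rw [commutator_eq_closure, Subgroup.closure_le]
    intro c hc
    rw [mem_commutatorSet_iff] at hc
    obtain ⟨a, b, rfl⟩ := hc
    rw [SetLike.mem_coe, ← QuotientGroup.eq_one_iff]
    obtain ⟨i, hi⟩ := hrep a
    obtain ⟨j, hj⟩ := hrep b
    have h1 : ((⁅a, b⁆ : G) : G ⧸ M) = ⁅(a : G ⧸ M), (b : G ⧸ M)⁆ := by
      simp [commutatorElement_def]
    rw [h1, hi, hj, commutatorElement_eq_one_iff_commute]
    exact ((Commute.refl (x : G ⧸ M)).zpow_left i).zpow_right j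
  have hne : commutator G ≠ ⊥ := by
    intro h
    apply zmin_not_central x hnz hquot
    intro g
    have h1 : ⁅g, x⁆ ∈ commutator G :=
      Subgroup.commutator_mem_commutator (Subgroup.mem_top g) (Subgroup.mem_top x)
    rw [h, Subgroup.mem_bot, commutatorElement_def] at h1
    exact mul_inv_eq_one.mp h1
  exact hMmin (commutator G) inferInstance hne hle

theorem zmin_minNormal_simple (hx : orderOf x = p) (hiso : Cfsg.IsIsolated x)
    (hnz : ¬ Cfsg.InZStar p x)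
    (hmin : ∀ (H : Subgroup G) (hxH : x ∈ H), H ≠ ⊤ → Cfsg.InZStar p (⟨x, hxH⟩ : ↥H))
    (hquot : ∀ (N : Subgroup G) [N.Normal], N ≠ ⊥ → Cfsg.InZStar p (QuotientGroup.mk x : G ⧸ N))
    (M : Subgroup G) (hM : IsMinNormal M) : IsSimpleGroup ↥M := by
  have hsup := zmin_minNormal_sup x hx hiso hnz hmin hquot M hM
  obtain ⟨hMn, hMne, hMmin⟩ := hM
  haveI := hMn
  have hpp : p.Prime := Fact.out
  have hcore := zmin_core_eq_bot x hnz hquot
  have hcoreM : Cfsg.pPrimeCore p ↥M = ⊥ := pPrimeCore_subgroup_eq_bot p hcore M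
  haveI : Nontrivial ↥M := (Subgroup.nontrivial_iff_ne_bot M).mpr hMne
  refine ⟨fun N hN => ?_⟩
  by_cases hNb : N = ⊥
  · left; exact hNb
  right
  obtain ⟨T', hT'N, hT'⟩ := Finite.exists_le_minimal
    (p := fun K : Subgroup ↥M => K.Normal ∧ K ≠ ⊥) (a := N) ⟨hN, hNb⟩
  have hT'n : T'.Normal := hT'.1.1
  have hT'ne : T' ≠ ⊥ := hT'.1.2
  have hT'min : ∀ K : Subgroup ↥M, K.Normal → K ≠ ⊥ → K ≤ T' → K = T' :=
    fun K h1 h2 h3 => le_antisymm h3 (hT'.2 ⟨h1, h2⟩ h3)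
  suffices hT'top : T' = ⊤ by
    rw [eq_top_iff, ← hT'top]; exact hT'N
  -- p divides |T'|
  have hpT : p ∣ Nat.card ↥T' := by
    by_contra h
    have h1 : T' ≤ Cfsg.pPrimeCore p ↥M :=
      le_sSup ⟨hT'n, ((Nat.Prime.coprime_iff_not_dvd hpp).mpr h).symm⟩
    rw [hcoreM, le_bot_iff] at h1
    exact hT'ne h1
  obtain ⟨t₀, ht₀⟩ := exists_prime_orderOf_dvd_card' (G := ↥T') p hpT
  have htG : orderOf (((t₀ : ↥M) : G)) = p := by
    rw [Subgroup.orderOf_coe, Subgroup.orderOf_coe]; exact ht₀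
  have htp : IsPGroup p ↥(Subgroup.zpowers (((t₀ : ↥M) : G))) :=
    IsPGroup.of_card (n := 1) (by rw [Nat.card_zpowers, htG, pow_one])
  have hxp : IsPGroup p ↥(Subgroup.zpowers x) :=
    IsPGroup.of_card (n := 1) (by rw [Nat.card_zpowers, hx, pow_one])
  obtain ⟨P, hP⟩ := hxp.exists_le_sylow
  obtain ⟨P', hP'⟩ := htp.exists_le_sylow
  obtain ⟨g, hg⟩ := MulAction.exists_smul_eq G P' P
  have h1 : g * ((t₀ : ↥M) : G) * g⁻¹ ∈ (P : Subgroup G) := by
    rw [← hg, Sylow.coe_subgroup_smul]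
    exact ⟨((t₀ : ↥M) : G), hP' (Subgroup.mem_zpowers _), rfl⟩
  haveI : Group.IsNilpotent ↥(P : Subgroup G) := P.isPGroup'.isNilpotent
  have h2 := isolated_commute_of_nilpotent hiso (P : Subgroup G) (hP (Subgroup.mem_zpowers x)) _ h1
  have hg' : g⁻¹ ∈ M ⊔ Subgroup.zpowers x := hsup ▸ Subgroup.mem_top _
  rw [← SetLike.mem_coe, Subgroup.normal_mul, Set.mem_mul] at hg'
  obtain ⟨m, hm, y, hy, hmy⟩ := hg'
  obtain ⟨j, rfl⟩ := Subgroup.mem_zpowers_iff.mp hy
  -- t₁ := m⁻¹ t₀ m commutes with x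
  have hgeq : g = (x ^ j)⁻¹ * m⁻¹ := by
    rw [← inv_inv g, ← hmy, mul_inv_rev]
  have hC : (x ^ j)⁻¹ * (m⁻¹ * ((t₀ : ↥M) : G) * m) * x ^ j ∈ Subgroup.centralizer ({x} : Set G) := by
    rw [Subgroup.mem_centralizer_singleton_iff]
    have h3 : g * ((t₀ : ↥M) : G) * g⁻¹ = (x ^ j)⁻¹ * (m⁻¹ * ((t₀ : ↥M) : G) * m) * x ^ j := by
      rw [hgeq]; group
    rw [← h3]; exact h2
  have hxjC : x ^ j ∈ Subgroup.centralizer ({x} : Set G) := by
    rw [Subgroup.mem_centralizer_singleton_iff]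
    exact ((Commute.refl x).zpow_left j).eq
  have ht₁C : m⁻¹ * ((t₀ : ↥M) : G) * m ∈ Subgroup.centralizer ({x} : Set G) := by
    have h3 : m⁻¹ * ((t₀ : ↥M) : G) * m =
        x ^ j * ((x ^ j)⁻¹ * (m⁻¹ * ((t₀ : ↥M) : G) * m) * x ^ j) * (x ^ j)⁻¹ := by group
    rw [h3]
    exact Subgroup.mul_mem _ (Subgroup.mul_mem _ hxjC hC) (Subgroup.inv_mem _ hxjC)
  rw [Subgroup.mem_centralizer_singleton_iff] at ht₁C
  -- the element of T'
  set t₁ : ↥M := (⟨m, hm⟩ : ↥M)⁻¹ * (t₀ : ↥M) * ⟨m, hm⟩ with ht₁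
  have ht₁T : t₁ ∈ T' := by
    have := hT'n.conj_mem (t₀ : ↥M) t₀.2 (⟨m, hm⟩ : ↥M)⁻¹
    rwa [inv_inv] at this
  have ht₁coe : (t₁ : G) = m⁻¹ * ((t₀ : ↥M) : G) * m := by simp [ht₁]
  have ht₁ne : t₁ ≠ 1 := by
    intro h
    have h3 : (t₀ : ↥M) = 1 := by
      have h4 : (t₀ : ↥M) = (⟨m, hm⟩ : ↥M) * t₁ * (⟨m, hm⟩ : ↥M)⁻¹ := by rw [ht₁]; group
      rw [h4, h]; group
    have h5 : t₀ = 1 := Subtype.ext h3
    rw [h5, orderOf_one] at ht₀
    exact hpp.one_lt.ne' ht₀.symm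
  -- the conjugate of T' under x
  have hT'xn : (T'.map (MulAut.conjNormal x : MulAut ↥M).toMonoidHom).Normal :=
    Subgroup.Normal.map hT'n _ (MulAut.conjNormal x : MulAut ↥M).surjective
  have ht₁x : t₁ ∈ T'.map (MulAut.conjNormal x : MulAut ↥M).toMonoidHom := by
    refine ⟨t₁, ht₁T, ?_⟩
    apply Subtype.ext
    rw [MulEquiv.coe_toMonoidHom, MulAut.conjNormal_apply, ht₁coe]
    rw [← ht₁C]; group
  have hKn : (T' ⊓ T'.map (MulAut.conjNormal x : MulAut ↥M).toMonoidHom).Normal := by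
    haveI := hT'n
    haveI := hT'xn
    infer_instance
  have hKne : T' ⊓ T'.map (MulAut.conjNormal x : MulAut ↥M).toMonoidHom ≠ ⊥ := by
    intro h
    have h3 : t₁ ∈ T' ⊓ T'.map (MulAut.conjNormal x : MulAut ↥M).toMonoidHom := ⟨ht₁T, ht₁x⟩
    rw [h, Subgroup.mem_bot] at h3
    exact ht₁ne h3
  have hKeq := hT'min _ hKn hKne inf_le_left
  have hle : T' ≤ T'.map (MulAut.conjNormal x : MulAut ↥M).toMonoidHom := inf_eq_left.mp hKeq
  have hTeq : T' = T'.map (MulAut.conjNormal x : MulAut ↥M).toMonoidHom :=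
    Subgroup.eq_of_le_of_card_ge hle
      (Subgroup.card_map_of_injective (f := (MulAut.conjNormal x : MulAut ↥M).toMonoidHom)
        (MulEquiv.injective _)).le
  -- T := T'.map M.subtype is normal in G
  have hxN : x ∈ Subgroup.normalizer ((T'.map M.subtype : Subgroup G) : Set G) := by
    apply Helper50.mem_normalizer_of_conj_mem
    rintro _ ⟨z, hz, rfl⟩
    have h3 : (MulAut.conjNormal x : MulAut ↥M) z ∈ T' := by
      rw [hTeq]; exact ⟨z, hz, rfl⟩
    exact ⟨(MulAut.conjNormal x : MulAut ↥M) z, h3, rfl⟩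
  have hMN : M ≤ Subgroup.normalizer ((T'.map M.subtype : Subgroup G) : Set G) := by
    intro m' hm'
    apply Helper50.mem_normalizer_of_conj_mem
    rintro _ ⟨z, hz, rfl⟩
    exact ⟨(⟨m', hm'⟩ : ↥M) * z * (⟨m', hm'⟩ : ↥M)⁻¹, hT'n.conj_mem z hz _, by simp⟩
  have hNtop : Subgroup.normalizer ((T'.map M.subtype : Subgroup G) : Set G) = ⊤ := by
    rw [eq_top_iff, ← hsup]
    apply sup_le hMN
    rw [Subgroup.zpowers_le]
    exact hxN
  have hTn : (T'.map M.subtype).Normal := Subgroup.normalizer_eq_top_iff.mp hNtop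
  have hTne : T'.map M.subtype ≠ ⊥ := by
    intro h
    exact hT'ne ((Subgroup.map_eq_bot_iff_of_injective _ M.subtype_injective).mp h)
  have hTM : T'.map M.subtype = M := hMmin _ hTn hTne (Subgroup.map_subtype_le T')
  rw [eq_top_iff]
  intro y _
  have h3 : (y : G) ∈ T'.map M.subtype := by rw [hTM]; exact y.2
  obtain ⟨z, hz, hzy⟩ := h3
  have h4 : z = y := Subtype.ext hzy
  rw [← h4]; exact hz

end MinCounter

end Cfsg.Agent.Lib.Helper49
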