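import Cfsg.Agent.Lib.Helper60.U3ConjDefs

/-!
# U3 hive (S2283, owner helper23), sub-hive U3-CONJ (helper60): leaf CJ-GEN `conj_of_gram` (helper49)

Equal Gram matrices and equal non-zero determinants of `(x, N x, N² x)`, `(x', N' x', N'² x')` give the
conjugating element `g = B' B⁻¹` of `SU_3` (`B`, `B'` the matrices with these COLUMNS).
-/

set_option autoImplicit false

namespace Cfsg.Agent.Lib.Helper23.U3

open Matrix Cfsg.Agent.Lib.Helper99 Cfsg.Agent.Lib.Helper13 Cfsg.Agent.Lib.Helper90.Psu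

variable {F : Type*} [Field F] [Fintype F] {q : ℕ}

local notation "hh" => Cfsg.hermForm 3 F q

omit [Fintype F] in
theorem cjgen_mul_transpose (N M : Matrix (Fin 3) (Fin 3) F) (i j : Fin 3) :
    (N * Mᵀ) i j = (N *ᵥ M j) i := by
  simp [Matrix.mul_apply, Matrix.mulVec, dotProduct]

omit [Fintype F] in
theorem cjgen_transpose_mulVec (M : Matrix (Fin 3) (Fin 3) F) (η : Fin 3 → F) :
    Mᵀ *ᵥ η = η 0 • M 0 + η 1 • M 1 + η 2 • M 2 := by
  ext i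
  simp [Matrix.mulVec, dotProduct, Fin.sum_univ_three]
  ring

omit [Fintype F] in
/-- `N B = B S`, `S` the shift matrix -/
theorem cjgen_shift (u : GL (Fin 3) F) (x : Fin 3 → F)
    (h3 : nilp u *ᵥ (nilp u *ᵥ (nilp u *ᵥ x)) = 0) :
    nilp u * (tri u x)ᵀ = (tri u x)ᵀ * !![0, 0, 0; 1, 0, 0; 0, 1, 0] := by
  ext i j
  rw [cjgen_mul_transpose]
  have h0 : tri u x 0 = x := rfl
  have h1 : tri u x 1 = nilp u *ᵥ x := rfl
  have h2 : tri u x 2 = nilp u *ᵥ (nilp u *ᵥ x) := rfl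
  fin_cases j
  · show (nilp u *ᵥ tri u x 0) i = ((tri u x)ᵀ * (!![0, 0, 0; 1, 0, 0; 0, 1, 0] : Matrix (Fin 3) (Fin 3) F)) i 0
    rw [Matrix.mul_apply, Fin.sum_univ_three, h0]
    simp [h1]
  · show (nilp u *ᵥ tri u x 1) i = ((tri u x)ᵀ * (!![0, 0, 0; 1, 0, 0; 0, 1, 0] : Matrix (Fin 3) (Fin 3) F)) i 1
    rw [Matrix.mul_apply, Fin.sum_univ_three, h1]
    simp [h2]
  · show (nilp u *ᵥ tri u x 2) i = ((tri u x)ᵀ * (!![0, 0, 0; 1, 0, 0; 0, 1, 0] : Matrix (Fin 3) (Fin 3) F)) i 2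
    rw [Matrix.mul_apply, Fin.sum_univ_three, h2, h3]
    simp

/-- sesquilinear expansion in three vectors -/
theorem cjgen_expand (hF : Fintype.card F = q ^ 2) (a0 a1 a2 : Fin 3 → F) (η ζ : Fin 3 → F) :
    hh (η 0 • a0 + η 1 • a1 + η 2 • a2) (ζ 0 • a0 + ζ 1 • a1 + ζ 2 • a2) =
      η 0 * ζ 0 ^ q * hh a0 a0 + η 0 * ζ 1 ^ q * hh a0 a1 + η 0 * ζ 2 ^ q * hh a0 a2 +
      (η 1 * ζ 0 ^ q * hh a1 a0 + η 1 * ζ 1 ^ q * hh a1 a1 + η 1 * ζ 2 ^ q * hh a1 a2) +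
      (η 2 * ζ 0 ^ q * hh a2 a0 + η 2 * ζ 1 ^ q * hh a2 a1 + η 2 * ζ 2 ^ q * hh a2 a2) := by
  simp only [Helper13.hermForm_add_left, Helper13.hermForm_smul_left, Helper13.hermForm_add_right hF,
    Helper13.hermForm_smul_right]
  ring

/-- CJ-GEN (M, generic linear algebra): equal Gram matrices and equal non-zero determinants give a conjugating element of `SU_3`. -/
theorem conj_of_gram (hF : Fintype.card F = q ^ 2) (u u' : GL (Fin 3) F) (x x' : Fin 3 → F)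
    (h3 : nilp u *ᵥ (nilp u *ᵥ (nilp u *ᵥ x)) = 0)
    (h3' : nilp u' *ᵥ (nilp u' *ᵥ (nilp u' *ᵥ x')) = 0)
    (hdet0 : (tri u x).det ≠ 0) (hdet : (tri u' x').det = (tri u x).det)
    (hgram : ∀ i j : Fin 3, hh (tri u' x' i) (tri u' x' j) = hh (tri u x i) (tri u x j)) :
    ∃ g : GL (Fin 3) F, g ∈ suGL (F := F) 3 q ∧ g * u * g⁻¹ = u' := by
  classical
  obtain ⟨B, hB⟩ : ∃ B : Matrix (Fin 3) (Fin 3) F, B = (tri u x)ᵀ := ⟨_, rfl⟩
  obtain ⟨B', hB'⟩ : ∃ B' : Matrix (Fin 3) (Fin 3) F, B' = (tri u' x')ᵀ := ⟨_, rfl⟩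
  have hdB : B.det ≠ 0 := by rw [hB, Matrix.det_transpose]; exact hdet0
  have hdB' : B'.det = B.det := by rw [hB, hB', Matrix.det_transpose, Matrix.det_transpose]; exact hdet
  have hBu : IsUnit B.det := isUnit_iff_ne_zero.mpr hdB
  have hinv1 : B⁻¹ * B = 1 := Matrix.nonsing_inv_mul B hBu
  have hinv2 : B * B⁻¹ = 1 := Matrix.mul_nonsing_inv B hBu
  have hGdet : (B' * B⁻¹).det = 1 := by
    rw [Matrix.det_mul, Matrix.det_nonsing_inv, hdB', Ring.inverse_eq_inv', mul_inv_cancel₀ hdB]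
  have hGdet0 : (B' * B⁻¹).det ≠ 0 := by rw [hGdet]; exact one_ne_zero
  have hg : ((Matrix.GeneralLinearGroup.mkOfDetNeZero (B' * B⁻¹) hGdet0 : GL (Fin 3) F) :
      Matrix (Fin 3) (Fin 3) F) = B' * B⁻¹ := rfl
  have hNB : nilp u * B = B * !![0, 0, 0; 1, 0, 0; 0, 1, 0] := by rw [hB]; exact cjgen_shift u x h3
  have hNB' : nilp u' * B' = B' * !![0, 0, 0; 1, 0, 0; 0, 1, 0] := by
    rw [hB']; exact cjgen_shift u' x' h3'
  refine ⟨Matrix.GeneralLinearGroup.mkOfDetNeZero (B' * B⁻¹) hGdet0, Subgroup.mem_inf.mpr ⟨?_, ?_⟩, ?_⟩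
  · -- unitary
    rw [Helper13.mem_GU_iff]
    intro y z
    rw [hg]
    have hy : y = B *ᵥ (B⁻¹ *ᵥ y) := by rw [Matrix.mulVec_mulVec, hinv2, Matrix.one_mulVec]
    have hz : z = B *ᵥ (B⁻¹ *ᵥ z) := by rw [Matrix.mulVec_mulVec, hinv2, Matrix.one_mulVec]
    have hgy : (B' * B⁻¹) *ᵥ y = B' *ᵥ (B⁻¹ *ᵥ y) := by rw [Matrix.mulVec_mulVec]
    have hgz : (B' * B⁻¹) *ᵥ z = B' *ᵥ (B⁻¹ *ᵥ z) := by rw [Matrix.mulVec_mulVec]
    rw [hgy, hgz]
    conv_rhs => rw [hy, hz]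
    rw [hB', hB, cjgen_transpose_mulVec, cjgen_transpose_mulVec, cjgen_transpose_mulVec,
      cjgen_transpose_mulVec, cjgen_expand hF, cjgen_expand hF]
    simp only [hgram]
  · -- determinant one
    unfold Cfsg.Geo.specialLinear
    rw [MonoidHom.mem_ker, Units.ext_iff]
    exact hGdet
  · -- conjugation
    rw [mul_inv_eq_iff_eq_mul]
    apply Units.ext
    rw [Units.val_mul, Units.val_mul, hg]
    have hu : (u : Matrix (Fin 3) (Fin 3) F) = nilp u + 1 := by unfold nilp; abel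
    have hu' : (u' : Matrix (Fin 3) (Fin 3) F) = nilp u' + 1 := by unfold nilp; abel
    have hkey : B' * B⁻¹ * nilp u = nilp u' * (B' * B⁻¹) := by
      calc B' * B⁻¹ * nilp u = B' * B⁻¹ * nilp u * (B * B⁻¹) := by rw [hinv2, Matrix.mul_one]
        _ = B' * B⁻¹ * (nilp u * B) * B⁻¹ := by simp only [Matrix.mul_assoc]
        _ = B' * (B⁻¹ * B) * !![0, 0, 0; 1, 0, 0; 0, 1, 0] * B⁻¹ := by
            rw [hNB]; simp only [Matrix.mul_assoc]
        _ = (B' * !![0, 0, 0; 1, 0, 0; 0, 1, 0]) * B⁻¹ := by rw [hinv1, Matrix.mul_one]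
        _ = nilp u' * (B' * B⁻¹) := by rw [← hNB', Matrix.mul_assoc]
    rw [hu, hu', Matrix.mul_add, Matrix.add_mul, hkey, Matrix.mul_one, Matrix.one_mul]

end Cfsg.Agent.Lib.Helper23.U3
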