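import Cfsg.Agent.Lib.Helper60.U3ConjDefs

/-!
# U3 hive (S2283, owner helper23), sub-hive U3-CONJ (helper60): leaf CJ-DET3 `det_vec` (helper49)
-/

set_option autoImplicit false

namespace Cfsg.Agent.Lib.Helper23.U3

open Matrix Cfsg.Agent.Lib.Helper99 Cfsg.Agent.Lib.Helper13 Cfsg.Agent.Lib.Helper90.Psu

variable {F : Type*} [Field F] [Fintype F] {q : ℕ}

local notation "hh" => Cfsg.hermForm 3 F q

/-- CJ-DET3 (E): determinant of three vectors given in frame coordinates. -/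
theorem det_vec (C : Cfg q F) (x1 x2 x3 y1 y2 y3 z1 z2 z3 : F) :
    (Matrix.of ![C.vec x1 x2 x3, C.vec y1 y2 y3, C.vec z1 z2 z3]).det =
      (Matrix.of ![![x1, x2, x3], ![y1, y2, y3], ![z1, z2, z3]]).det * C.frame.det := by
  rw [← Matrix.det_mul]
  congr 1
  ext i j
  fin_cases i <;>
    simp [Matrix.mul_apply, Fin.sum_univ_three, Cfg.vec, Cfg.frame]
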