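import Cfsg.Agent.Lib.Helper76.SlDefs
import Cfsg.Agent.Lib.Helper3.CharOps
import Cfsg.Agent.S2336
import Cfsg.Agent.Lib.Helper5.SLGen

/-! Sl hive (S2332, helper76): leaf K6 `linear_trivial` (helper49): `SL_n(F)`, `n ≥ 3`, is perfect, so its only
linear character is the trivial one. -/

set_option autoImplicit false

namespace Cfsg.Agent.Lib.Helper76.Sl

open Matrix Cfsg

/-- the trace is multiplicative on a one-dimensional coordinate space. -/
theorem k6_trace_mul (f g : (Fin 1 → ℂ) →ₗ[ℂ] (Fin 1 → ℂ)) :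
    LinearMap.trace ℂ (Fin 1 → ℂ) (f * g)
      = LinearMap.trace ℂ (Fin 1 → ℂ) f * LinearMap.trace ℂ (Fin 1 → ℂ) g := by
  rw [LinearMap.trace_eq_matrix_trace ℂ (Pi.basisFun ℂ (Fin 1)),
    LinearMap.trace_eq_matrix_trace ℂ (Pi.basisFun ℂ (Fin 1)),
    LinearMap.trace_eq_matrix_trace ℂ (Pi.basisFun ℂ (Fin 1)), LinearMap.toMatrix_mul]
  simp [Matrix.trace, Matrix.mul_apply]

/-- a one-dimensional character of a perfect group is trivial. -/
theorem k6_perfect {G : Type*} [Group G] (hG : commutator G = ⊤)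
    (ρ : Representation ℂ G (Fin 1 → ℂ)) (g : G) : ρ.character g = 1 := by
  let φ : G →* ℂ :=
    { toFun := fun g => ρ.character g
      map_one' := by
        show ρ.character 1 = 1
        rw [Representation.char_one, Module.finrank_fin_fun]; simp
      map_mul' := by
        intro a b
        show LinearMap.trace ℂ (Fin 1 → ℂ) (ρ (a * b)) = LinearMap.trace ℂ (Fin 1 → ℂ) (ρ a) *
          LinearMap.trace ℂ (Fin 1 → ℂ) (ρ b)
        rw [map_mul, k6_trace_mul] }
  have hker : commutator G ≤ φ.toHomUnits.ker := Abelianization.commutator_subset_ker φ.toHomUnits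
  have hg : g ∈ φ.toHomUnits.ker := hker (hG ▸ Subgroup.mem_top g)
  rw [MonoidHom.mem_ker] at hg
  have h2 : ((φ.toHomUnits g : ℂˣ) : ℂ) = φ g := MonoidHom.coe_toHomUnits φ g
  rw [hg] at h2
  exact h2.symm

variable {F : Type*} [Field F] [Fintype F] [DecidableEq F]

/-- K6 PERF -/
theorem linear_trivial (m : ℕ) (hm : 1 ≤ m) (ψ : Gm F m → ℂ) (hψ : IsIrrCharacter (Gm F m) ψ)
    (h1 : ψ 1 = 1) : ψ = fun _ => 1 := by
  obtain ⟨k, ρ, _, rfl⟩ := hψ
  have hk : k = 1 := by
    rw [Representation.char_one, Module.finrank_fin_fun] at h1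
    exact_mod_cast h1
  subst hk
  have hperf : commutator (Gm F m) = ⊤ :=
    Cfsg.Agent.Lib.Helper5.commutator_SL_eq_top (by rw [Fintype.card_fin]; omega)
  funext g
  exact k6_perfect hperf ρ g

end Cfsg.Agent.Lib.Helper76.Sl
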