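import Mathlib
import Cfsg.Agent.Lib.Helper29.SmallTwoA
import Cfsg.Agent.Lib.Helper1.SmallTwoChi

/-! Leaf lemma (V4) for helper29's S4409: a group with a self-centralizing normal subgroup of
order 4 has no abelian subgroup of order 8. -/

set_option autoImplicit false

namespace Cfsg.Agent.Lib.Helper49.SmallTwo

open Cfsg.Agent.Lib.Helper29.SmallTwo
open scoped commutatorElement

theorem false_of_normal_four {S : Type*} [Group S] [Finite S] (H : Subgroup S) [H.Normal]
    (hH : Nat.card H = 4) (hC : Subgroup.centralizer (H : Set S) ≤ H) (A : Subgroup S)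
    (hA : IsMulCommutative A) (hA8 : Nat.card A = 8) : False := by
  have hA2 : IsPGroup 2 A := IsPGroup.of_card (n := 3) (by rw [hA8]; norm_num)
  have hH2 : IsPGroup 2 H := IsPGroup.of_card (n := 2) (by rw [hH]; norm_num)
  set R := A ⊔ H with hR
  have hR2 : IsPGroup 2 R := hA2.to_sup_of_normal_right hH2
  have hAR : A ≤ R := le_sup_left
  have hHR : H ≤ R := le_sup_right
  have hCcard : Nat.card (H.subgroupOf R) = 4 := by
    rw [Nat.card_congr (Subgroup.subgroupOfEquivOfLe hHR).toEquiv, hH]
  have hchi := chi hR2 (H.subgroupOf R) hCcard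
  have hcent : Subgroup.centralizer ((H.subgroupOf R : Subgroup R) : Set R) ≤ H.subgroupOf R := by
    intro x hx
    rw [Subgroup.mem_subgroupOf]
    apply hC
    rw [Subgroup.mem_centralizer_iff]
    intro h hh
    have := (Subgroup.mem_centralizer_iff.1 hx) ⟨h, hHR hh⟩
      (by rw [SetLike.mem_coe, Subgroup.mem_subgroupOf]; exact hh)
    exact congrArg Subtype.val this
  have hcardR : Nat.card R ≤ 8 := by
    have h1 := Subgroup.card_mul_index
      (Subgroup.centralizer ((H.subgroupOf R : Subgroup R) : Set R))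
    have h2 : Nat.card (Subgroup.centralizer ((H.subgroupOf R : Subgroup R) : Set R)) ≤ 4 :=
      (Subgroup.card_le_of_le hcent).trans_eq hCcard
    have h3 : (Subgroup.centralizer ((H.subgroupOf R : Subgroup R) : Set R)).index ≤ 2 :=
      Nat.le_of_dvd (by norm_num) hchi
    calc Nat.card R = Nat.card (Subgroup.centralizer ((H.subgroupOf R : Subgroup R) : Set R)) *
          (Subgroup.centralizer ((H.subgroupOf R : Subgroup R) : Set R)).index := h1.symm
      _ ≤ 4 * 2 := Nat.mul_le_mul h2 h3
  have hAeqR : A = R := Subgroup.eq_of_le_of_card_ge hAR (by rw [hA8]; exact hcardR)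
  have hHA : H ≤ A := by rw [hAeqR]; exact hHR
  have hAC : A ≤ Subgroup.centralizer (H : Set S) := by
    intro a ha
    rw [Subgroup.mem_centralizer_iff]
    intro h hh
    have := hA.is_comm.comm ⟨h, hHA hh⟩ ⟨a, ha⟩
    exact congrArg Subtype.val this
  have := Subgroup.card_le_of_le (hAC.trans hC)
  omega

end Cfsg.Agent.Lib.Helper49.SmallTwo
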