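import Mathlib
import Cfsg.Agent.Lib.Helper29.SmallTwoA
import Cfsg.Agent.Lib.Helper29.ExtraTwoIso

set_option autoImplicit false

/-!
Leaf (D8) for S4409: a group of order eight with centre `{1, z}` containing the commutator
subgroup and having a non-central involution has exactly two elements whose square is not `1`.
-/

namespace Cfsg.Agent.Lib.Helper49.SmallTwo

theorem exists_char_of_noncentral_involution {Y : Type*} [Group Y] [Finite Y] {z : Y}
    (h : Cfsg.Agent.Lib.Helper29.IsE2 Y z) (hc : Nat.card Y = 8) (t : Y) (ht : t * t = 1)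
    (htc : t ∉ Subgroup.center Y) :
    ∃ v : Y, v * v ≠ 1 ∧ ∀ w : Y, w * w ≠ 1 → w = v ∨ w = v⁻¹ := by
  classical
  obtain ⟨Q, H, hzQ, -, -, hcard, -, hcount⟩ := h.exists_dihedral_decomp t ht htc
  have hQ2 : Nat.card Q = 2 := by omega
  have hQall : Nat.card {q : Q // q ^ 2 = 1} = 2 := by
    have hall : ∀ q : Q, q ^ 2 = 1 := by
      intro q
      have := pow_card_eq_one' (G := Q) (x := q)
      rwa [hQ2] at this
    have e1 : Nat.card {q : Q // q ^ 2 = 1} = Nat.card Q :=
      Nat.card_congr (Equiv.subtypeUnivEquiv hall)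
    rw [e1, hQ2]
  have h6 : Nat.card {g : Y // g ^ 2 = 1} = 6 := by rw [hcount, hQall, hQ2]
  set S : Set Y := {g : Y | g ^ 2 = 1} with hS
  have hS6 : S.ncard = 6 := by
    have : Nat.card S = 6 := h6
    rwa [Nat.card_coe_set_eq] at this
  have hSc : Sᶜ.ncard = 2 := by
    have := Set.ncard_add_ncard_compl S
    rw [hS6, hc] at this
    omega
  obtain ⟨a, b, hab, hSab⟩ := Set.ncard_eq_two.mp hSc
  have hmem : ∀ w : Y, w * w ≠ 1 → w = a ∨ w = b := by
    intro w hw
    have : w ∈ Sᶜ := by
      intro hwS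
      apply hw
      have : w ^ 2 = 1 := hwS
      rwa [pow_two] at this
    rw [hSab] at this
    simpa using this
  have hnot : ∀ w : Y, w ∈ Sᶜ → w * w ≠ 1 := by
    intro w hw e
    apply hw
    show w ^ 2 = 1
    rw [pow_two, e]
  have ha : a * a ≠ 1 := hnot a (by rw [hSab]; simp)
  have hb : b * b ≠ 1 := hnot b (by rw [hSab]; simp)
  have hainv : a⁻¹ * a⁻¹ ≠ 1 := by
    intro e
    apply ha
    have : (a * a)⁻¹ = 1 := by rw [mul_inv_rev, e]
    exact inv_eq_one.mp this
  have hainv_ne : a⁻¹ ≠ a := by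
    intro e
    apply ha
    calc a * a = a⁻¹ * a := by rw [e]
      _ = 1 := inv_mul_cancel a
  have hb' : b = a⁻¹ := by
    rcases hmem a⁻¹ hainv with e | e
    · exact absurd e hainv_ne
    · exact e.symm
  refine ⟨a, ha, fun w hw => ?_⟩
  rcases hmem w hw with e | e
  · exact Or.inl e
  · exact Or.inr (e.trans hb')

end Cfsg.Agent.Lib.Helper49.SmallTwo
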