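import Mathlib

/-!
# Transport of `PSL n` along a ring isomorphism (helper49)
-/

set_option autoImplicit false

namespace Cfsg.Agent.Lib.Helper49.PSLCongr

open Matrix

/-- A ring isomorphism induces an isomorphism of special linear groups. -/
noncomputable def slCongr {n : Type*} [Fintype n] [DecidableEq n] {R S : Type*} [CommRing R]
    [CommRing S] (e : R ≃+* S) : SpecialLinearGroup n R ≃* SpecialLinearGroup n S where
  toFun := SpecialLinearGroup.map e.toRingHom
  invFun := SpecialLinearGroup.map e.symm.toRingHom
  left_inv A := by
    apply Matrix.SpecialLinearGroup.ext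
    intro i j
    simp
  right_inv A := by
    apply Matrix.SpecialLinearGroup.ext
    intro i j
    simp
  map_mul' A B := map_mul _ A B

/-- A group isomorphism maps the center onto the center. -/
theorem map_center_eq {A B : Type*} [Group A] [Group B] (φ : A ≃* B) :
    (Subgroup.center A).map (φ : A →* B) = Subgroup.center B := by
  ext b
  constructor
  · rintro ⟨a, ha, rfl⟩
    rw [SetLike.mem_coe] at ha
    rw [Subgroup.mem_center_iff] at ha ⊢
    intro g
    obtain ⟨g', rfl⟩ := φ.surjective g
    show φ g' * φ a = φ a * φ g'
    rw [← map_mul, ← map_mul, ha g']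
  · intro hb
    refine ⟨φ.symm b, ?_, by simp⟩
    rw [SetLike.mem_coe]
    rw [Subgroup.mem_center_iff] at hb ⊢
    intro g
    apply φ.injective
    rw [map_mul, map_mul, φ.apply_symm_apply]
    exact hb (φ g)

/-- A ring isomorphism induces an isomorphism of projective special linear groups. -/
noncomputable def pslCongr {n : Type*} [Fintype n] [DecidableEq n] {R S : Type*} [CommRing R]
    [CommRing S] (e : R ≃+* S) :
    ProjectiveSpecialLinearGroup n R ≃* ProjectiveSpecialLinearGroup n S :=
  QuotientGroup.congr (Subgroup.center (SpecialLinearGroup n R))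
    (Subgroup.center (SpecialLinearGroup n S)) (slCongr e) (map_center_eq (slCongr e))

end Cfsg.Agent.Lib.Helper49.PSLCongr
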