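import Mathlib
import Cfsg.Prelude.Def_CaseTheorems

/-! N57 hive = S1957 (architect helper84): leaf N57-OMEGA `omega` (helper49).

`P` a 2-group with cyclic centre, `U` a normal four-subgroup of `P` not central in `P`, `P₀ = C_P(U)`: every `w ∈ Z(P₀)` with
`w² = 1` lies in `U`. -/
set_option autoImplicit false
open Cfsg

namespace Cfsg.Agent.Lib.Helper84.N57

/-- in a finite cyclic group the solutions of `x² = 1` are `1` and the involution -/
theorem n57omega_cyc {C : Type*} [Group C] [Finite C] [IsCyclic C] (z x : C) (hz1 : z ≠ 1) (hz2 : z * z = 1)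
    (hx2 : x * x = 1) : x = 1 ∨ x = z := by
  classical
  by_contra hcon
  obtain ⟨h1, h2⟩ := not_or.1 hcon
  let _ := Fintype.ofFinite C
  have hle := IsCyclic.card_pow_eq_one_le (α := C) (n := 2) (by norm_num)
  have hsub : ({1, z, x} : Finset C) ⊆ Finset.univ.filter (fun a : C => a ^ 2 = 1) := by
    intro a ha
    simp only [Finset.mem_insert, Finset.mem_singleton] at ha
    rw [Finset.mem_filter]
    refine ⟨Finset.mem_univ _, ?_⟩
    rcases ha with rfl | rfl | rfl
    · simp
    · rw [pow_two]; exact hz2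
    · rw [pow_two]; exact hx2
  have hcard : ({1, z, x} : Finset C).card = 3 := by
    rw [Finset.card_insert_of_notMem, Finset.card_insert_of_notMem, Finset.card_singleton]
    · simp only [Finset.mem_singleton]
      exact fun h => h2 h.symm
    · simp only [Finset.mem_insert, Finset.mem_singleton, not_or]
      exact ⟨fun h => hz1 h.symm, fun h => h1 h.symm⟩
  have := Finset.card_le_card hsub
  omega

variable {G : Type*} [Group G] [Finite G]

/-- N57-OMEGA -/
theorem omega (P U : Subgroup G) (hP : IsPGroup 2 ↥P) (hUP : U ≤ P)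
    (hUn : P ≤ Subgroup.normalizer (U : Set G)) (hU4 : IsKleinFour ↥U)
    (hcyc : IsCyclic ↥(P ⊓ Subgroup.centralizer (P : Set G)))
    (hnc : ¬ U ≤ Subgroup.centralizer (P : Set G)) :
    ∀ w ∈ P ⊓ Subgroup.centralizer (U : Set G),
      (∀ y ∈ P ⊓ Subgroup.centralizer (U : Set G), w * y = y * w) → w * w = 1 → w ∈ U := by
  classical
  -- basic facts on `U`
  have hU2 : ∀ x ∈ U, x * x = 1 := by
    intro x hx
    have h := Monoid.pow_exponent_eq_one (⟨x, hx⟩ : ↥U)
    rw [hU4.exponent_two, pow_two] at h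
    exact congrArg Subtype.val h
  have hUinv : ∀ x ∈ U, x⁻¹ = x := fun x hx => inv_eq_of_mul_eq_one_left (hU2 x hx)
  have hUc : ∀ x ∈ U, ∀ y ∈ U, x * y = y * x := by
    intro x hx y hy
    have h2 : x * y = (x * y)⁻¹ := (hUinv _ (U.mul_mem hx hy)).symm
    rw [h2, mul_inv_rev, hUinv x hx, hUinv y hy]
  have hconjU : ∀ s ∈ P, ∀ x ∈ U, s * x * s⁻¹ ∈ U := fun s hs x hx =>
    (Subgroup.mem_normalizer_iff.1 (hUn hs) x).1 hx
  -- a central involution `z` of `P` inside `U`
  let act : MulAction ↥P ↥U :=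
    { smul := fun s x => ⟨(s : G) * x * (s : G)⁻¹, hconjU s s.2 x x.2⟩
      one_smul := fun x => Subtype.ext (by
        show ((1 : ↥P) : G) * x * ((1 : ↥P) : G)⁻¹ = x
        simp)
      mul_smul := fun s s' x => Subtype.ext (by
        show ((s * s' : ↥P) : G) * x * ((s * s' : ↥P) : G)⁻¹ = (s : G) * ((s' : G) * x * (s' : G)⁻¹) * (s : G)⁻¹
        simp [mul_assoc]) }
  have hfix1 : (1 : ↥U) ∈ MulAction.fixedPoints ↥P ↥U := by
    intro s
    exact Subtype.ext (by
      show (s : G) * ((1 : ↥U) : G) * (s : G)⁻¹ = ((1 : ↥U) : G)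
      simp)
  obtain ⟨b, hbfix, hb1⟩ := hP.exists_fixed_point_of_prime_dvd_card_of_fixed_point (α := ↥U)
    (by rw [hU4.card_four]; norm_num) hfix1
  obtain ⟨z, hzU⟩ := b
  have hz1 : z ≠ 1 := fun h => hb1 (Subtype.ext h.symm)
  have hzc : ∀ s ∈ P, s * z = z * s := by
    intro s hs
    have h1 := hbfix ⟨s, hs⟩
    have h2 : s * z * s⁻¹ = z := congrArg Subtype.val h1
    calc s * z = s * z * s⁻¹ * s := by group
      _ = z * s := by rw [h2]
  have hz2 : z * z = 1 := hU2 z hzU
  -- `t` and `u`
  have hex : ∃ u ∈ U, ∃ t ∈ P, t * u ≠ u * t := by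
    by_contra hcon
    apply hnc
    intro u hu
    rw [Subgroup.mem_centralizer_iff]
    intro t ht
    by_contra h
    exact hcon ⟨u, hu, t, ht, h⟩
  obtain ⟨u, hu, t, ht, htu⟩ := hex
  have hu1 : u ≠ 1 := by
    rintro rfl
    exact htu (by simp)
  have huz : u ≠ z := by
    rintro rfl
    exact htu (hzc t ht)
  have hu'U : t * u * t⁻¹ ∈ U := hconjU t ht u hu
  have hu'u : t * u * t⁻¹ ≠ u := by
    intro h
    apply htu
    calc t * u = t * u * t⁻¹ * t := by group
      _ = u * t := by rw [h]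
  have hback : ∀ s x y : G, s * x * s⁻¹ = y → x = s⁻¹ * y * s := by
    intro s x y h
    rw [← h]; group
  have hzconj : ∀ s ∈ P, s⁻¹ * z * s = z := by
    intro s hs
    have := hzc s hs
    calc s⁻¹ * z * s = s⁻¹ * (z * s) := by group
      _ = s⁻¹ * (s * z) := by rw [this]
      _ = z := by group
  have hu'1 : t * u * t⁻¹ ≠ 1 := by
    intro h
    apply hu1
    rw [hback t u 1 h]; group
  have hu'z : t * u * t⁻¹ ≠ z := by
    intro h
    apply huz
    rw [hback t u z h, hzconj t ht]
  -- enumeration of `U`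
  have hUel : ∀ x ∈ U, x = 1 ∨ x = z ∨ x = u ∨ x = t * u * t⁻¹ := by
    intro x hx
    by_contra hcon
    simp only [not_or] at hcon
    obtain ⟨hx1, hxz, hxu, hxu'⟩ := hcon
    let _ := Fintype.ofFinite ↥U
    have hcard : Fintype.card ↥U = 4 := by
      rw [← Nat.card_eq_fintype_card]; exact hU4.card_four
    let f : Fin 5 → ↥U := ![⟨1, U.one_mem⟩, ⟨z, hzU⟩, ⟨u, hu⟩, ⟨t * u * t⁻¹, hu'U⟩, ⟨x, hx⟩]
    have hf : Function.Injective f := by
      intro i j hij
      fin_cases i <;> fin_cases j <;>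
        simp [f, Subtype.ext_iff, hz1, hz1.symm, hu1, hu1.symm, hu'1, hu'1.symm, hx1, Ne.symm hx1, huz, huz.symm,
          hu'z, hu'z.symm, hxz, Ne.symm hxz, hu'u, hu'u.symm, hxu, Ne.symm hxu, hxu', Ne.symm hxu'] at hij ⊢
    have := Fintype.card_le_of_injective f hf
    rw [hcard, Fintype.card_fin] at this
    omega
  -- `P₀`
  have hP0 : ∀ s ∈ P, s * u = u * s → s ∈ P ⊓ Subgroup.centralizer (U : Set G) := by
    intro s hs hsu
    refine Subgroup.mem_inf.2 ⟨hs, ?_⟩
    rw [Subgroup.mem_centralizer_iff]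
    intro x hx
    rcases hUel x hx with rfl | rfl | rfl | rfl
    · simp
    · exact (hzc s hs).symm
    · exact hsu.symm
    · -- `t u t⁻¹ = u z`
      have huzU : u * z ∈ U := U.mul_mem hu hzU
      have hne1 : u * z ≠ 1 := by
        intro h
        apply huz
        have : u = z⁻¹ := eq_inv_of_mul_eq_one_left h
        rw [this, hUinv z hzU]
      have hnez : u * z ≠ z := by
        intro h
        exact hu1 (by simpa using h)
      have hneu : u * z ≠ u := by
        intro h
        exact hz1 (by simpa using h)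
      have heq : t * u * t⁻¹ = u * z := by
        rcases hUel (u * z) huzU with h | h | h | h
        · exact absurd h hne1
        · exact absurd h hnez
        · exact absurd h hneu
        · exact h.symm
      rw [heq]
      calc u * z * s = u * (z * s) := by group
        _ = u * (s * z) := by rw [hzc s hs]
        _ = (u * s) * z := by group
        _ = (s * u) * z := by rw [hsu]
        _ = s * (u * z) := by group
  have htP0 : t ∉ P ⊓ Subgroup.centralizer (U : Set G) := by
    intro h
    have := Subgroup.mem_centralizer_iff.1 (Subgroup.mem_inf.1 h).2 u hu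
    exact htu this.symm
  have hsplit : ∀ s ∈ P, s ∈ P ⊓ Subgroup.centralizer (U : Set G) ∨
      t⁻¹ * s ∈ P ⊓ Subgroup.centralizer (U : Set G) := by
    intro s hs
    have hsU : s * u * s⁻¹ ∈ U := hconjU s hs u hu
    have hs1 : s * u * s⁻¹ ≠ 1 := by
      intro h
      apply hu1
      rw [hback s u 1 h]; group
    have hsz : s * u * s⁻¹ ≠ z := by
      intro h
      apply huz
      rw [hback s u z h, hzconj s hs]
    rcases hUel _ hsU with h | h | h | h
    · exact absurd h hs1
    · exact absurd h hsz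
    · left
      apply hP0 s hs
      calc s * u = s * u * s⁻¹ * s := by group
        _ = u * s := by rw [h]
    · right
      apply hP0 _ (P.mul_mem (P.inv_mem ht) hs)
      have h' : t⁻¹ * (s * u * s⁻¹) * t = u := by
        rw [h]; group
      calc t⁻¹ * s * u = t⁻¹ * (s * u * s⁻¹) * t * (t⁻¹ * s) := by group
        _ = u * (t⁻¹ * s) := by rw [h']
  -- `P` normalises `P₀`
  have hconjP0 : ∀ s ∈ P, ∀ y ∈ P ⊓ Subgroup.centralizer (U : Set G),
      s * y * s⁻¹ ∈ P ⊓ Subgroup.centralizer (U : Set G) := by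
    intro s hs y hy
    refine Subgroup.mem_inf.2 ⟨P.mul_mem (P.mul_mem hs (Subgroup.mem_inf.1 hy).1) (P.inv_mem hs), ?_⟩
    rw [Subgroup.mem_centralizer_iff]
    intro x hx
    have hx0 : s⁻¹ * x * s ∈ U := by
      have := hconjU s⁻¹ (P.inv_mem hs) x hx
      rwa [inv_inv] at this
    have hc := Subgroup.mem_centralizer_iff.1 (Subgroup.mem_inf.1 hy).2 _ hx0
    calc x * (s * y * s⁻¹) = s * ((s⁻¹ * x * s) * y) * s⁻¹ := by group
      _ = s * (y * (s⁻¹ * x * s)) * s⁻¹ := by rw [hc]
      _ = s * y * s⁻¹ * x := by group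
  have hconjZ : ∀ s ∈ P, ∀ v ∈ P ⊓ Subgroup.centralizer (U : Set G),
      (∀ y ∈ P ⊓ Subgroup.centralizer (U : Set G), v * y = y * v) →
      ∀ y ∈ P ⊓ Subgroup.centralizer (U : Set G), (s * v * s⁻¹) * y = y * (s * v * s⁻¹) := by
    intro s hs v _ hvc y hy
    have hy0 : s⁻¹ * y * s ∈ P ⊓ Subgroup.centralizer (U : Set G) := by
      have := hconjP0 s⁻¹ (P.inv_mem hs) y hy
      rwa [inv_inv] at this
    have hc := hvc _ hy0
    calc s * v * s⁻¹ * y = s * (v * (s⁻¹ * y * s)) * s⁻¹ := by group
      _ = s * ((s⁻¹ * y * s) * v) * s⁻¹ := by rw [hc]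
      _ = y * (s * v * s⁻¹) := by group
  -- central in `P₀` and commuting with `t` ⟹ central in `P`
  have hcentral : ∀ v ∈ P ⊓ Subgroup.centralizer (U : Set G),
      (∀ y ∈ P ⊓ Subgroup.centralizer (U : Set G), v * y = y * v) → t * v = v * t →
      v ∈ P ⊓ Subgroup.centralizer (P : Set G) := by
    intro v hv hvc hvt
    refine Subgroup.mem_inf.2 ⟨(Subgroup.mem_inf.1 hv).1, ?_⟩
    rw [Subgroup.mem_centralizer_iff]
    intro s hs
    rcases hsplit s hs with h | h
    · exact (hvc s h).symm
    · have h1 := hvc _ h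
      calc s * v = t * ((t⁻¹ * s) * v) := by group
        _ = t * (v * (t⁻¹ * s)) := by rw [h1]
        _ = (t * v) * (t⁻¹ * s) := by group
        _ = (v * t) * (t⁻¹ * s) := by rw [hvt]
        _ = v * s := by group
  have hzZ : z ∈ P ⊓ Subgroup.centralizer (P : Set G) := by
    refine Subgroup.mem_inf.2 ⟨hUP hzU, ?_⟩
    rw [Subgroup.mem_centralizer_iff]
    intro s hs
    exact hzc s hs
  have hone_or : ∀ v ∈ P ⊓ Subgroup.centralizer (P : Set G), v * v = 1 → v = 1 ∨ v = z := by
    intro v hv hvv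
    have := n57omega_cyc (C := ↥(P ⊓ Subgroup.centralizer (P : Set G))) ⟨z, hzZ⟩ ⟨v, hv⟩
      (fun h => hz1 (congrArg Subtype.val h)) (Subtype.ext hz2) (Subtype.ext hvv)
    rcases this with h | h
    · left; exact congrArg Subtype.val h
    · right; exact congrArg Subtype.val h
  -- (A)
  have hA : ∀ v ∈ P ⊓ Subgroup.centralizer (U : Set G),
      (∀ y ∈ P ⊓ Subgroup.centralizer (U : Set G), v * y = y * v) → v * v = 1 → v * (t * v * t⁻¹) = 1 →
      v ∈ U := by
    intro v hv hvc hvv h1
    have hvinv : v⁻¹ = v := inv_eq_of_mul_eq_one_left hvv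
    have h2 : t * v * t⁻¹ = v := by
      have : t * v * t⁻¹ = v⁻¹ := (inv_eq_of_mul_eq_one_right h1).symm
      rw [this, hvinv]
    have hvt : t * v = v * t := by
      calc t * v = t * v * t⁻¹ * t := by group
        _ = v * t := by rw [h2]
    rcases hone_or v (hcentral v hv hvc hvt) hvv with h | h
    · rw [h]; exact U.one_mem
    · rw [h]; exact hzU
  -- main
  intro w hw hwc hww
  have hw'' : t * w * t⁻¹ ∈ P ⊓ Subgroup.centralizer (U : Set G) := hconjP0 t ht w hw
  have hw''c := hconjZ t ht w hw hwc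
  have htt : t * t ∈ P ⊓ Subgroup.centralizer (U : Set G) := by
    rcases hsplit (t * t) (P.mul_mem ht ht) with h | h
    · exact h
    · exfalso
      apply htP0
      have : t⁻¹ * (t * t) = t := by group
      rwa [this] at h
  set w' := w * (t * w * t⁻¹) with hw'def
  have hw'P0 : w' ∈ P ⊓ Subgroup.centralizer (U : Set G) := Subgroup.mul_mem _ hw hw''
  have hw'c : ∀ y ∈ P ⊓ Subgroup.centralizer (U : Set G), w' * y = y * w' := by
    intro y hy
    calc w' * y = w * ((t * w * t⁻¹) * y) := by rw [hw'def]; group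
      _ = w * (y * (t * w * t⁻¹)) := by rw [hw''c y hy]
      _ = (w * y) * (t * w * t⁻¹) := by group
      _ = (y * w) * (t * w * t⁻¹) := by rw [hwc y hy]
      _ = y * w' := by rw [hw'def]; group
  have hcomm1 : w * (t * w * t⁻¹) = (t * w * t⁻¹) * w := hwc _ hw''
  have hw't : t * w' = w' * t := by
    have h1 : (t * t) * w = w * (t * t) := (hwc _ htt).symm
    calc t * w' = (t * w * t⁻¹) * ((t * t) * w) * t⁻¹ := by rw [hw'def]; group
      _ = (t * w * t⁻¹) * (w * (t * t)) * t⁻¹ := by rw [h1]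
      _ = ((t * w * t⁻¹) * w) * t := by group
      _ = w' * t := by rw [← hcomm1]
  have hw'w' : w' * w' = 1 := by
    calc w' * w' = w * ((t * w * t⁻¹) * w) * (t * w * t⁻¹) := by rw [hw'def]; group
      _ = w * (w * (t * w * t⁻¹)) * (t * w * t⁻¹) := by rw [← hcomm1]
      _ = (w * w) * (t * (w * w) * t⁻¹) := by group
      _ = 1 := by rw [hww]; group
  rcases hone_or w' (hcentral w' hw'P0 hw'c hw't) hw'w' with h | h
  · exact hA w hw hwc hww h
  · -- `w' = z`: apply (A) to `u * w`
    have huP0 : u ∈ P ⊓ Subgroup.centralizer (U : Set G) := by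
      refine Subgroup.mem_inf.2 ⟨hUP hu, ?_⟩
      rw [Subgroup.mem_centralizer_iff]
      intro x hx
      exact hUc x hx u hu
    have huc : ∀ y ∈ P ⊓ Subgroup.centralizer (U : Set G), u * y = y * u := by
      intro y hy
      exact Subgroup.mem_centralizer_iff.1 (Subgroup.mem_inf.1 hy).2 u hu
    have hyP0 : u * w ∈ P ⊓ Subgroup.centralizer (U : Set G) := Subgroup.mul_mem _ huP0 hw
    have hyc : ∀ y ∈ P ⊓ Subgroup.centralizer (U : Set G), (u * w) * y = y * (u * w) := by
      intro y hy
      calc u * w * y = u * (w * y) := by group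
        _ = u * (y * w) := by rw [hwc y hy]
        _ = (u * y) * w := by group
        _ = (y * u) * w := by rw [huc y hy]
        _ = y * (u * w) := by group
    have hwu : w * u = u * w := hwc u huP0
    have hyy : (u * w) * (u * w) = 1 := by
      calc u * w * (u * w) = u * (w * u) * w := by group
        _ = u * (u * w) * w := by rw [hwu]
        _ = (u * u) * (w * w) := by group
        _ = 1 := by rw [hU2 u hu, hww]; group
    have hu'P0 : t * u * t⁻¹ ∈ P ⊓ Subgroup.centralizer (U : Set G) := hconjP0 t ht u huP0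
    have hwu' : w * (t * u * t⁻¹) = (t * u * t⁻¹) * w := hwc _ hu'P0
    -- `u * (t u t⁻¹) = z`
    have huu' : u * (t * u * t⁻¹) = z := by
      have hmem : u * (t * u * t⁻¹) ∈ U := U.mul_mem hu hu'U
      rcases hUel _ hmem with h1 | h1 | h1 | h1
      · exfalso
        apply hu'u
        have : t * u * t⁻¹ = u⁻¹ := (inv_eq_of_mul_eq_one_right h1).symm
        rw [this, hUinv u hu]
      · exact h1
      · exfalso
        exact hu'1 (by simpa using h1)
      · exfalso
        apply hu1
        have : u * (t * u * t⁻¹) * (t * u * t⁻¹)⁻¹ = u := by group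
        rw [h1] at this
        rw [← this]; group
    have hprod : (u * w) * (t * (u * w) * t⁻¹) = 1 := by
      calc u * w * (t * (u * w) * t⁻¹) = u * (w * (t * u * t⁻¹)) * (t * w * t⁻¹) := by group
        _ = u * ((t * u * t⁻¹) * w) * (t * w * t⁻¹) := by rw [hwu']
        _ = (u * (t * u * t⁻¹)) * (w * (t * w * t⁻¹)) := by group
        _ = z * z := by rw [huu', ← hw'def, h]
        _ = 1 := hz2
    have hmem := hA (u * w) hyP0 hyc hyy hprod
    have : w = u⁻¹ * (u * w) := by group
    rw [this]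
    exact U.mul_mem (U.inv_mem hu) hmem

end Cfsg.Agent.Lib.Helper84.N57
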