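import Cfsg.Agent.Lib.Helper38.RhDefsB

/-! Rh hive (helper38), PART B: leaf RH-FIXC `fixN_conj` + `fixN_one` (helper49). -/

set_option autoImplicit false

namespace Cfsg.Agent.Lib.Helper38.Rh

open Cfsg.Agent.Lib.Helper12.Rt

section partB
variable {K : Type*} [Field K] [Fintype K] {G : Type*} [Group G] {m : ℕ} (D : RtData K G m)

/-- RH-FIXC.  Conjugate elements have the same number of fixed points; the identity fixes all `q³ + 1` points. -/
theorem fixN_conj (g c : G) : fixN D (c * g * c⁻¹) = fixN D g := by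
  unfold fixN
  symm
  refine Nat.card_congr ((MulAction.toPerm c).subtypeEquiv ?_)
  intro x
  show g • x = x ↔ (c * g * c⁻¹) • (c • x) = c • x
  rw [mul_smul, mul_smul, inv_smul_smul, smul_left_cancel_iff]

/-- RH-FIXC (same file). -/
theorem fixN_one : fixN D 1 = qq m ^ 3 + 1 := by
  unfold fixN
  have h1 : Nat.card {c : G ⧸ D.R.B // (1 : G) • c = c} = Nat.card (G ⧸ D.R.B) := by
    refine Nat.card_congr (Equiv.subtypeUnivEquiv ?_)
    intro c
    exact one_smul G c
  rw [h1]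
  have h2 : Nat.card G = Nat.card (G ⧸ D.R.B) * Nat.card D.R.B :=
    Subgroup.card_eq_card_quotient_mul_card_subgroup D.R.B
  rw [D.card_G, D.card_B] at h2
  have hq : 3 ≤ 3 ^ (2 * m + 1) := by
    calc 3 = 3 ^ 1 := by norm_num
      _ ≤ 3 ^ (2 * m + 1) := Nat.pow_le_pow_right (by norm_num) (by omega)
  have hpos : 0 < (3 ^ (2 * m + 1)) ^ 3 * (3 ^ (2 * m + 1) - 1) := by
    apply Nat.mul_pos
    · positivity
    · omega
  have h3 : ((3 ^ (2 * m + 1)) ^ 3 + 1) * ((3 ^ (2 * m + 1)) ^ 3 * (3 ^ (2 * m + 1) - 1)) =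
      Nat.card (G ⧸ D.R.B) * ((3 ^ (2 * m + 1)) ^ 3 * (3 ^ (2 * m + 1) - 1)) := by
    rw [← h2]; ring
  have h4 := Nat.eq_of_mul_eq_mul_right hpos h3
  unfold qq
  exact h4.symm

end partB

end Cfsg.Agent.Lib.Helper38.Rh
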