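import Cfsg.Agent.Lib.Helper37.D4O8Defs

/-! # Do hive (helper37, S1082), leaf DO-EIN (helper49): every root element `X r t` of `O₈⁺(F)` is a
commutator `⁅X a (±t), X b 1⁆` of two root elements (`r = a + b`); works over every field. -/

set_option autoImplicit false
set_option linter.unusedSectionVars false
set_option linter.unusedVariables false

namespace Cfsg.Agent.Lib.Helper37.D4O8

open Matrix Module QuadraticMap
open Cfsg.Agent.Lib.Helper8 Cfsg.Agent.Lib.Helper13 Cfsg.Agent.Lib.Helper37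

variable {F : Type*} [Field F]

/-- a commutator of two elements lies in the commutator subgroup -/
theorem ein_mem (g h k : OG F) (e : k = g * h * g⁻¹ * h⁻¹) : k ∈ commutator (OG F) := by
  rw [e]
  exact Subgroup.commutator_mem_commutator (G := OG F) (g₁ := g) (g₂ := h)
    (Subgroup.mem_top _) (Subgroup.mem_top _)

theorem ein_comm0 (t : F) : X 0 t = X 1 t * X 9 1 * (X 1 t)⁻¹ * (X 9 1)⁻¹ := by
  rw [X_inv, X_inv]
  apply reflElt_ext
  intro x
  simp only [act_mul, act_X0, act_X1, act_X9]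
  apply ext8 <;> simp <;> ring

theorem ein_comm1 (t : F) : X 1 t = X 0 t * X 14 1 * (X 0 t)⁻¹ * (X 14 1)⁻¹ := by
  rw [X_inv, X_inv]
  apply reflElt_ext
  intro x
  simp only [act_mul, act_X1, act_X0, act_X14]
  apply ext8 <;> simp <;> ring

theorem ein_comm2 (t : F) : X 2 t = X 0 (-t) * X 15 1 * (X 0 (-t))⁻¹ * (X 15 1)⁻¹ := by
  rw [X_inv, X_inv]
  apply reflElt_ext
  intro x
  simp only [act_mul, act_X2, act_X0, act_X15]
  apply ext8 <;> simp <;> ring

theorem ein_comm3 (t : F) : X 3 t = X 0 (-t) * X 16 1 * (X 0 (-t))⁻¹ * (X 16 1)⁻¹ := by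
  rw [X_inv, X_inv]
  apply reflElt_ext
  intro x
  simp only [act_mul, act_X3, act_X0, act_X16]
  apply ext8 <;> simp <;> ring

theorem ein_comm4 (t : F) : X 4 t = X 0 t * X 17 1 * (X 0 t)⁻¹ * (X 17 1)⁻¹ := by
  rw [X_inv, X_inv]
  apply reflElt_ext
  intro x
  simp only [act_mul, act_X4, act_X0, act_X17]
  apply ext8 <;> simp <;> ring

theorem ein_comm5 (t : F) : X 5 t = X 1 t * X 17 1 * (X 1 t)⁻¹ * (X 17 1)⁻¹ := by
  rw [X_inv, X_inv]
  apply reflElt_ext
  intro x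
  simp only [act_mul, act_X5, act_X1, act_X17]
  apply ext8 <;> simp <;> ring

theorem ein_comm6 (t : F) : X 6 t = X 0 (-t) * X 19 1 * (X 0 (-t))⁻¹ * (X 19 1)⁻¹ := by
  rw [X_inv, X_inv]
  apply reflElt_ext
  intro x
  simp only [act_mul, act_X6, act_X0, act_X19]
  apply ext8 <;> simp <;> ring

theorem ein_comm7 (t : F) : X 7 t = X 0 t * X 20 1 * (X 0 t)⁻¹ * (X 20 1)⁻¹ := by
  rw [X_inv, X_inv]
  apply reflElt_ext
  intro x
  simp only [act_mul, act_X7, act_X0, act_X20]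
  apply ext8 <;> simp <;> ring

theorem ein_comm8 (t : F) : X 8 t = X 0 t * X 21 1 * (X 0 t)⁻¹ * (X 21 1)⁻¹ := by
  rw [X_inv, X_inv]
  apply reflElt_ext
  intro x
  simp only [act_mul, act_X8, act_X0, act_X21]
  apply ext8 <;> simp <;> ring

theorem ein_comm9 (t : F) : X 9 t = X 0 (-t) * X 22 1 * (X 0 (-t))⁻¹ * (X 22 1)⁻¹ := by
  rw [X_inv, X_inv]
  apply reflElt_ext
  intro x
  simp only [act_mul, act_X9, act_X0, act_X22]
  apply ext8 <;> simp <;> ring

theorem ein_comm10 (t : F) : X 10 t = X 1 (-t) * X 20 1 * (X 1 (-t))⁻¹ * (X 20 1)⁻¹ := by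
  rw [X_inv, X_inv]
  apply reflElt_ext
  intro x
  simp only [act_mul, act_X10, act_X1, act_X20]
  apply ext8 <;> simp <;> ring

theorem ein_comm11 (t : F) : X 11 t = X 1 (-t) * X 21 1 * (X 1 (-t))⁻¹ * (X 21 1)⁻¹ := by
  rw [X_inv, X_inv]
  apply reflElt_ext
  intro x
  simp only [act_mul, act_X11, act_X1, act_X21]
  apply ext8 <;> simp <;> ring

theorem ein_comm12 (t : F) : X 12 t = X 2 (-t) * X 22 1 * (X 2 (-t))⁻¹ * (X 22 1)⁻¹ := by
  rw [X_inv, X_inv]
  apply reflElt_ext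
  intro x
  simp only [act_mul, act_X12, act_X2, act_X22]
  apply ext8 <;> simp <;> ring

theorem ein_comm13 (t : F) : X 13 t = X 3 (-t) * X 22 1 * (X 3 (-t))⁻¹ * (X 22 1)⁻¹ := by
  rw [X_inv, X_inv]
  apply reflElt_ext
  intro x
  simp only [act_mul, act_X13, act_X3, act_X22]
  apply ext8 <;> simp <;> ring

theorem ein_comm14 (t : F) : X 14 t = X 1 (-t) * X 23 1 * (X 1 (-t))⁻¹ * (X 23 1)⁻¹ := by
  rw [X_inv, X_inv]
  apply reflElt_ext
  intro x
  simp only [act_mul, act_X14, act_X1, act_X23]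
  apply ext8 <;> simp <;> ring

theorem ein_comm15 (t : F) : X 15 t = X 2 t * X 23 1 * (X 2 t)⁻¹ * (X 23 1)⁻¹ := by
  rw [X_inv, X_inv]
  apply reflElt_ext
  intro x
  simp only [act_mul, act_X15, act_X2, act_X23]
  apply ext8 <;> simp <;> ring

theorem ein_comm16 (t : F) : X 16 t = X 3 t * X 23 1 * (X 3 t)⁻¹ * (X 23 1)⁻¹ := by
  rw [X_inv, X_inv]
  apply reflElt_ext
  intro x
  simp only [act_mul, act_X16, act_X3, act_X23]
  apply ext8 <;> simp <;> ring

theorem ein_comm17 (t : F) : X 17 t = X 4 (-t) * X 23 1 * (X 4 (-t))⁻¹ * (X 23 1)⁻¹ := by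
  rw [X_inv, X_inv]
  apply reflElt_ext
  intro x
  simp only [act_mul, act_X17, act_X4, act_X23]
  apply ext8 <;> simp <;> ring

theorem ein_comm18 (t : F) : X 18 t = X 6 t * X 22 1 * (X 6 t)⁻¹ * (X 22 1)⁻¹ := by
  rw [X_inv, X_inv]
  apply reflElt_ext
  intro x
  simp only [act_mul, act_X18, act_X6, act_X22]
  apply ext8 <;> simp <;> ring

theorem ein_comm19 (t : F) : X 19 t = X 6 t * X 23 1 * (X 6 t)⁻¹ * (X 23 1)⁻¹ := by
  rw [X_inv, X_inv]
  apply reflElt_ext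
  intro x
  simp only [act_mul, act_X19, act_X6, act_X23]
  apply ext8 <;> simp <;> ring

theorem ein_comm20 (t : F) : X 20 t = X 7 (-t) * X 23 1 * (X 7 (-t))⁻¹ * (X 23 1)⁻¹ := by
  rw [X_inv, X_inv]
  apply reflElt_ext
  intro x
  simp only [act_mul, act_X20, act_X7, act_X23]
  apply ext8 <;> simp <;> ring

theorem ein_comm21 (t : F) : X 21 t = X 8 (-t) * X 23 1 * (X 8 (-t))⁻¹ * (X 23 1)⁻¹ := by
  rw [X_inv, X_inv]
  apply reflElt_ext
  intro x
  simp only [act_mul, act_X21, act_X8, act_X23]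
  apply ext8 <;> simp <;> ring

theorem ein_comm22 (t : F) : X 22 t = X 9 t * X 23 1 * (X 9 t)⁻¹ * (X 23 1)⁻¹ := by
  rw [X_inv, X_inv]
  apply reflElt_ext
  intro x
  simp only [act_mul, act_X22, act_X9, act_X23]
  apply ext8 <;> simp <;> ring

theorem ein_comm23 (t : F) : X 23 t = X 14 t * X 22 1 * (X 14 t)⁻¹ * (X 22 1)⁻¹ := by
  rw [X_inv, X_inv]
  apply reflElt_ext
  intro x
  simp only [act_mul, act_X23, act_X14, act_X22]
  apply ext8 <;> simp <;> ring

/-- DO-EIN. -/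
theorem X_mem_commutator (r : Fin 24) (t : F) : X r t ∈ commutator (OG F) := by
  fin_cases r
  · exact ein_mem _ _ _ (ein_comm0 t)
  · exact ein_mem _ _ _ (ein_comm1 t)
  · exact ein_mem _ _ _ (ein_comm2 t)
  · exact ein_mem _ _ _ (ein_comm3 t)
  · exact ein_mem _ _ _ (ein_comm4 t)
  · exact ein_mem _ _ _ (ein_comm5 t)
  · exact ein_mem _ _ _ (ein_comm6 t)
  · exact ein_mem _ _ _ (ein_comm7 t)
  · exact ein_mem _ _ _ (ein_comm8 t)
  · exact ein_mem _ _ _ (ein_comm9 t)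
  · exact ein_mem _ _ _ (ein_comm10 t)
  · exact ein_mem _ _ _ (ein_comm11 t)
  · exact ein_mem _ _ _ (ein_comm12 t)
  · exact ein_mem _ _ _ (ein_comm13 t)
  · exact ein_mem _ _ _ (ein_comm14 t)
  · exact ein_mem _ _ _ (ein_comm15 t)
  · exact ein_mem _ _ _ (ein_comm16 t)
  · exact ein_mem _ _ _ (ein_comm17 t)
  · exact ein_mem _ _ _ (ein_comm18 t)
  · exact ein_mem _ _ _ (ein_comm19 t)
  · exact ein_mem _ _ _ (ein_comm20 t)
  · exact ein_mem _ _ _ (ein_comm21 t)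
  · exact ein_mem _ _ _ (ein_comm22 t)
  · exact ein_mem _ _ _ (ein_comm23 t)

end Cfsg.Agent.Lib.Helper37.D4O8
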