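import Cfsg.Agent.Lib.Helper37.D4O8Defs

/-! # Do hive (helper37, S1082), leaf DO-NONCOMM (helper49)

`X 18 1` and `X 14 1` do not commute: `X 18 1 * X 14 1` sends `e₃` to a vector with `ca1 = 1`,
`X 14 1 * X 18 1` sends `e₃` to a vector with `ca1 = 0`. -/

set_option autoImplicit false
set_option linter.unusedSectionVars false
set_option linter.unusedVariables false

namespace Cfsg.Agent.Lib.Helper37.D4O8

open Matrix Module QuadraticMap
open Cfsg.Agent.Lib.Helper8 Cfsg.Agent.Lib.Helper13 Cfsg.Agent.Lib.Helper37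

variable {F : Type*} [Field F]

/-- DO-NONCOMM. E.g. `X 18 1` and `X 14 1`. -/
theorem EE_noncomm : ∃ a ∈ EE F, ∃ b ∈ EE F, a * b ≠ b * a := by
  refine ⟨X 18 1, X_mem_EE 18 1, X 14 1, X_mem_EE 14 1, fun h => ?_⟩
  have h1 := congrArg (fun g => ca1 (act (Q8 F) g (ve3 : I8 → F))) h
  simp only [act_mul, act_X18, act_X14, ve3, ca1_mk8, ca2_mk8, ca3_mk8, ca4_mk8, cb1_mk8, cb2_mk8,
    cb3_mk8, cb4_mk8] at h1
  simp at h1

end Cfsg.Agent.Lib.Helper37.D4O8
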