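import Cfsg.Agent.Lib.Helper37.G2zDefs
import Cfsg.Agent.Lib.Helper36.ChevTwTorus
import Cfsg.Agent.Lib.Helper36.ChevCentRoot
import Cfsg.Agent.Lib.Helper36.ChevChar

/-! # G2z hive (S4279, architect helper37): leaf G2Z-MEET `LL_inf_H_le` (helper49)

`x ∈ L1 L2 ∩ H`: `x = l₁ l₂`, `l₁ = φ₆ g₁`, `l₂ = φ₉ g₂`; conjugation by `x` on `X_{±6}` equals conjugation by `l₁`, and `x ∈ H`
normalises both, so `g₁` normalises the upper and the lower unitriangular group, hence is diagonal and `l₁ = h_6(s)`; in the same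
way `l₂ = h_9(v)`; finally `h_6(s) h_9(v) = torusHom (v², s v³) ∈ H₀`. -/

set_option autoImplicit false

namespace Cfsg.Agent.Lib.Helper37.G2z

open Cfsg Cfsg.Lie Cfsg.Agent.Lib.Helper36 Cfsg.Agent.Lib.Helper20.G2c Cfsg.Agent.Lib.Helper18

/-- elementwise commuting subgroups: the join is the set of products -/
theorem meet_mem_sup {G : Type*} [Group G] (K1 K2 : Subgroup G)
    (hcomm : ∀ x ∈ K1, ∀ y ∈ K2, x * y = y * x) (x : G) (hx : x ∈ K1 ⊔ K2) :
    ∃ a ∈ K1, ∃ b ∈ K2, x = a * b := by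
  rw [Subgroup.sup_eq_closure] at hx
  induction hx using Subgroup.closure_induction with
  | mem x hx =>
    rcases hx with h | h
    · exact ⟨x, h, 1, one_mem _, (mul_one x).symm⟩
    · exact ⟨1, one_mem _, x, h, (one_mul x).symm⟩
  | one => exact ⟨1, one_mem _, 1, one_mem _, (mul_one 1).symm⟩
  | mul x y _ _ hx hy =>
    obtain ⟨a, ha, b, hb, rfl⟩ := hx
    obtain ⟨c, hc, d, hd, rfl⟩ := hy
    refine ⟨a * c, mul_mem ha hc, b * d, mul_mem hb hd, ?_⟩
    have h := hcomm c hc b hb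
    calc a * b * (c * d) = a * (b * c) * d := by group
      _ = a * (c * b) * d := by rw [h]
      _ = a * c * (b * d) := by group
  | inv x _ hx =>
    obtain ⟨a, ha, b, hb, rfl⟩ := hx
    refine ⟨a⁻¹, inv_mem ha, b⁻¹, inv_mem hb, ?_⟩
    have h := hcomm a⁻¹ (inv_mem ha) b⁻¹ (inv_mem hb)
    rw [mul_inv_rev, h]

variable (F : Type*) [Field F]

/-- the `h` of the rank one data is `h_r` -/
theorem meet_h_eq (r : ℕ) (hr : r < chevG2.nroots) (s : F) :
    (rank1Data chevG2 hG2 F r hr).h s = hGL chevG2 hG2 F r s := by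
  rw [hGL_eq, nGL_eq, nGL_eq]
  rfl

/-- an element of `SL₂` normalising the upper unitriangular matrices has lower left entry `0` -/
theorem meet_sl2_low (g : Matrix.SpecialLinearGroup (Fin 2) F) (c : F)
    (h : g * SL2Data.sU 1 * g⁻¹ = SL2Data.sU c) : g.1 1 0 = 0 := by
  have h1 : g * SL2Data.sU 1 = SL2Data.sU c * g := by
    rw [← h]; group
  have h2 : (g.1 * (SL2Data.sU (1 : F)).1) 1 1 = ((SL2Data.sU c).1 * g.1) 1 1 :=
    congrFun (congrFun (congrArg Subtype.val h1) 1) 1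
  simp only [Matrix.mul_apply, Fin.sum_univ_two, SL2Data.sU] at h2
  simpa using h2

/-- an element of `SL₂` normalising the lower unitriangular matrices has upper right entry `0` -/
theorem meet_sl2_up (g : Matrix.SpecialLinearGroup (Fin 2) F) (c : F)
    (h : g * SL2Data.sV 1 * g⁻¹ = SL2Data.sV c) : g.1 0 1 = 0 := by
  have h1 : g * SL2Data.sV 1 = SL2Data.sV c * g := by
    rw [← h]; group
  have h2 : (g.1 * (SL2Data.sV (1 : F)).1) 0 0 = ((SL2Data.sV c).1 * g.1) 0 0 :=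
    congrFun (congrFun (congrArg Subtype.val h1) 0) 0
  simp only [Matrix.mul_apply, Fin.sum_univ_two, SL2Data.sV] at h2
  simpa using h2

/-- `l = φ_r g`, `m` centralising the image of `φ_r`, `l m ∈ H` ⟹ `l = h_r(s)` -/
theorem meet_diag (r : ℕ) (hr : r < chevG2.nroots)
    (hinj : Function.Injective (rank1Data chevG2 hG2 F r hr).hom)
    (g : Matrix.SpecialLinearGroup (Fin 2) F) (m : GL chevG2.Idx F)
    (hm : ∀ g', m * (rank1Data chevG2 hG2 F r hr).hom g' = (rank1Data chevG2 hG2 F r hr).hom g' * m)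
    (hH : (rank1Data chevG2 hG2 F r hr).hom g * m ∈ chevG2.diagonalSubgroup F) :
    ∃ s : F, s ≠ 0 ∧ (rank1Data chevG2 hG2 F r hr).hom g = hGL chevG2 hG2 F r s := by
  obtain ⟨χ, hχ, hx⟩ := exists_character_of_mem_diagonal chevG2 hG2 F _ hH
  have hnr : chevG2.neg r < chevG2.nroots := wf_neg chevG2 (wf_all chevG2 hG2) r hr
  have key : ∀ g', ((rank1Data chevG2 hG2 F r hr).hom g * m) * (rank1Data chevG2 hG2 F r hr).hom g' *
      ((rank1Data chevG2 hG2 F r hr).hom g * m)⁻¹ = (rank1Data chevG2 hG2 F r hr).hom (g * g' * g⁻¹) := by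
    intro g'
    rw [map_mul, map_mul, map_inv]
    have h := hm g'
    generalize (rank1Data chevG2 hG2 F r hr).hom g = a at *
    generalize (rank1Data chevG2 hG2 F r hr).hom g' = b at *
    calc a * m * b * (a * m)⁻¹ = a * (m * b) * m⁻¹ * a⁻¹ := by group
      _ = a * (b * m) * m⁻¹ * a⁻¹ := by rw [h]
      _ = a * b * a⁻¹ := by group
  have hU : g * SL2Data.sU 1 * g⁻¹ = SL2Data.sU ((χ r : F) * 1) := by
    apply hinj
    rw [← key, SL2Data.hom_sU, SL2Data.hom_sU]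
    exact diag_conj_xGL chevG2 hG2 F _ χ hχ hx r hr 1
  have hV : g * SL2Data.sV 1 * g⁻¹ = SL2Data.sV ((χ (chevG2.neg r) : F) * 1) := by
    apply hinj
    rw [← key, SL2Data.hom_sV, SL2Data.hom_sV]
    exact diag_conj_xGL chevG2 hG2 F _ χ hχ hx (chevG2.neg r) hnr 1
  have h10 := meet_sl2_low F g _ hU
  have h01 := meet_sl2_up F g _ hV
  have hdet := SL2Data.det_eq g
  rw [h10, h01, mul_zero, sub_zero] at hdet
  have h00 : g.1 0 0 ≠ 0 := by
    intro h0
    rw [h0, zero_mul] at hdet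
    exact zero_ne_one hdet
  refine ⟨g.1 0 0, h00, ?_⟩
  have e : (rank1Data chevG2 hG2 F r hr).hom g = (rank1Data chevG2 hG2 F r hr).phi g := rfl
  rw [e, SL2Data.phi_of_eq_zero _ g h10, h01, mul_zero, SL2Data.x_zero, one_mul, meet_h_eq]

/-- G2Z-MEET -/
theorem LL_inf_H_le (hi6 : Function.Injective (phi6 F)) (hi9 : Function.Injective (phi9 F))
    (hr6 : (phi6 F).range = L1 F) (hr9 : (phi9 F).range = L2 F)
    (hcomm : ∀ x ∈ L1 F, ∀ y ∈ L2 F, x * y = y * x)
    (x : GL chevG2.Idx F) (hx : x ∈ LL F) (hxH : x ∈ chevG2.diagonalSubgroup F) : x ∈ H0 F := by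
  obtain ⟨l1, hl1, l2, hl2, rfl⟩ := meet_mem_sup (L1 F) (L2 F) hcomm x hx
  have hl1' := hl1
  have hl2' := hl2
  rw [← hr6] at hl1'
  rw [← hr9] at hl2'
  obtain ⟨g1, rfl⟩ := hl1'
  obtain ⟨g2, rfl⟩ := hl2'
  have m6 : ∀ g', phi6 F g' ∈ L1 F := fun g' => by rw [← hr6]; exact ⟨g', rfl⟩
  have m9 : ∀ g', phi9 F g' ∈ L2 F := fun g' => by rw [← hr9]; exact ⟨g', rfl⟩
  obtain ⟨s, hs, e6⟩ := meet_diag F 6 (by decide) hi6 g1 (phi9 F g2)
    (fun g' => (hcomm _ (m6 g') _ hl2).symm) hxH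
  obtain ⟨v, hv, e9⟩ := meet_diag F 9 (by decide) hi9 g2 (phi6 F g1)
    (fun g' => hcomm _ hl1 _ (m9 g')) (by
      have := hcomm _ hl1 _ hl2
      change phi9 F g2 * phi6 F g1 ∈ _
      rw [← this]; exact hxH)
  change phi6 F g1 = _ at e6
  change phi9 F g2 = _ at e9
  rw [e6, e9]
  have e6' := hGL_eq_torusHom chevG2 hG2 F 6 (by decide) (Units.mk0 s hs)
  have e9' := hGL_eq_torusHom chevG2 hG2 F 9 (by decide) (Units.mk0 v hv)
  rw [Units.val_mk0] at e6' e9'
  rw [e6', e9', ← map_mul]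
  unfold H0
  refine Subgroup.mem_map.2 ⟨_, ?_, rfl⟩
  rw [Subgroup.mem_comap]
  refine ⟨Units.mk0 v hv, ?_⟩
  have c6 : cor chevG2 6 0 = 0 := by decide
  have c9 : cor chevG2 9 0 = 2 := by decide
  simp only [powMonoidHom_apply, Pi.evalMonoidHom_apply, Pi.mul_apply, c6, c9, zpow_zero, one_mul]
  rfl

end Cfsg.Agent.Lib.Helper37.G2z
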