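import Cfsg.Agent.Lib.Helper49.Sm_NT1core
import Cfsg.Agent.Lib.Helper53.Sm_TADD
import Cfsg.Agent.Lib.Helper53.Sm_TCONJH

/-! Sm hive (S2086, helper39): leaves N-T1 `fcm_eq_one_first` and N-T2 `fcm_eq_one_second` (helper49), exact skeleton
statements, from the cores in `Sm_NT1core` and helper53's T-ADD / T-CONJH. -/

set_option autoImplicit false

namespace Cfsg.Agent.Lib.Helper39.Sm

open Cfsg.Agent.Lib.Helper41.Stn
open scoped commutatorElement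

variable {K : Type*} [Field K] {n : ℕ} {Y : Type*} [Group Y] (φ : Y →* St K n)
  (hφ : Function.Surjective φ)

/-- N-T1. shared FIRST index: `fcm_hh` with `(p,q) = (j,h)` gives `f(c⁻¹ t, c u) = f(t,u)`, with `(p,q) = (i,j)`
gives `f(c² t, c u) = f(t,u)`; together `f(c³ t, u) = f(t,u)`, so `f((c³-1) t, u) = 1`. -/
theorem fcm_eq_one_first (hn : 3 ≤ n) (hc : φ.ker ≤ Subgroup.center Y) {i j h : Fin n}
    (hij : i ≠ j) (hhi : h ≠ i) (hhj : h ≠ j) {c : K} (hc0 : c ≠ 0) (hc1 : c ^ 3 ≠ 1) (t u : K) :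
    cm φ hφ (xx i j t) (xx i h u) = 1 :=
  nt1_core φ hφ (fun hil hjk t t' u => fcm_add_left φ hφ hc hil hjk t t' u)
    (fun hij hkl hil hjk _ _ hpq _ hc0 t u => fcm_hh φ hφ hn hc hij hkl hil hjk hpq hc0 t u)
    hij hhi hhj hc0 hc1 t u

/-- N-T2. shared SECOND index: `(p,q) = (i,h)`: `f(c t, c⁻¹ u) = f(t,u)`; `(p,q) = (i,j)`: `f(c² t, c u) = f(t,u)`. -/
theorem fcm_eq_one_second (hn : 3 ≤ n) (hc : φ.ker ≤ Subgroup.center Y) {i j h : Fin n}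
    (hij : i ≠ j) (hhi : h ≠ i) (hhj : h ≠ j) {c : K} (hc0 : c ≠ 0) (hc1 : c ^ 3 ≠ 1) (t u : K) :
    cm φ hφ (xx i j t) (xx h j u) = 1 :=
  nt2_core φ hφ (fun hil hjk t t' u => fcm_add_left φ hφ hc hil hjk t t' u)
    (fun hij hkl hil hjk _ _ hpq _ hc0 t u => fcm_hh φ hφ hn hc hij hkl hil hjk hpq hc0 t u)
    hij hhi hhj hc0 hc1 t u

end Cfsg.Agent.Lib.Helper39.Sm
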