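import Mathlib
import Cfsg.Prelude.Def_ClassicalGeometry
import Cfsg.Prelude.Def_GeometricClasses
import Cfsg.Agent.Lib.Helper81.OnDefs
import Cfsg.Agent.Lib.Helper94.Un10

/-! # ON-P (S5989 hive "On", helper81): a bad unipotent element (`r = p` odd)

`exists_bad_unipotent`: for `d ≥ 4` and odd `m` there is an element of `Ω⁺_{2d}(q)` of order `p`
that leaves invariant no nondegenerate subspace of dimension `m`.  Jordan types used:
`2^d` (`d` even), `1^2 2^(d-1)` (`d` odd, `m % 4 = 3`), `3^2 2^(d-3)` (`d` odd, `m % 4 = 1`). -/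

set_option autoImplicit false

namespace Cfsg.Agent.Lib.Helper81.On

open Module

/-- the sum of a multiset with only the values `a` and `2` -/
theorem p_sum_two_vals (a : ℕ) (ha : a ≠ 2) (ν : Multiset ℕ) (h : ∀ x ∈ ν, x = a ∨ x = 2) :
    ν.sum = ν.count a * a + ν.count 2 * 2 := by
  induction ν using Multiset.induction_on with
  | empty => simp
  | cons x ν ih =>
    have ih' := ih (fun y hy => h y (Multiset.mem_cons_of_mem hy))
    rcases h x (Multiset.mem_cons_self x ν) with rfl | rfl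
    · rw [Multiset.sum_cons, Multiset.count_cons_self, Multiset.count_cons_of_ne (Ne.symm ha), ih']
      ring
    · rw [Multiset.sum_cons, Multiset.count_cons_self, Multiset.count_cons_of_ne ha, ih']
      ring

section

variable {F : Type*} [Field F]

local notation "Mat" d => Matrix (Fin d ⊕ Fin d) (Fin d ⊕ Fin d) F

/-- the unipotent element of Jordan type `a^j 2^k` (`a` odd, `k` even) and its invariant
nondegenerate subspaces -/
theorem p_core [Fintype F] (h2 : (2 : F) ≠ 0) {p : ℕ} [Fact p.Prime] [CharP F p]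
    (d a j k : ℕ) (ha : Odd a) (hap : a ≤ p) (hk : Even k) (hk0 : 0 < k)
    (hsum : j * a + k * 2 = 2 * d) :
    ∃ x : GL (Fin d ⊕ Fin d) F, x ∈ Cfsg.Geo.omegaGL (Cfsg.quadFormPlus d F) ∧
      ((x ^ p : GL (Fin d ⊕ Fin d) F) : Mat d) = 1 ∧
      (∀ z : F, (x : Mat d) ≠ z • (1 : Mat d)) ∧
      ∀ W : Submodule F (VP d F),
        Cfsg.Geo.IsNondegenerateOn (QuadraticMap.polar (Cfsg.quadFormPlus d F)) W →
        W.map (Matrix.toLin' (x : Mat d)) ≤ W →
        ∃ c₁ c₂ : ℕ, c₁ ≤ j ∧ Even c₂ ∧ finrank F W = c₁ * a + c₂ * 2 := by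
  classical
  have ha2 : a ≠ 2 := by
    rintro rfl
    exact absurd ha (by decide)
  have hp2 : 2 ≤ p := (Fact.out : p.Prime).two_le
  set μ : Multiset ℕ := Multiset.replicate j a + Multiset.replicate k 2 with hμ
  have hμsum : μ.sum = 2 * d := by
    rw [hμ, Multiset.sum_add, Multiset.sum_replicate, Multiset.sum_replicate, smul_eq_mul,
      smul_eq_mul, hsum]
  have hca : μ.count a = j := by
    rw [hμ, Multiset.count_add, Multiset.count_replicate_self, Multiset.count_replicate,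
      if_neg (Ne.symm ha2), add_zero]
  have hmem : ∀ x ∈ μ, x = a ∨ x = 2 := by
    intro x hx
    rw [hμ, Multiset.mem_add] at hx
    rcases hx with hx | hx
    · exact Or.inl (Multiset.eq_of_mem_replicate hx)
    · exact Or.inr (Multiset.eq_of_mem_replicate hx)
  have hev : ∀ e, Even e → Even (μ.count e) := by
    intro e he
    have hea : a ≠ e := by
      rintro rfl
      exact (Nat.not_even_iff_odd.mpr ha) he
    rw [hμ, Multiset.count_add, Multiset.count_replicate, if_neg hea, zero_add,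
      Multiset.count_replicate]
    split_ifs
    · exact hk
    · exact ⟨0, rfl⟩
  obtain ⟨x, hxΩ, hprof⟩ :=
    Cfsg.Agent.Lib.Helper94.Un.exists_unipotent_plus (F := F) h2 d μ hev hμsum
  have hQ := Cfsg.Agent.Lib.Helper94.Un.nondeg_quadFormPlus (F := F) d
  have hxiso : x ∈ Cfsg.isometryGroup F (Cfsg.quadFormPlus d F) :=
    Cfsg.Agent.Lib.Helper94.omega_le_isom hxΩ
  have hcard : μ.sum = Fintype.card (Fin d ⊕ Fin d) := by
    rw [hμsum, Fintype.card_sum, Fintype.card_fin]; ring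
  have h2mem : 2 ∈ μ := by
    rw [hμ, Multiset.mem_add]
    exact Or.inr (Multiset.mem_replicate.mpr ⟨hk0.ne', rfl⟩)
  obtain ⟨hxp, hxns, hW⟩ := Cfsg.Agent.Lib.Helper94.Un.unipotent_facts hQ h2 x hxiso μ hprof hcard
    (fun b hb => by
      rcases hmem b hb with rfl | rfl
      · exact hap
      · exact hp2) 2 h2mem (by norm_num)
  refine ⟨x, hxΩ, hxp, hxns, fun W hWnd hxW => ?_⟩
  obtain ⟨ν, hν1, hν2, hν3⟩ := hW W hWnd hxW
  refine ⟨ν.count a, ν.count 2, ?_, hν3 2 (by decide), ?_⟩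
  · rw [← hca]
    exact Multiset.count_le_of_le a hν1
  · rw [← hν2]
    exact p_sum_two_vals a ha2 ν (fun y hy => hmem y (Multiset.mem_of_le hν1 hy))

/-- ON-P: a bad unipotent element (`r = p` odd). -/
theorem exists_bad_unipotent [Fintype F] (h2 : (2 : F) ≠ 0) {p : ℕ} [Fact p.Prime] [CharP F p]
    (d m : ℕ) (hd : 4 ≤ d) (hm : Odd m) :
    ∃ x : GL (Fin d ⊕ Fin d) F, x ∈ Cfsg.Geo.omegaGL (Cfsg.quadFormPlus d F) ∧
      ((x ^ p : GL (Fin d ⊕ Fin d) F) : Mat d) = 1 ∧
      (∀ z : F, (x : Mat d) ≠ z • (1 : Mat d)) ∧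
      ∀ W : Submodule F (VP d F),
        Cfsg.Geo.IsNondegenerateOn (QuadraticMap.polar (Cfsg.quadFormPlus d F)) W →
        W.map (Matrix.toLin' (x : Mat d)) ≤ W → finrank F W ≠ m := by
  have hp : p.Prime := Fact.out
  have hp3 : 3 ≤ p := by
    have hp2 : p ≠ 2 := by
      rintro rfl
      apply h2
      have := CharP.cast_eq_zero F 2
      exact_mod_cast this
    have := hp.two_le
    omega
  obtain ⟨m', hm'⟩ := hm
  rcases Nat.even_or_odd d with hde | hdo
  · -- Jordan type `2^d`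
    obtain ⟨x, hxΩ, hxp, hxns, hW⟩ := p_core (F := F) h2 (p := p) d 1 0 d (by decide) (by omega) hde
      (by omega) (by omega)
    refine ⟨x, hxΩ, hxp, hxns, fun W hWnd hxW => ?_⟩
    obtain ⟨c₁, c₂, hc₁, -, hfin⟩ := hW W hWnd hxW
    omega
  · obtain ⟨d', hd'⟩ := hdo
    rcases Nat.even_or_odd m' with hme | hmo
    · -- `m % 4 = 1`: Jordan type `3^2 2^(d-3)`
      obtain ⟨m'', hm''⟩ := hme
      obtain ⟨x, hxΩ, hxp, hxns, hW⟩ := p_core (F := F) h2 (p := p) d 3 2 (d - 3) (by decide) hp3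
        (by rw [Nat.even_iff]; omega) (by omega) (by omega)
      refine ⟨x, hxΩ, hxp, hxns, fun W hWnd hxW => ?_⟩
      obtain ⟨c₁, c₂, hc₁, ⟨c₃, hc₃⟩, hfin⟩ := hW W hWnd hxW
      omega
    · -- `m % 4 = 3`: Jordan type `1^2 2^(d-1)`
      obtain ⟨m'', hm''⟩ := hmo
      obtain ⟨x, hxΩ, hxp, hxns, hW⟩ := p_core (F := F) h2 (p := p) d 1 2 (d - 1) (by decide)
        (by omega) (by rw [Nat.even_iff]; omega) (by omega) (by omega)
      refine ⟨x, hxΩ, hxp, hxns, fun W hWnd hxW => ?_⟩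
      obtain ⟨c₁, c₂, hc₁, ⟨c₃, hc₃⟩, hfin⟩ := hW W hWnd hxW
      omega

end

end Cfsg.Agent.Lib.Helper81.On
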