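import Mathlib
import Cfsg.Agent.Lib.Helper72.FewSylow
import Cfsg.Agent.Lib.Helper72.SylowCount
import Cfsg.Agent.Lib.Helper72.SylowProd
import Cfsg.Agent.Lib.Helper17.ElementCount
import Cfsg.Agent.Lib.Helper17.ActionCounts
import Cfsg.Agent.Lib.Helper17.SylowTools

set_option autoImplicit false
set_option linter.style.haveILetI false

/-!
# Groups with exactly `2 p + 1` Sylow `p`-subgroups

Reduction of a finite group with `n_p = 2 p + 1` (`p` odd) to a group of odd order
`(2 p + 1) * p * m`, `m ∣ p - 1`, with self-centralizing Sylow `p`-subgroups of order `p`.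
-/

universe u

namespace Cfsg.Agent.Lib.Helper49.TwoPPlusOne

open MulAction Subgroup

section basic

variable {G : Type u} [Group G] {p : ℕ}

/-- The kernel of the conjugation action on the Sylow `p`-subgroups. -/
def sylKer (p : ℕ) (G : Type u) [Group G] : Subgroup G :=
  (MulAction.toPermHom G (Sylow p G)).ker

instance sylKer_normal : (sylKer p G).Normal := MonoidHom.normal_ker _

theorem mem_sylKer {x : G} : x ∈ sylKer p G ↔ ∀ P : Sylow p G, x • P = P := by
  unfold sylKer
  rw [MonoidHom.mem_ker]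
  constructor
  · intro h P
    have := congrArg (fun σ : Equiv.Perm (Sylow p G) => σ P) h
    simpa using this
  · intro h
    ext P
    simp [h P]

theorem sylKer_le_normalizer (P : Sylow p G) :
    sylKer p G ≤ normalizer ((P : Subgroup G) : Set G) := by
  intro x hx
  exact Sylow.smul_eq_iff_mem_normalizer.mp (mem_sylKer.mp hx P)

/-- `G` acts faithfully on its Sylow `p`-subgroups and has no proper normal subgroup of index
prime to `p`. -/
structure Reduced (p : ℕ) (G : Type u) [Group G] : Prop where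
  ker_eq_bot : sylKer p G = ⊥
  no_normal : ∀ H : Subgroup G, H.Normal → ¬ p ∣ H.index → H = ⊤

end basic

/-- Every finite group has a "reduced" section with the same number of Sylow `p`-subgroups. -/
theorem exists_reduced (p : ℕ) [Fact p.Prime] (N : ℕ) :
    ∀ n : ℕ, ∀ (G : Type u) [Group G] [Finite G], Nat.card G = n →
      Nat.card (Sylow p G) = N →
      ∃ (H : Type u) (_ : Group H) (_ : Finite H), Nat.card (Sylow p H) = N ∧ Reduced p H := by
  intro n
  induction n using Nat.strong_induction_on with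
  | _ n ih =>
    intro G _ _ hn hN
    by_cases h1 : sylKer p G = ⊥
    · by_cases h2 : ∀ H : Subgroup G, H.Normal → ¬ p ∣ H.index → H = ⊤
      · exact ⟨G, inferInstance, inferInstance, hN, ⟨h1, h2⟩⟩
      · push Not at h2
        obtain ⟨H, hHn, hHp, hHtop⟩ := h2
        have := hHn
        have hlt : Nat.card ↥H < n := by
          rw [← hn]
          refine lt_of_le_of_ne (Subgroup.card_le_card_group H) ?_
          intro h
          exact hHtop (Subgroup.eq_top_of_card_eq H h)
        exact ih _ hlt ↥H rfl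
          ((Cfsg.Agent.Lib.Helper72.card_sylow_of_normal_of_not_dvd_index H hHp).trans hN)
    · have hK : 1 < Nat.card ↥(sylKer p G) := (Subgroup.one_lt_card_iff_ne_bot _).mpr h1
      have hmul := Subgroup.card_eq_card_quotient_mul_card_subgroup (sylKer p G)
      have hpos : 0 < Nat.card (G ⧸ sylKer p G) := Nat.card_pos
      have hlt : Nat.card (G ⧸ sylKer p G) < n := by
        rw [← hn, hmul]
        nlinarith
      obtain ⟨P⟩ : Nonempty (Sylow p G) := inferInstance
      have hrel : (normalizer (P : Set G)).relIndex (sylKer p G) = 1 :=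
        Subgroup.relIndex_eq_one.mpr (sylKer_le_normalizer P)
      have hq := Cfsg.Agent.Lib.Helper72.card_sylow_eq_card_sylow_quotient_mul_relIndex
        (sylKer p G) P
      rw [hrel, mul_one] at hq
      exact ih _ hlt (G ⧸ sylKer p G) rfl (hq.symm.trans hN)


/-- The standing hypotheses: `p` odd, `n_p = 2 p + 1`, `G` reduced. -/
structure Hyp (p : ℕ) (G : Type u) [Group G] : Prop where
  odd : p ≠ 2
  card : Nat.card (Sylow p G) = 2 * p + 1
  red : Reduced p G

section structure_thm

variable {G : Type u} [Group G] {p : ℕ} [hpf : Fact p.Prime]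

theorem Hyp.three_le (h : Hyp p G) : 3 ≤ p := by
  have h2 := hpf.out.two_le
  have := h.odd
  omega

theorem Hyp.lt_sq (h : Hyp p G) : Nat.card (Sylow p G) < p ^ 2 := by
  rw [h.card]
  have := h.three_le
  nlinarith

variable [Finite G]

theorem Hyp.normalCore_eq_bot (h : Hyp p G) (P : Sylow p G) :
    (P : Subgroup G).normalCore = ⊥ := by
  rw [eq_bot_iff, ← h.red.ker_eq_bot]
  intro x hx
  rw [mem_sylKer]
  intro Q
  obtain ⟨g, rfl⟩ := MulAction.exists_smul_eq G P Q
  rw [Sylow.smul_eq_iff_mem_normalizer]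
  apply le_normalizer
  have hx' : g⁻¹ * x * g⁻¹⁻¹ ∈ (P : Subgroup G) :=
    Subgroup.normalCore_le _ (((P : Subgroup G).normalCore_normal).conj_mem x hx g⁻¹)
  rw [Sylow.smul_def, Sylow.pointwise_smul_def, Subgroup.mem_pointwise_smul_iff_inv_smul_mem,
    MulAut.smul_def, ← map_inv, MulAut.conj_apply]
  exact hx'

theorem Hyp.card_sylow (h : Hyp p G) (P : Sylow p G) : Nat.card (P : Subgroup G) = p := by
  have h1 := Cfsg.Agent.Lib.Helper72.card_sylow_dvd_mul_card_normalCore h.lt_sq P
  rw [h.normalCore_eq_bot P, Subgroup.card_bot, mul_one] at h1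
  rcases (Nat.dvd_prime hpf.out).mp h1 with h1 | h1
  · exfalso
    have hall : ∀ Q : Sylow p G, (Q : Subgroup G) = ⊥ := by
      intro Q
      apply Subgroup.eq_bot_of_card_eq
      rw [Q.card_eq_multiplicity, ← P.card_eq_multiplicity, h1]
    have hsub : Subsingleton (Sylow p G) :=
      ⟨fun A B => Sylow.ext ((hall A).trans (hall B).symm)⟩
    have := Finite.card_le_one_iff_subsingleton.mpr hsub
    rw [h.card] at this
    have := hpf.out.two_le
    omega
  · exact h1

theorem Hyp.inf_eq_bot (h : Hyp p G) {P Q : Sylow p G} (hPQ : P ≠ Q) :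
    (P : Subgroup G) ⊓ (Q : Subgroup G) = ⊥ := by
  obtain ⟨-, h2⟩ := Cfsg.Agent.Lib.Helper72.orbit_and_inf_of_card_lt_sq h.lt_sq hPQ
  rw [h.card_sylow P] at h2
  apply Subgroup.eq_bot_of_card_eq
  have := hpf.out.pos
  nlinarith

theorem Hyp.ncard_orbit (h : Hyp p G) {P Q : Sylow p G} (hPQ : P ≠ Q) :
    (MulAction.orbit (↥(P : Subgroup G)) Q).ncard = p :=
  (Cfsg.Agent.Lib.Helper72.orbit_and_inf_of_card_lt_sq h.lt_sq hPQ).1

theorem Hyp.exists_ne (h : Hyp p G) (P : Sylow p G) : ∃ Q : Sylow p G, P ≠ Q := by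
  by_contra hcon
  push Not at hcon
  have hsub : Subsingleton (Sylow p G) := ⟨fun A B => (hcon A).symm.trans (hcon B)⟩
  have := Finite.card_le_one_iff_subsingleton.mpr hsub
  rw [h.card] at this
  have := hpf.out.two_le
  omega


/-- A `p'`-element centralizing `P` and normalizing some other Sylow subgroup normalizes all
Sylow subgroups. -/
theorem Hyp.smul_eq_of_fix (h : Hyp p G) {P Q : Sylow p G} (hPQ : P ≠ Q) {c : G}
    (hc : c ∈ centralizer ((P : Subgroup G) : Set G)) (hcQ : c • Q = Q)
    (hcop : (orderOf c).Coprime p) (R : Sylow p G) : c • R = R := by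
  have hcP : c • P = P :=
    Sylow.smul_eq_iff_mem_normalizer.mpr (Subgroup.centralizer_le_normalizer _ hc)
  have hcomm : ∀ x ∈ (P : Subgroup G), ∀ X : Sylow p G, c • x • X = x • c • X := by
    intro x hx X
    rw [smul_smul, smul_smul, Subgroup.mem_centralizer_iff.mp hc x hx]
  have hPfix : ∀ x ∈ (P : Subgroup G), x • P = P := fun x hx =>
    Sylow.smul_eq_iff_mem_normalizer.mpr (le_normalizer hx)
  by_cases hRP : R = P
  · rw [hRP]; exact hcP
  by_cases hRQ : R ∈ MulAction.orbit (↥(P : Subgroup G)) Q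
  · obtain ⟨x, hx⟩ := hRQ
    have hx' : (x : G) • Q = R := hx
    rw [← hx', hcomm x x.2 Q, hcQ]
  -- main case
  have hPnot : P ∉ MulAction.orbit (↥(P : Subgroup G)) Q := by
    rintro ⟨x, hx⟩
    apply hPQ
    have h1 : (x : G) • Q = P := hx
    have h2 : (x : G) • P = P := hPfix x x.2
    exact (smul_left_cancel (x : G) (h1.trans h2.symm)).symm
  have hA : (insert P (MulAction.orbit (↥(P : Subgroup G)) Q)).ncard = p + 1 := by
    rw [Set.ncard_insert_of_notMem hPnot (Set.toFinite _), h.ncard_orbit hPQ]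
  have hAc : (insert P (MulAction.orbit (↥(P : Subgroup G)) Q))ᶜ.ncard = p := by
    rw [Set.ncard_compl _ (Set.toFinite _) (Set.toFinite _), hA, h.card]
    omega
  have hsub : MulAction.orbit (↥(P : Subgroup G)) R ⊆
      (insert P (MulAction.orbit (↥(P : Subgroup G)) Q))ᶜ := by
    rintro _ ⟨y, rfl⟩ hmem
    rcases hmem with hmem | hmem
    · apply hRP
      have h1 : (y : G) • R = P := hmem
      have h2 : (y : G) • P = P := hPfix y y.2
      exact smul_left_cancel (y : G) (h1.trans h2.symm)
    · apply hRQ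
      have h1 := MulAction.orbit_eq_iff.mpr hmem
      rw [MulAction.orbit_smul] at h1
      rw [← h1]
      exact MulAction.mem_orbit_self R
  have heq : MulAction.orbit (↥(P : Subgroup G)) R =
      (insert P (MulAction.orbit (↥(P : Subgroup G)) Q))ᶜ := by
    apply Set.eq_of_subset_of_ncard_le hsub _ (Set.toFinite _)
    rw [hAc, h.ncard_orbit (Ne.symm hRP)]
  have hcR : c • R ∈ MulAction.orbit (↥(P : Subgroup G)) R := by
    rw [heq]
    intro hmem
    rcases hmem with hmem | hmem
    · apply hRP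
      exact smul_left_cancel c (hmem.trans hcP.symm)
    · apply hRQ
      obtain ⟨x, hx⟩ := hmem
      have h1 : (x : G) • Q = c • R := hx
      have h2 : c • (x : G) • Q = (x : G) • Q := by rw [hcomm x x.2 Q, hcQ]
      have h3 : R = (x : G) • Q := smul_left_cancel c (h1.symm.trans h2.symm)
      rw [h3]
      exact ⟨x, rfl⟩
  obtain ⟨y, hy⟩ := hcR
  have hy' : (y : G) • R = c • R := hy
  have hpow : ∀ k : ℕ, c ^ k • R = (y : G) ^ k • R := by
    intro k
    induction k with
    | zero => simp
    | succ k ih =>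
      rw [pow_succ' c, mul_smul, ih, hcomm _ (pow_mem y.2 k) R, ← hy', ← mul_smul, ← pow_succ]
  have h1 := hpow (orderOf c)
  rw [pow_orderOf_eq_one, one_smul] at h1
  have h2 : (y : G) ^ orderOf c ∈ (P : Subgroup G) ⊓ (R : Subgroup G) := by
    rw [← IsPGroup.inf_normalizer_sylow P.2 R]
    exact ⟨pow_mem y.2 _, Sylow.smul_eq_iff_mem_normalizer.mp h1.symm⟩
  rw [h.inf_eq_bot (Ne.symm hRP), Subgroup.mem_bot] at h2
  have h3 : (y : G) ^ p = 1 := by
    have : y ^ Nat.card ↥(P : Subgroup G) = 1 := pow_card_eq_one'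
    rw [h.card_sylow P] at this
    exact_mod_cast congrArg Subtype.val this
  have h4 : orderOf (y : G) ∣ 1 := by
    rw [← Nat.Coprime.gcd_eq_one hcop]
    exact Nat.dvd_gcd (orderOf_dvd_of_pow_eq_one h2) (orderOf_dvd_of_pow_eq_one h3)
  have h5 : (y : G) = 1 := orderOf_eq_one_iff.mp (Nat.dvd_one.mp h4)
  rw [← hy', h5, one_smul]


omit hpf [Finite G] in
/-- A `p`-element normalizing a Sylow `p`-subgroup lies in it. -/
theorem mem_sylow_of_orderOf_eq {Q : Sylow p G} {d : G} (hd : orderOf d = p)
    (hdQ : d ∈ normalizer ((Q : Subgroup G) : Set G)) : d ∈ (Q : Subgroup G) := by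
  have hz : IsPGroup p ↥(Subgroup.zpowers d) := by
    apply IsPGroup.of_card (n := 1)
    rw [Nat.card_zpowers, hd, pow_one]
  have h1 := IsPGroup.inf_normalizer_sylow hz Q
  have h2 : Subgroup.zpowers d ≤ normalizer ((Q : Subgroup G) : Set G) :=
    (Subgroup.zpowers_le).mpr hdQ
  have h3 : d ∈ Subgroup.zpowers d ⊓ normalizer (Q : Set G) :=
    ⟨Subgroup.mem_zpowers d, hdQ⟩
  rw [h1] at h3
  exact h3.2

theorem Hyp.centralizer_inf_normalizer (h : Hyp p G) {P Q : Sylow p G} (hPQ : P ≠ Q) :
    centralizer ((P : Subgroup G) : Set G) ⊓ normalizer ((Q : Subgroup G) : Set G) = ⊥ := by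
  by_contra hne
  have hcard : 1 < Nat.card ↥(centralizer ((P : Subgroup G) : Set G) ⊓
      normalizer ((Q : Subgroup G) : Set G)) := (Subgroup.one_lt_card_iff_ne_bot _).mpr hne
  obtain ⟨r, hr, hrdvd⟩ := Nat.exists_prime_and_dvd hcard.ne'
  have : Fact r.Prime := ⟨hr⟩
  obtain ⟨d, hd⟩ := exists_prime_orderOf_dvd_card' r hrdvd
  have hdo : orderOf (d : G) = r := by rw [Subgroup.orderOf_coe]; exact hd
  have hdC : (d : G) ∈ centralizer ((P : Subgroup G) : Set G) := d.2.1
  have hdN : (d : G) ∈ normalizer ((Q : Subgroup G) : Set G) := d.2.2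
  have hd1 : (d : G) ≠ 1 := by
    intro h1
    rw [h1, orderOf_one] at hdo
    exact hr.one_lt.ne hdo
  by_cases hrp : r = p
  · apply hd1
    have h1 : (d : G) ∈ (Q : Subgroup G) := mem_sylow_of_orderOf_eq (hdo.trans hrp) hdN
    have h2 : (d : G) ∈ (P : Subgroup G) :=
      mem_sylow_of_orderOf_eq (hdo.trans hrp) (Subgroup.centralizer_le_normalizer _ hdC)
    have h3 : (d : G) ∈ (P : Subgroup G) ⊓ (Q : Subgroup G) := ⟨h2, h1⟩
    rwa [h.inf_eq_bot hPQ, Subgroup.mem_bot] at h3
  · apply hd1
    have hcop : (orderOf (d : G)).Coprime p := by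
      rw [hdo]
      exact (Nat.coprime_primes hr hpf.out).mpr hrp
    have hfix := h.smul_eq_of_fix hPQ hdC (Sylow.smul_eq_iff_mem_normalizer.mpr hdN) hcop
    have : (d : G) ∈ sylKer p G := mem_sylKer.mpr hfix
    rwa [h.red.ker_eq_bot, Subgroup.mem_bot] at this

theorem Hyp.le_centralizer (h : Hyp p G) (P : Sylow p G) :
    (P : Subgroup G) ≤ centralizer ((P : Subgroup G) : Set G) := by
  have hc : IsCyclic ↥(P : Subgroup G) := isCyclic_of_prime_card (h.card_sylow P)
  intro x hx
  rw [Subgroup.mem_centralizer_iff]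
  intro y hy
  have := hc.isMulCommutative
  exact setLike_mul_comm hy hx

theorem Hyp.card_centralizer_cases (h : Hyp p G) (P : Sylow p G) :
    Nat.card ↥(centralizer ((P : Subgroup G) : Set G)) = p ∨
      Nat.card ↥(centralizer ((P : Subgroup G) : Set G)) = 2 * p := by
  obtain ⟨Q, hPQ⟩ := h.exists_ne P
  -- injection `C → Ω`, avoiding `P`
  have hinj : Function.Injective
      (fun c : ↥(centralizer ((P : Subgroup G) : Set G)) => (c : G) • Q) := by
    intro c c' hcc
    have h1 : ((c' : G)⁻¹ * (c : G)) • Q = Q := by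
      rw [mul_smul]
      have : (c : G) • Q = (c' : G) • Q := hcc
      rw [this, inv_smul_smul]
    have h2 : (c' : G)⁻¹ * (c : G) ∈ centralizer ((P : Subgroup G) : Set G) ⊓
        normalizer ((Q : Subgroup G) : Set G) :=
      ⟨Subgroup.mul_mem _ (Subgroup.inv_mem _ c'.2) c.2, Sylow.smul_eq_iff_mem_normalizer.mp h1⟩
    rw [h.centralizer_inf_normalizer hPQ, Subgroup.mem_bot] at h2
    have : (c : G) = (c' : G) := by
      have := congrArg (fun z => (c' : G) * z) h2
      simpa using this
    exact Subtype.ext this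
  have hrange : Set.range
      (fun c : ↥(centralizer ((P : Subgroup G) : Set G)) => (c : G) • Q) ⊆
        ({P} : Set (Sylow p G))ᶜ := by
    rintro _ ⟨c, rfl⟩ hmem
    apply hPQ
    have h1 : (c : G) • Q = P := hmem
    have h2 : (c : G) • P = P :=
      Sylow.smul_eq_iff_mem_normalizer.mpr (Subgroup.centralizer_le_normalizer _ c.2)
    exact (smul_left_cancel (c : G) (h1.trans h2.symm)).symm
  have hle : Nat.card ↥(centralizer ((P : Subgroup G) : Set G)) ≤ 2 * p := by
    rw [← Set.ncard_range_of_injective hinj]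
    refine (Set.ncard_le_ncard hrange (Set.toFinite _)).trans ?_
    rw [Set.ncard_compl _ (Set.toFinite _) (Set.toFinite _), Set.ncard_singleton, h.card]
    omega
  have hdvd : p ∣ Nat.card ↥(centralizer ((P : Subgroup G) : Set G)) := by
    have := Subgroup.card_dvd_of_le (h.le_centralizer P)
    rwa [h.card_sylow P] at this
  obtain ⟨j, hj⟩ := hdvd
  have hpos : 0 < Nat.card ↥(centralizer ((P : Subgroup G) : Set G)) := Nat.card_pos
  have hp := hpf.out.pos
  have hj1 : 1 ≤ j := by
    rcases Nat.eq_zero_or_pos j with h0 | h0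
    · rw [h0, mul_zero] at hj; omega
    · exact h0
  have hj2 : j ≤ 2 := by
    by_contra hcon
    push Not at hcon
    have : p * 3 ≤ p * j := Nat.mul_le_mul_left p hcon
    omega
  interval_cases j
  · left; rw [hj, mul_one]
  · right; rw [hj, mul_comm]


theorem Hyp.card_centralizer (h : Hyp p G) (P : Sylow p G) :
    Nat.card ↥(centralizer ((P : Subgroup G) : Set G)) = p := by
  rcases h.card_centralizer_cases P with h1 | h1
  · exact h1
  exfalso
  classical
  haveI : Fintype (Sylow p G) := Fintype.ofFinite _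
  have h2 : 2 ∣ Nat.card ↥(centralizer ((P : Subgroup G) : Set G)) := ⟨p, h1⟩
  haveI : Fact (Nat.Prime 2) := ⟨Nat.prime_two⟩
  obtain ⟨t, ht⟩ := exists_prime_orderOf_dvd_card' 2 h2
  have hto : orderOf (t : G) = 2 := by rw [Subgroup.orderOf_coe]; exact ht
  have ht1 : (t : G) ≠ 1 := by
    intro h1'
    rw [h1', orderOf_one] at hto
    omega
  have htfix : ∀ R : Sylow p G, (t : G) • R = R ↔ R = P := by
    intro R
    constructor
    · intro hR
      by_contra hne
      have hmem : (t : G) ∈ centralizer ((P : Subgroup G) : Set G) ⊓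
          normalizer ((R : Subgroup G) : Set G) :=
        ⟨t.2, Sylow.smul_eq_iff_mem_normalizer.mp hR⟩
      rw [h.centralizer_inf_normalizer (Ne.symm hne), Subgroup.mem_bot] at hmem
      exact ht1 hmem
    · rintro rfl
      exact Sylow.smul_eq_iff_mem_normalizer.mpr (Subgroup.centralizer_le_normalizer _ t.2)
  obtain ⟨σ, hσ⟩ : ∃ σ : Equiv.Perm (Sylow p G),
      σ = MulAction.toPermHom G (Sylow p G) (t : G) := ⟨_, rfl⟩
  have hσapp : ∀ R : Sylow p G, σ R = (t : G) • R := by
    intro R; rw [hσ]; rfl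
  have hσ2 : σ ^ 2 = 1 := by
    rw [hσ, ← map_pow, ← hto, pow_orderOf_eq_one, map_one]
  have hσ1 : σ ≠ 1 := by
    intro h1'
    have hmem : (t : G) ∈ sylKer p G := by
      unfold sylKer
      rw [MonoidHom.mem_ker, ← hσ]
      exact h1'
    rw [h.red.ker_eq_bot, Subgroup.mem_bot] at hmem
    exact ht1 hmem
  have hσo : orderOf σ = 2 := orderOf_eq_prime hσ2 hσ1
  have hsupp : σ.support.card = 2 * p := by
    have hs : σ.support = Finset.univ.erase P := by
      ext R
      rw [Equiv.Perm.mem_support, Finset.mem_erase, hσapp]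
      simp only [Finset.mem_univ, and_true]
      exact not_congr (htfix R)
    rw [hs, Finset.card_erase_of_mem (Finset.mem_univ _), Finset.card_univ,
      ← Nat.card_eq_fintype_card, h.card]
    omega
  obtain ⟨n, hn⟩ := Equiv.Perm.cycleType_prime_order (σ := σ)
    (by rw [hσo]; exact Nat.prime_two)
  have hsum := Equiv.Perm.sum_cycleType σ
  rw [hn, hσo, Multiset.sum_replicate, hsupp, smul_eq_mul] at hsum
  have hn1 : n + 1 = p := by omega
  have hsign : Equiv.Perm.sign σ = -1 := by
    rw [Equiv.Perm.sign_of_cycleType, hn, hσo, Multiset.sum_replicate,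
      Multiset.card_replicate, smul_eq_mul, hn1]
    have hodd : Odd p := hpf.out.odd_of_ne_two h.odd
    have hodd' : Odd (p * 2 + p) := by
      obtain ⟨k, hk⟩ := hodd
      exact ⟨3 * k + 1, by omega⟩
    exact hodd'.neg_one_pow
  have hHtop : (Equiv.Perm.sign.comp (MulAction.toPermHom G (Sylow p G))).ker ≠ ⊤ := by
    intro htop
    have hmem : (t : G) ∈ (Equiv.Perm.sign.comp (MulAction.toPermHom G (Sylow p G))).ker := by
      rw [htop]; exact Subgroup.mem_top _
    rw [MonoidHom.mem_ker, MonoidHom.comp_apply, ← hσ, hsign] at hmem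
    exact absurd hmem (by decide)
  have hidx : ¬ p ∣ (Equiv.Perm.sign.comp (MulAction.toPermHom G (Sylow p G))).ker.index := by
    rw [Subgroup.index_ker]
    intro hdvd
    have h3 : Nat.card ↥(Equiv.Perm.sign.comp (MulAction.toPermHom G (Sylow p G))).range ∣
        Nat.card ℤˣ := Subgroup.card_subgroup_dvd_card _
    have h4 : Nat.card ℤˣ = 2 := by
      rw [Nat.card_eq_fintype_card]; rfl
    rw [h4] at h3
    have := (Nat.prime_dvd_prime_iff_eq hpf.out Nat.prime_two).mp (hdvd.trans h3)
    exact h.odd this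
  exact hHtop (h.red.no_normal _ (MonoidHom.normal_ker _) hidx)

theorem Hyp.centralizer_eq (h : Hyp p G) (P : Sylow p G) :
    centralizer ((P : Subgroup G) : Set G) = (P : Subgroup G) := by
  symm
  apply Subgroup.eq_of_le_of_card_ge (h.le_centralizer P)
  rw [h.card_centralizer P, h.card_sylow P]


theorem Hyp.odd_card (h : Hyp p G) : Odd (Nat.card G) := by
  by_contra hodd
  rw [Nat.not_odd_iff_even] at hodd
  have h2 : 2 ∣ Nat.card G := hodd.two_dvd
  have hmin : (Nat.card G).minFac = 2 := (Nat.minFac_eq_two_iff _).mpr h2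
  haveI : Fact (Nat.Prime 2) := ⟨Nat.prime_two⟩
  obtain ⟨T⟩ : Nonempty (Sylow 2 G) := inferInstance
  have hfix := T.2.nonempty_fixed_point_of_prime_not_dvd_card (Sylow p G)
    (by rw [h.card]; omega)
  obtain ⟨P, hP⟩ := hfix
  have hTN : (T : Subgroup G) ≤ normalizer ((P : Subgroup G) : Set G) := by
    intro x hx
    exact Sylow.smul_eq_iff_mem_normalizer.mp (hP ⟨x, hx⟩)
  have hψ : Function.Injective
      ((P : Subgroup G).normalizerMonoidHom.comp (Subgroup.inclusion hTN)) := by
    rw [← MonoidHom.ker_eq_bot_iff, eq_bot_iff]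
    intro x hx
    rw [MonoidHom.mem_ker, MonoidHom.comp_apply] at hx
    have h1 : Subgroup.inclusion hTN x ∈ (P : Subgroup G).normalizerMonoidHom.ker := hx
    rw [Subgroup.normalizerMonoidHom_ker, Subgroup.mem_subgroupOf] at h1
    have h2' : (x : G) ∈ (P : Subgroup G) := by
      rw [← h.centralizer_eq P]; exact h1
    have h3 : (x : G) ∈ (T : Subgroup G) ⊓ (P : Subgroup G) := ⟨x.2, h2'⟩
    have hdisj := IsPGroup.disjoint_of_ne 2 p (Ne.symm h.odd) _ _ T.2 P.2
    rw [hdisj.eq_bot, Subgroup.mem_bot] at h3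
    rw [Subgroup.mem_bot]
    exact Subtype.ext h3
  have hPc : IsCyclic ↥(P : Subgroup G) := isCyclic_of_prime_card (h.card_sylow P)
  haveI : Fact (Nat.card ↥(P : Subgroup G)).Prime := ⟨by rw [h.card_sylow P]; exact hpf.out⟩
  have hTc : IsCyclic ↥(T : Subgroup G) :=
    isCyclic_of_injective
      ((IsCyclic.mulAutMulEquiv ↥(P : Subgroup G)).toMonoidHom.comp
        ((P : Subgroup G).normalizerMonoidHom.comp (Subgroup.inclusion hTN)))
      (by
        intro a b hab
        apply hψ
        exact (IsCyclic.mulAutMulEquiv ↥(P : Subgroup G)).injective hab)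
  have hcompl := IsCyclic.isComplement' hmin (P := T) hTc
  have hidx := hcompl.symm.index_eq_card
  obtain ⟨k, hk⟩ := T.2.exists_card_eq
  have hnd : ¬ p ∣ (MonoidHom.transferSylow T (hTc.normalizer_le_centralizer hmin)).ker.index := by
    rw [hidx, hk]
    intro hd
    have := (Nat.prime_dvd_prime_iff_eq hpf.out Nat.prime_two).mp (hpf.out.dvd_of_dvd_pow hd)
    exact h.odd this
  have hMtop := h.red.no_normal _ (MonoidHom.normal_ker _) hnd
  rw [hMtop, Subgroup.index_top] at hidx
  exact T.ne_bot_of_dvd_card h2 (Subgroup.eq_bot_of_card_eq _ hidx.symm)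

theorem Hyp.card_eq (h : Hyp p G) :
    ∃ m, m ∣ p - 1 ∧ Nat.card G = (2 * p + 1) * (p * m) := by
  obtain ⟨P⟩ : Nonempty (Sylow p G) := inferInstance
  have hN : Nat.card ↥(normalizer ((P : Subgroup G) : Set G)) * Nat.card (Sylow p G) =
      Nat.card G := by
    rw [Sylow.card_eq_index_normalizer P]
    exact Subgroup.card_mul_index _
  refine ⟨(centralizer ((P : Subgroup G) : Set G)).relIndex
    (normalizer ((P : Subgroup G) : Set G)), ?_, ?_⟩
  · have hPc : IsCyclic ↥(P : Subgroup G) := isCyclic_of_prime_card (h.card_sylow P)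
    have key := Subgroup.card_dvd_of_injective _
      (QuotientGroup.kerLift_injective (P : Subgroup G).normalizerMonoidHom)
    rw [Subgroup.normalizerMonoidHom_ker, ← Subgroup.index, ← Subgroup.relIndex] at key
    rw [IsCyclic.card_mulAut, h.card_sylow P, Nat.totient_prime hpf.out] at key
    exact key
  · have := Cfsg.Agent.Lib.Helper72.relIndex_mul_card_inf
      (centralizer ((P : Subgroup G) : Set G)) (normalizer ((P : Subgroup G) : Set G))
    rw [inf_of_le_left (Subgroup.centralizer_le_normalizer _), h.card_centralizer P] at this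
    rw [← hN, h.card, ← this]
    ring

end structure_thm

/-- Main reduction: a finite group with `2 p + 1` Sylow `p`-subgroups (`p` odd) yields a group of
odd order `(2 p + 1) * (p * m)`, `m ∣ p - 1`, with `2 p + 1` self-centralizing Sylow `p`-subgroups
of order `p`. -/
theorem exists_small (p : ℕ) [Fact p.Prime] (hp2 : p ≠ 2) (G : Type u) [Group G] [Finite G]
    (hG : Nat.card (Sylow p G) = 2 * p + 1) :
    ∃ (H : Type u) (_ : Group H) (_ : Finite H), Nat.card (Sylow p H) = 2 * p + 1 ∧
      Odd (Nat.card H) ∧ (∃ m, m ∣ p - 1 ∧ Nat.card H = (2 * p + 1) * (p * m)) ∧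
      (∀ P : Sylow p H, Nat.card ↥(P : Subgroup H) = p) ∧
      (∀ P : Sylow p H, centralizer ((P : Subgroup H) : Set H) = (P : Subgroup H)) := by
  obtain ⟨H, hHg, hHf, hcard, hred⟩ := exists_reduced p (2 * p + 1) (Nat.card G) G rfl hG
  have h : Hyp p H := ⟨hp2, hcard, hred⟩
  exact ⟨H, hHg, hHf, hcard, h.odd_card, h.card_eq, h.card_sylow, h.centralizer_eq⟩


section tools

variable {H : Type u} [Group H] [Finite H]

omit [Finite H] in
/-- An element commuting with `y` centralizes `zpowers y`. -/
theorem mem_centralizer_zpowers {x y : H} (hxy : x * y = y * x) :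
    x ∈ centralizer ((Subgroup.zpowers y : Subgroup H) : Set H) := by
  rw [Subgroup.mem_centralizer_iff]
  intro z hz
  obtain ⟨k, rfl⟩ := Subgroup.mem_zpowers_iff.mp hz
  have hc : Commute x y := hxy
  exact (hc.zpow_right k).eq.symm

/-- **Lemma F**: if a self-centralizing Sylow `p`-subgroup `P` of order `p` normalizes a
`p'`-subgroup `R`, then `|R| ≡ 1 (mod p)`. -/
theorem card_modEq_one_of_normalizes {p : ℕ} [hpf : Fact p.Prime] (P : Sylow p H)
    (hP : Nat.card ↥(P : Subgroup H) = p)
    (hC : centralizer ((P : Subgroup H) : Set H) = (P : Subgroup H))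
    (R : Subgroup H) (hPR : (P : Subgroup H) ≤ normalizer (R : Set H))
    (hcop : ¬ p ∣ Nat.card ↥R) : Nat.card ↥R ≡ 1 [MOD p] := by
  have hPne : (P : Subgroup H) ≠ ⊥ := by
    intro hbot
    rw [hbot, Subgroup.card_bot] at hP
    exact hpf.out.one_lt.ne hP
  obtain ⟨⟨y, hyP⟩, hy1'⟩ := Subgroup.ne_bot_iff_exists_ne_one.mp hPne
  have hy1 : y ≠ 1 := fun h => hy1' (Subtype.ext h)
  have hz : Subgroup.zpowers y = (P : Subgroup H) :=
    Cfsg.Agent.Lib.Helper17.zpowers_eq_of_mem_of_card_prime (P : Subgroup H) hP y hyP hy1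
  have hyp : IsPGroup p ↥(Subgroup.zpowers y) := by
    rw [hz]; exact P.2
  have hmod := Cfsg.Agent.Lib.Helper17.card_modEq_card_inf_centralizer R y (hPR hyP) hyp
  have hbot : R ⊓ centralizer ({y} : Set H) = ⊥ := by
    rw [eq_bot_iff]
    intro x hx
    rw [Subgroup.mem_inf] at hx
    obtain ⟨hxR, hxy⟩ := hx
    have hxy' : x * y = y * x := by
      have := Subgroup.mem_centralizer_iff.mp hxy y (Set.mem_singleton y)
      exact this.symm
    have hxP : x ∈ (P : Subgroup H) := by
      rw [← hC, ← hz]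
      exact mem_centralizer_zpowers hxy'
    -- `x ∈ R ⊓ P`, whose order divides both `|R|` and `p`
    have hRP : R ⊓ (P : Subgroup H) = ⊥ := by
      apply Subgroup.eq_bot_of_card_eq
      have h1 : Nat.card ↥(R ⊓ (P : Subgroup H)) ∣ p := by
        have := Subgroup.card_dvd_of_le (inf_le_right : R ⊓ (P : Subgroup H) ≤ P)
        rwa [hP] at this
      rcases (Nat.dvd_prime hpf.out).mp h1 with h2 | h2
      · exact h2
      · exfalso
        apply hcop
        rw [← h2]
        exact Subgroup.card_dvd_of_le inf_le_left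
    have : x ∈ R ⊓ (P : Subgroup H) := ⟨hxR, hxP⟩
    rwa [hRP] at this
  rw [hbot, Subgroup.card_bot] at hmod
  exact hmod

/-- Elements of two different orders. -/
theorem card_orderOf_add_le (a b : ℕ) (hab : a ≠ b) :
    Nat.card {g : H // orderOf g = a} + Nat.card {g : H // orderOf g = b} ≤ Nat.card H := by
  rw [← Nat.card_sum]
  apply Nat.card_le_card_of_injective
    (fun x : {g : H // orderOf g = a} ⊕ {g : H // orderOf g = b} =>
      Sum.elim (fun g => g.1) (fun g => g.1) x)
  rintro (x | x) (y | y) hxy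
  · simp only [Sum.elim_inl] at hxy
    rw [Subtype.ext hxy]
  · simp only [Sum.elim_inl, Sum.elim_inr] at hxy
    exfalso
    apply hab
    rw [← x.2, ← y.2, hxy]
  · simp only [Sum.elim_inl, Sum.elim_inr] at hxy
    exfalso
    apply hab
    rw [← x.2, ← y.2, hxy]
  · simp only [Sum.elim_inr] at hxy
    rw [Subtype.ext hxy]

/-- A unique Sylow subgroup is normalized by everything. -/
theorem le_normalizer_of_card_sylow_eq_one {q : ℕ} [Fact q.Prime]
    (hq : Nat.card (Sylow q H) = 1) (Q : Sylow q H) (K : Subgroup H) :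
    K ≤ normalizer ((Q : Subgroup H) : Set H) := by
  have hsub : Subsingleton (Sylow q H) := Finite.card_le_one_iff_subsingleton.mp hq.le
  have := Sylow.normal_of_subsingleton Q
  rw [Subgroup.normalizer_eq_top]
  exact le_top

end tools

end Cfsg.Agent.Lib.Helper49.TwoPPlusOne
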