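import Mathlib
import Cfsg.Agent.Lib.Helper17.ActionCounts
import Cfsg.Agent.Lib.Helper17.NormCent
import Cfsg.Agent.Lib.Helper17.InvolTools
import Cfsg.Agent.Lib.Helper17.SylowTools
import Cfsg.Agent.Lib.Helper17.FixSylow
import Cfsg.Agent.Lib.Helper17.FixedPoints
import Cfsg.Agent.Lib.Helper17.ElementCount
import Cfsg.Agent.Lib.Helper17.SylowInter
import Cfsg.Agent.Lib.Helper17.PGroupNorm

/-!
# Simple groups of order 504: Sylow numerics (helper49)

`n_7 = 36`, `C(P_7) = P_7`, no action on 7 points, `n_3 = 28`, `C(P_3) = P_3`.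
-/

set_option autoImplicit false

namespace Cfsg.Agent.Lib.Helper49.O504

open Cfsg.Agent.Lib.Helper17 Subgroup MulAction

/-- Let `P` be a subgroup of prime order `p` acting nontrivially on a set `X` of size `p`, and
let `t` normalize `P` with `C_P(t) = 1`.  Then `t` has at most one fixed point on `X`. -/
theorem eq_of_fixed_of_card_prime {H X : Type*} [Group H] [MulAction H X] [Finite X] {p : ℕ}
    [hp : Fact p.Prime] (P : Subgroup H) (hP : Nat.card ↥P = p) (hX : Nat.card X = p)
    (hmove : ∃ y ∈ P, ∃ a : X, y • a ≠ a) (t : H) (htN : t ∈ normalizer (P : Set H))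
    (hcent : ∀ g ∈ P, g * t = t * g → g = 1) (a b : X) (ha : t • a = a) (hb : t • b = b) :
    a = b := by
  obtain ⟨y₀, hy₀, a₀, hne⟩ := hmove
  haveI : Finite ↥P := Nat.finite_of_card_ne_zero (by rw [hP]; exact hp.out.ne_zero)
  have hdvd : ∀ a : X, (orbit ↥P a).ncard ∣ p := fun a => by
    rw [← MulAction.index_stabilizer, ← hP]
    exact Subgroup.index_dvd_card _
  have h₀ : (orbit ↥P a₀).ncard = p := by
    rcases (Nat.dvd_prime hp.out).mp (hdvd a₀) with h1 | h1
    · exfalso
      obtain ⟨c, hc⟩ := Set.ncard_eq_one.mp h1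
      have m1 : a₀ ∈ orbit ↥P a₀ := mem_orbit_self a₀
      have m2 : y₀ • a₀ ∈ orbit ↥P a₀ := ⟨⟨y₀, hy₀⟩, rfl⟩
      rw [hc, Set.mem_singleton_iff] at m1 m2
      exact hne (m2.trans m1.symm)
    · exact h1
  have huniv : orbit ↥P a₀ = Set.univ := by
    rw [Set.eq_univ_iff_ncard, h₀, hX]
  have htrans : ∀ a : X, ∃ g ∈ P, g • a₀ = a := by
    intro a
    have hmem : a ∈ orbit ↥P a₀ := by rw [huniv]; trivial
    obtain ⟨⟨g, hg⟩, hga⟩ := hmem
    exact ⟨g, hg, hga⟩
  have hfree₀ : ∀ y ∈ P, y • a₀ = a₀ → y = 1 := by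
    intro y hy hfix
    have hidx : (stabilizer ↥P a₀).index = p := by rw [MulAction.index_stabilizer, h₀]
    have hcard : Nat.card ↥(stabilizer ↥P a₀) = 1 := by
      have h1 := Subgroup.card_mul_index (stabilizer ↥P a₀)
      rw [hidx, hP] at h1
      have hp0 := hp.out.pos
      exact Nat.eq_of_mul_eq_mul_right hp0 (by rw [h1, one_mul])
    have hbot : stabilizer ↥P a₀ = ⊥ := Subgroup.card_eq_one.mp hcard
    have hmem : (⟨y, hy⟩ : ↥P) ∈ stabilizer ↥P a₀ := hfix
    rw [hbot, Subgroup.mem_bot] at hmem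
    exact congrArg Subtype.val hmem
  have hcomm : ∀ u ∈ P, ∀ v ∈ P, u * v = v * u := by
    intro u hu v hv
    have hcyc : IsCyclic ↥P := isCyclic_of_prime_card hP
    exact congrArg Subtype.val (hcyc.isMulCommutative.is_comm.comm ⟨u, hu⟩ ⟨v, hv⟩)
  have hfree : ∀ y ∈ P, ∀ c : X, y • c = c → y = 1 := by
    intro y hy c hfix
    obtain ⟨g, hg, rfl⟩ := htrans c
    have h1 : g • (y • a₀) = g • a₀ := by
      rw [← mul_smul, ← hcomm y hy g hg, mul_smul]
      exact hfix
    exact hfree₀ y hy (smul_left_cancel g h1)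
  obtain ⟨g₁, hg₁, e₁⟩ := htrans a
  obtain ⟨g₂, hg₂, e₂⟩ := htrans b
  have hy : g₂ * g₁⁻¹ ∈ P := P.mul_mem hg₂ (P.inv_mem hg₁)
  have hya : (g₂ * g₁⁻¹) • a = b := by
    rw [← e₁, ← e₂, smul_smul, inv_mul_cancel_right]
  have hty : t * (g₂ * g₁⁻¹) * t⁻¹ ∈ P := (mem_normalizer_iff.mp htN _).mp hy
  have hz : (g₂ * g₁⁻¹)⁻¹ * (t * (g₂ * g₁⁻¹) * t⁻¹) ∈ P := P.mul_mem (P.inv_mem hy) hty
  have hza : ((g₂ * g₁⁻¹)⁻¹ * (t * (g₂ * g₁⁻¹) * t⁻¹)) • a = a := by
    have h1 : t⁻¹ • a = a := by rw [inv_smul_eq_iff, ha]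
    rw [mul_smul, mul_smul, mul_smul, h1, hya, hb, inv_smul_eq_iff, hya]
  have hz1 := hfree _ hz a hza
  have h2 : t * (g₂ * g₁⁻¹) * t⁻¹ = g₂ * g₁⁻¹ := by
    have := congrArg (fun w => (g₂ * g₁⁻¹) * w) hz1
    simpa [mul_assoc] using this
  have h3 : (g₂ * g₁⁻¹) * t = t * (g₂ * g₁⁻¹) := by
    calc (g₂ * g₁⁻¹) * t = (t * (g₂ * g₁⁻¹) * t⁻¹) * t := by rw [h2]
      _ = t * (g₂ * g₁⁻¹) := by group
  have h4 := hcent _ hy h3
  rw [h4, one_smul] at hya
  exact hya

variable {G : Type*} [Group G] [Finite G] [IsSimpleGroup G]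

theorem not_comm (h : Nat.card G = 504) : ¬ IsMulCommutative G :=
  not_comm_of_simple_of_not_prime (by rw [h]; norm_num)

theorem fact_seven : Fact (Nat.Prime 7) := ⟨by norm_num⟩
theorem fact_three : Fact (Nat.Prime 3) := ⟨by norm_num⟩
theorem fact_two : Fact (Nat.Prime 2) := ⟨Nat.prime_two⟩

theorem card_sylow7 (h : Nat.card G = 504) (P : Sylow 7 G) : Nat.card ↥(P : Subgroup G) = 7 := by
  have := fact_seven
  have hG' : Nat.card G = 7 ^ 1 * 72 := by rw [h]; norm_num
  simpa using card_sylow_of_card_eq P hG' (by norm_num)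

theorem card_sylow3 (h : Nat.card G = 504) (P : Sylow 3 G) : Nat.card ↥(P : Subgroup G) = 9 := by
  have := fact_three
  have hG' : Nat.card G = 3 ^ 2 * 56 := by rw [h]; norm_num
  simpa using card_sylow_of_card_eq P hG' (by norm_num)

theorem card_sylow2 (h : Nat.card G = 504) (T : Sylow 2 G) : Nat.card ↥(T : Subgroup G) = 8 := by
  have := fact_two
  have hG' : Nat.card G = 2 ^ 3 * 63 := by rw [h]; norm_num
  simpa using card_sylow_of_card_eq T hG' (by norm_num)

theorem sylow_ne_bot_top {p n : ℕ} (h : Nat.card G = 504) (P : Sylow p G)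
    (hP : Nat.card ↥(P : Subgroup G) = n) (h1 : 1 < n) (h2 : n < 504) :
    (P : Subgroup G) ≠ ⊥ ∧ (P : Subgroup G) ≠ ⊤ := by
  constructor
  · intro h'; rw [h', Subgroup.card_bot] at hP; omega
  · intro h'; rw [h', Subgroup.card_top] at hP; omega

/-- The conjugation action on the Sylow `p`-subgroups is nontrivial when there are at least two. -/
theorem exists_smul_ne_sylow {p : ℕ} [Fact p.Prime] (hn : 1 < Nat.card (Sylow p G)) :
    ∃ g : G, ∃ Q : Sylow p G, g • Q ≠ Q := by
  haveI : Nontrivial (Sylow p G) := Finite.one_lt_card_iff_nontrivial.mp hn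
  obtain ⟨P, Q, hPQ⟩ := exists_pair_ne (Sylow p G)
  obtain ⟨g, hg⟩ := MulAction.exists_smul_eq G P Q
  exact ⟨g, P, fun h' => hPQ (h'.symm.trans hg)⟩

theorem card_sylow7_eq (h : Nat.card G = 504) : Nat.card (Sylow 7 G) = 36 := by
  have := fact_seven
  have := fact_three
  have hnc := not_comm h
  have hG' : Nat.card G = 7 ^ 1 * 72 := by rw [h]; norm_num
  obtain ⟨P⟩ : Nonempty (Sylow 7 G) := inferInstance
  have hP := card_sylow7 h P
  have hdvd : Nat.card (Sylow 7 G) ∣ 72 := card_sylow_dvd_of_card_eq hG' (by norm_num)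
  have hmod : Nat.card (Sylow 7 G) % 7 = 1 := card_sylow_modEq_one 7 G
  have hcases : ∀ d ∈ Nat.divisors 72, d % 7 = 1 → d = 1 ∨ d = 8 ∨ d = 36 := by decide
  obtain ⟨hne1, hne2⟩ := sylow_ne_bot_top h P hP (by norm_num) (by norm_num)
  have hlt := one_lt_card_sylow_of_simple P hne1 hne2
  rcases hcases _ (Nat.mem_divisors.mpr ⟨hdvd, by norm_num⟩) hmod with h1 | h1 | h1
  · omega
  · exfalso
    have hN : Nat.card ↥(normalizer ((P : Subgroup G) : Set G)) = 63 := by
      have := card_normalizer_mul_card_sylow P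
      rw [h1, h] at this
      omega
    have hr := relIndex_centralizer_normalizer_dvd_pred (p := 7) (by norm_num) (P : Subgroup G) hP
    have h2 := card_inf_mul_relIndex (centralizer ((P : Subgroup G) : Set G))
      (normalizer ((P : Subgroup G) : Set G))
    rw [inf_eq_left.mpr (centralizer_le_normalizer _), hN] at h2
    have h3 : (centralizer ((P : Subgroup G) : Set G)).relIndex
        (normalizer ((P : Subgroup G) : Set G)) ≠ 1 := by
      intro h4
      exact not_normalizer_le_centralizer_of_simple P hne1 hne2 (relIndex_eq_one.mp h4)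
    have h3dvd : 3 ∣ Nat.card ↥(centralizer ((P : Subgroup G) : Set G)) := by
      have h5 : (centralizer ((P : Subgroup G) : Set G)).relIndex
          (normalizer ((P : Subgroup G) : Set G)) ≤ 6 := Nat.le_of_dvd (by norm_num) hr
      generalize (centralizer ((P : Subgroup G) : Set G)).relIndex
          (normalizer ((P : Subgroup G) : Set G)) = r at *
      generalize Nat.card ↥(centralizer ((P : Subgroup G) : Set G)) = c at *
      interval_cases r <;> omega
    obtain ⟨x, hx⟩ := exists_prime_orderOf_dvd_card'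
      (G := ↥(centralizer ((P : Subgroup G) : Set G))) 3 h3dvd
    have hxo : orderOf (x : G) = 3 := by rw [Subgroup.orderOf_coe, hx]
    have hcomm : ∀ a ∈ (P : Subgroup G), a * (x : G) = (x : G) * a :=
      fun a ha => mem_centralizer_iff.mp x.2 a ha
    have hf7 := card_fixedBy_sylow_modEq_one P (x : G) hcomm
    have h3grp : IsPGroup 3 (zpowers (x : G)) := by
      apply IsPGroup.of_card (n := 1)
      rw [Nat.card_zpowers, hxo, pow_one]
    have hf3 := card_modEq_card_fixedPoints_subgroup (X := Sylow 7 G) (zpowers (x : G)) h3grp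
    rw [fixedPoints_zpowers_eq, h1] at hf3
    have hle : Nat.card (fixedBy (Sylow 7 G) (x : G)) ≤ 8 := by
      rw [← h1]
      exact Nat.card_le_card_of_injective _ Subtype.val_injective
    have hall : Nat.card (fixedBy (Sylow 7 G) (x : G)) = 8 := by
      rw [Nat.ModEq] at hf7 hf3
      generalize Nat.card (fixedBy (Sylow 7 G) (x : G)) = c at *
      interval_cases c <;> omega
    have huniv : fixedBy (Sylow 7 G) (x : G) = Set.univ := by
      rw [Set.eq_univ_iff_ncard, ← Nat.card_coe_set_eq, hall, h1]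
    have hx1 : (x : G) = 1 := by
      apply eq_one_of_forall_smul_eq (X := Sylow 7 G) (exists_smul_ne_sylow hlt)
      intro Q
      have : Q ∈ fixedBy (Sylow 7 G) (x : G) := by rw [huniv]; trivial
      exact this
    rw [hx1, orderOf_one] at hxo
    omega
  · exact h1

theorem card_normalizer7 (h : Nat.card G = 504) (P : Sylow 7 G) :
    Nat.card ↥(normalizer ((P : Subgroup G) : Set G)) = 14 := by
  have := fact_seven
  have := card_normalizer_mul_card_sylow P
  rw [card_sylow7_eq h, h] at this
  omega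

theorem centralizer7 (h : Nat.card G = 504) (P : Sylow 7 G) :
    centralizer ((P : Subgroup G) : Set G) = (P : Subgroup G) := by
  have := fact_seven
  exact centralizer_sylow_eq_of_card_normalizer Nat.prime_two P (card_sylow7 h P)
    (by rw [h]; norm_num) (card_normalizer7 h P)

omit [Finite G] [IsSimpleGroup G] in
theorem mem_centralizer_zpowers_iff (x g : G) :
    g ∈ centralizer ((zpowers x : Subgroup G) : Set G) ↔ g ∈ centralizer ({x} : Set G) := by
  constructor
  · intro hg
    rw [mem_centralizer_iff] at hg ⊢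
    intro y hy
    rw [Set.mem_singleton_iff] at hy
    subst hy
    exact hg y (mem_zpowers y)
  · intro hg
    rw [mem_centralizer_iff] at hg ⊢
    intro y hy
    obtain ⟨n, rfl⟩ := mem_zpowers_iff.mp hy
    have hc : Commute x g := hg x rfl
    exact (hc.zpow_left n).eq

theorem fac7 (h : Nat.card G = 504) : 7 ^ (Nat.card G).factorization 7 = 7 := by
  have := fact_seven
  obtain ⟨P₀⟩ : Nonempty (Sylow 7 G) := inferInstance
  rw [← P₀.card_eq_multiplicity, card_sylow7 h P₀]

theorem fac3 (h : Nat.card G = 504) : 3 ^ (Nat.card G).factorization 3 = 9 := by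
  have := fact_three
  obtain ⟨P₀⟩ : Nonempty (Sylow 3 G) := inferInstance
  rw [← P₀.card_eq_multiplicity, card_sylow3 h P₀]

theorem fac2 (h : Nat.card G = 504) : 2 ^ (Nat.card G).factorization 2 = 8 := by
  have := fact_two
  obtain ⟨P₀⟩ : Nonempty (Sylow 2 G) := inferInstance
  rw [← P₀.card_eq_multiplicity, card_sylow2 h P₀]

/-- Elements of order `7` are self-centralizing. -/
theorem centralizer_of_orderOf_seven (h : Nat.card G = 504) (x : G) (hx : orderOf x = 7) :
    centralizer ({x} : Set G) = zpowers x := by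
  have := fact_seven
  have hcard : Nat.card ↥(zpowers x) = 7 := by rw [Nat.card_zpowers, hx]
  set S : Sylow 7 G := Sylow.ofCard (zpowers x) (by rw [hcard, fac7 h]) with hS
  have hSz : (S : Subgroup G) = zpowers x := rfl
  have hC := centralizer7 h S
  rw [hSz] at hC
  ext g
  rw [← mem_centralizer_zpowers_iff, hC]

/-- An element commuting with an element of order `7` is a power of it. -/
theorem orderOf_of_commute_seven (h : Nat.card G = 504) (x g : G) (hx : orderOf x = 7)
    (hc : g * x = x * g) : orderOf g = 1 ∨ orderOf g = 7 := by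
  have hmem : g ∈ centralizer ({x} : Set G) := by
    rw [mem_centralizer_iff]
    intro y hy
    rw [Set.mem_singleton_iff] at hy
    subst hy
    exact hc.symm
  rw [centralizer_of_orderOf_seven h x hx] at hmem
  have hdvd : orderOf g ∣ 7 := by
    have h1 : orderOf (⟨g, hmem⟩ : ↥(zpowers x)) ∣ Nat.card ↥(zpowers x) := orderOf_dvd_natCard _
    rw [Nat.card_zpowers, hx] at h1
    rwa [← Subgroup.orderOf_coe] at h1
  exact (Nat.dvd_prime (by norm_num)).mp hdvd

/-- A simple group of order `504` has no nontrivial action on a set with `7` elements. -/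
theorem no_action_seven (h : Nat.card G = 504) {X : Type*} [MulAction G X] [Finite X]
    (hX : Nat.card X = 7) (hmove : ∃ g : G, ∃ x : X, g • x ≠ x) : False := by
  have := fact_seven
  have hnc := not_comm h
  obtain ⟨P⟩ : Nonempty (Sylow 7 G) := inferInstance
  have hP := card_sylow7 h P
  have hN := card_normalizer7 h P
  have hC := centralizer7 h P
  obtain ⟨t', ht'⟩ := exists_prime_orderOf_dvd_card'
    (G := ↥(normalizer ((P : Subgroup G) : Set G))) 2 (by rw [hN]; norm_num)
  have hto : orderOf (t' : G) = 2 := by rw [Subgroup.orderOf_coe, ht']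
  have htt : (t' : G) * (t' : G) = 1 := by
    have := pow_orderOf_eq_one (t' : G)
    rwa [hto, pow_two] at this
  have htP : (t' : G) ∉ (P : Subgroup G) := by
    intro hmem
    have h1 : orderOf (⟨(t' : G), hmem⟩ : ↥(P : Subgroup G)) ∣ Nat.card ↥(P : Subgroup G) :=
      orderOf_dvd_natCard _
    rw [hP, ← Subgroup.orderOf_coe] at h1
    simp only at h1
    rw [hto] at h1
    omega
  have hcent := eq_one_of_commute_of_centralizer_eq P hP hC (t' : G) htP
  -- an element of `P` moving a point
  obtain ⟨y', hy'⟩ := exists_prime_orderOf_dvd_card' (G := ↥(P : Subgroup G)) 7 (by rw [hP])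
  have hyo : orderOf (y' : G) = 7 := by rw [Subgroup.orderOf_coe, hy']
  have hmoveP : ∃ y ∈ (P : Subgroup G), ∃ a : X, y • a ≠ a := by
    refine ⟨(y' : G), y'.2, ?_⟩
    by_contra hcon
    push Not at hcon
    have := eq_one_of_forall_smul_eq (X := X) hmove (y' : G) hcon
    rw [this, orderOf_one] at hyo
    omega
  have hsub : ∀ a b : X, (t' : G) • a = a → (t' : G) • b = b → a = b :=
    fun a b ha hb => eq_of_fixed_of_card_prime (P : Subgroup G) hP hX hmoveP (t' : G) t'.2
      hcent a b ha hb
  have hle : Nat.card (fixedBy X (t' : G)) ≤ 1 := by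
    rw [Finite.card_le_one_iff_subsingleton]
    exact ⟨fun a b => Subtype.ext (hsub a.1 b.1 a.2 b.2)⟩
  have hmod := card_fixedBy_modEq_four (X := X) hnc (t' : G) htt
  rw [hX, Nat.ModEq] at hmod
  omega

/-- No subgroup of order `72` (index `7`). -/
theorem card_ne_72 (h : Nat.card G = 504) (H : Subgroup G) : Nat.card ↥H ≠ 72 := by
  intro hH
  have hidx : H.index = 7 := by
    have := Subgroup.card_mul_index H
    rw [hH, h] at this
    omega
  have hcard : Nat.card (G ⧸ H) = 7 := by rw [← hidx]; rfl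
  haveI : Finite (G ⧸ H) := Nat.finite_of_card_ne_zero (by rw [hcard]; norm_num)
  have hne : H ≠ ⊤ := by
    intro h'
    rw [h', Subgroup.card_top, h] at hH
    omega
  obtain ⟨g, hg⟩ : ∃ g : G, g ∉ H := by
    by_contra hcon
    push Not at hcon
    exact hne (eq_top_iff.mpr fun x _ => hcon x)
  refine no_action_seven h hcard ⟨g, ((1 : G) : G ⧸ H), ?_⟩
  intro hfix
  rw [MulAction.Quotient.smul_coe, smul_eq_mul, mul_one, QuotientGroup.eq] at hfix
  apply hg
  have := H.inv_mem hfix
  simpa using this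

theorem card_sylow3_eq (h : Nat.card G = 504) : Nat.card (Sylow 3 G) = 28 := by
  have := fact_three
  have hnc := not_comm h
  have hG' : Nat.card G = 3 ^ 2 * 56 := by rw [h]; norm_num
  obtain ⟨P⟩ : Nonempty (Sylow 3 G) := inferInstance
  have hP := card_sylow3 h P
  have hdvd : Nat.card (Sylow 3 G) ∣ 56 := card_sylow_dvd_of_card_eq hG' (by norm_num)
  have hmod : Nat.card (Sylow 3 G) % 3 = 1 := card_sylow_modEq_one 3 G
  have hcases : ∀ d ∈ Nat.divisors 56, d % 3 = 1 → d = 1 ∨ d = 4 ∨ d = 7 ∨ d = 28 := by decide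
  obtain ⟨hne1, hne2⟩ := sylow_ne_bot_top h P hP (by norm_num) (by norm_num)
  have hlt := one_lt_card_sylow_of_simple P hne1 hne2
  rcases hcases _ (Nat.mem_divisors.mpr ⟨hdvd, by norm_num⟩) hmod with h1 | h1 | h1 | h1
  · omega
  · exfalso
    have := card_dvd_factorial_card_sylow (G := G) (p := 3) hlt
    rw [h1, h] at this
    revert this; decide
  · exfalso
    exact no_action_seven h (X := Sylow 3 G) h1 (exists_smul_ne_sylow hlt)
  · exact h1

theorem card_normalizer3 (h : Nat.card G = 504) (P : Sylow 3 G) :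
    Nat.card ↥(normalizer ((P : Subgroup G) : Set G)) = 18 := by
  have := fact_three
  have := card_normalizer_mul_card_sylow P
  rw [card_sylow3_eq h, h] at this
  omega

theorem comm_sylow3 (h : Nat.card G = 504) (P : Sylow 3 G) :
    ∀ a ∈ (P : Subgroup G), ∀ b ∈ (P : Subgroup G), a * b = b * a := by
  have := fact_three
  exact comm_of_card_prime_pow_le_two (p := 3) (e := 2) le_rfl (P : Subgroup G)
    (by rw [card_sylow3 h P]; norm_num)

theorem centralizer3 (h : Nat.card G = 504) (P : Sylow 3 G) :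
    centralizer ((P : Subgroup G) : Set G) = (P : Subgroup G) := by
  have := fact_three
  have hP := card_sylow3 h P
  have hN := card_normalizer3 h P
  have hcomm := comm_sylow3 h P
  obtain ⟨hne1, hne2⟩ := sylow_ne_bot_top h P hP (by norm_num) (by norm_num)
  have hPC : (P : Subgroup G) ≤ centralizer ((P : Subgroup G) : Set G) := by
    intro a ha
    rw [mem_centralizer_iff]
    intro b hb
    exact hcomm b hb a ha
  have hr := relIndex_centralizer_normalizer_mul_card_dvd (P : Subgroup G) hcomm
  rw [hP, hN] at hr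
  have h2 := card_inf_mul_relIndex (centralizer ((P : Subgroup G) : Set G))
    (normalizer ((P : Subgroup G) : Set G))
  rw [inf_eq_left.mpr (centralizer_le_normalizer _), hN] at h2
  have h3 : (centralizer ((P : Subgroup G) : Set G)).relIndex
      (normalizer ((P : Subgroup G) : Set G)) ≠ 1 := by
    intro h4
    exact not_normalizer_le_centralizer_of_simple P hne1 hne2 (relIndex_eq_one.mp h4)
  have hC : Nat.card ↥(centralizer ((P : Subgroup G) : Set G)) = 9 := by
    have h5 : (centralizer ((P : Subgroup G) : Set G)).relIndex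
        (normalizer ((P : Subgroup G) : Set G)) ∣ 2 := by
      have : (centralizer ((P : Subgroup G) : Set G)).relIndex
        (normalizer ((P : Subgroup G) : Set G)) * 9 ∣ 2 * 9 := hr
      exact Nat.dvd_of_mul_dvd_mul_right (by norm_num) this
    have h6 := Nat.le_of_dvd (by norm_num) h5
    generalize (centralizer ((P : Subgroup G) : Set G)).relIndex
        (normalizer ((P : Subgroup G) : Set G)) = r at *
    generalize Nat.card ↥(centralizer ((P : Subgroup G) : Set G)) = c at *
    interval_cases r <;> omega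
  exact (Subgroup.eq_of_le_of_card_ge hPC (by rw [hP, hC])).symm

end Cfsg.Agent.Lib.Helper49.O504
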