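import Mathlib
import Cfsg.Agent.Lib.Helper49.O504A

/-!
# Simple groups of order 504: elements of order 3 (helper49)

Centralizers of elements of order `3` have order `9` or `18`; the Sylow `3`-subgroups are
disjoint; there are `224` nontrivial `3`-elements.
-/

set_option autoImplicit false

namespace Cfsg.Agent.Lib.Helper49.O504

open Cfsg.Agent.Lib.Helper17 Subgroup MulAction

variable {G : Type*} [Group G] [Finite G] [IsSimpleGroup G]

omit [IsSimpleGroup G] in
/-- Sylow counting inside a subgroup `M ≥ P`. -/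
theorem exists_card_inf_normalizer' {p : ℕ} [Fact p.Prime] (P : Sylow p G) (M : Subgroup G)
    (hPM : (P : Subgroup G) ≤ M) :
    ∃ k : ℕ, k % p = 1 % p ∧
      Nat.card ↥(normalizer ((P : Subgroup G) : Set G) ⊓ M : Subgroup G) * k = Nat.card ↥M ∧
      Nat.card ↥(P : Subgroup G) ∣
        Nat.card ↥(normalizer ((P : Subgroup G) : Set G) ⊓ M : Subgroup G) :=
  ⟨_, relIndex_normalizer_modEq_one P M hPM, card_inf_mul_relIndex _ M,
    Subgroup.card_dvd_of_le (le_inf le_normalizer hPM)⟩

omit [Finite G] [IsSimpleGroup G] in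
theorem le_normalizer_map_subtype_of_normal' (M : Subgroup G) (K : Subgroup ↥M) (hKn : K.Normal) :
    M ≤ normalizer ((K.map M.subtype : Subgroup G) : Set G) := by
  intro m hm
  rw [mem_normalizer_iff]
  intro x
  constructor
  · rintro ⟨k, hk, rfl⟩
    exact ⟨⟨m, hm⟩ * k * ⟨m, hm⟩⁻¹, hKn.conj_mem k hk ⟨m, hm⟩, rfl⟩
  · rintro ⟨k, hk, hkx⟩
    refine ⟨⟨m, hm⟩⁻¹ * k * ⟨m, hm⟩, ?_, ?_⟩
    · have := hKn.conj_mem k hk ⟨m, hm⟩⁻¹
      rwa [inv_inv] at this
    · have hkx' : (k : G) = m * x * m⁻¹ := hkx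
      show m⁻¹ * (k : G) * m = x
      rw [hkx']
      group

omit [IsSimpleGroup G] in
/-- A `3`-element lies in a Sylow `3`-subgroup. -/
theorem exists_sylow3_mem (g : G) (hg : g ^ 9 = 1) : ∃ P : Sylow 3 G, g ∈ (P : Subgroup G) := by
  have := fact_three
  have hdvd : orderOf g ∣ 3 ^ 2 := orderOf_dvd_iff_pow_eq_one.mpr (by simpa using hg)
  obtain ⟨m, -, hm⟩ := (Nat.dvd_prime_pow Nat.prime_three).mp hdvd
  have hp : IsPGroup 3 ↥(zpowers g) := IsPGroup.of_card (n := m) (by rw [Nat.card_zpowers, hm])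
  obtain ⟨Q, hQ⟩ := hp.exists_le_sylow
  exact ⟨Q, hQ (mem_zpowers g)⟩

theorem sylow3_le_centralizer (h : Nat.card G = 504) (P : Sylow 3 G) (x : G)
    (hx : x ∈ (P : Subgroup G)) : (P : Subgroup G) ≤ centralizer ({x} : Set G) := by
  intro y hy
  rw [mem_centralizer_iff]
  intro z hz
  rw [Set.mem_singleton_iff] at hz
  subst hz
  exact comm_sylow3 h P z hx y hy

/-- Only elements of order `1` or `7` have centralizer of order divisible by `7`. -/
theorem not_seven_dvd_centralizer (h : Nat.card G = 504) (g : G) (hg1 : g ≠ 1)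
    (hg7 : orderOf g ≠ 7) : ¬ 7 ∣ Nat.card ↥(centralizer ({g} : Set G)) := by
  have := fact_seven
  intro hdvd
  obtain ⟨x, hx⟩ := exists_prime_orderOf_dvd_card' (G := ↥(centralizer ({g} : Set G))) 7 hdvd
  have hxo : orderOf (x : G) = 7 := by rw [Subgroup.orderOf_coe, hx]
  have hc : g * (x : G) = (x : G) * g := mem_centralizer_iff.mp x.2 g rfl
  rcases orderOf_of_commute_seven h (x : G) g hxo hc with h1 | h1
  · exact hg1 (orderOf_eq_one_iff.mp h1)
  · exact hg7 h1

/-- Only `3`-elements have centralizer of order divisible by `9`. -/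
theorem not_nine_dvd_centralizer (h : Nat.card G = 504) (g : G) (hg : g ^ 9 ≠ 1) :
    ¬ 9 ∣ Nat.card ↥(centralizer ({g} : Set G)) := by
  have := fact_three
  intro hdvd
  obtain ⟨K, hK⟩ := Sylow.exists_subgroup_card_pow_prime (G := ↥(centralizer ({g} : Set G)))
    3 (n := 2) (by simpa using hdvd)
  have hK' : Nat.card ↥(K.map (centralizer ({g} : Set G)).subtype) = 9 := by
    rw [Subgroup.card_subtype, hK]; norm_num
  set P : Sylow 3 G := Sylow.ofCard (K.map (centralizer ({g} : Set G)).subtype)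
    (by rw [hK', fac3 h]) with hP
  have hPK : (P : Subgroup G) = K.map (centralizer ({g} : Set G)).subtype := rfl
  have hC := centralizer3 h P
  have hgC : g ∈ centralizer ((P : Subgroup G) : Set G) := by
    rw [mem_centralizer_iff]
    intro y hy
    rw [SetLike.mem_coe, hPK] at hy
    obtain ⟨k, -, rfl⟩ := hy
    exact (mem_centralizer_iff.mp k.2 g rfl).symm
  rw [hC] at hgC
  have hd : orderOf g ∣ 9 := by
    have := Subgroup.orderOf_dvd_natCard (P : Subgroup G) hgC
    rwa [card_sylow3 h P] at this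
  exact hg (orderOf_dvd_iff_pow_eq_one.mp hd)

/-- The centralizer of an element of order `3` does not have order `36`. -/
theorem card_centralizer_three_ne_36 (h : Nat.card G = 504) (x : G) (hx : orderOf x = 3) :
    Nat.card ↥(centralizer ({x} : Set G)) ≠ 36 := by
  have := fact_three
  have := fact_two
  intro hM
  set M : Subgroup G := centralizer ({x} : Set G) with hMdef
  have hx9 : x ^ 9 = 1 := by
    have : x ^ 3 = 1 := by rw [← hx]; exact pow_orderOf_eq_one x
    calc x ^ 9 = (x ^ 3) ^ 3 := by rw [← pow_mul]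
      _ = 1 := by rw [this, one_pow]
  obtain ⟨Q, hxQ⟩ := exists_sylow3_mem x hx9
  have hQM : (Q : Subgroup G) ≤ M := sylow3_le_centralizer h Q x hxQ
  have hQ9 := card_sylow3 h Q
  obtain ⟨k, hk1, hk2, hk3⟩ := exists_card_inf_normalizer' Q M hQM
  rw [hM] at hk2
  rw [hQ9] at hk3
  have hd18 : Nat.card ↥(normalizer ((Q : Subgroup G) : Set G) ⊓ M : Subgroup G) ∣ 18 := by
    rw [← card_normalizer3 h Q]
    exact Subgroup.card_dvd_of_le inf_le_left
  have hc9 : Nat.card ↥(normalizer ((Q : Subgroup G) : Set G) ⊓ M : Subgroup G) = 9 := by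
    obtain ⟨c, hc⟩ := hk3
    rw [hc] at hk2 hd18 ⊢
    have hck : c * k = 4 := by
      have : 9 * (c * k) = 36 := by rw [← mul_assoc]; exact hk2
      omega
    have hc2 : c ∣ 2 := Nat.dvd_of_mul_dvd_mul_left (by norm_num : 0 < 9) hd18
    have hcle : c ≤ 2 := Nat.le_of_dvd (by norm_num) hc2
    interval_cases c
    · omega
    · rfl
    · have : k = 2 := by omega
      rw [this] at hk1
      norm_num at hk1
  have hNM : normalizer ((Q : Subgroup G) : Set G) ⊓ M = (Q : Subgroup G) :=
    (Subgroup.eq_of_le_of_card_ge (le_inf le_normalizer hQM) (by rw [hc9, hQ9])).symm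
  -- transfer inside `M`
  set Q' : Sylow 3 ↥M := Q.subtype hQM with hQ'
  have hcomm := comm_sylow3 h Q
  have hle : normalizer ((Q' : Subgroup ↥M) : Set ↥M) ≤
      centralizer ((Q' : Subgroup ↥M) : Set ↥M) := by
    intro n hn
    rw [hQ', Sylow.coe_subtype, ← subgroupOf_normalizer_eq hQM, mem_subgroupOf] at hn
    have hnQ : (n : G) ∈ (Q : Subgroup G) := by
      rw [← hNM]
      exact ⟨hn, n.2⟩
    rw [mem_centralizer_iff]
    intro y hy
    rw [SetLike.mem_coe, hQ', Sylow.coe_subtype, mem_subgroupOf] at hy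
    apply Subtype.ext
    exact hcomm _ hy _ hnQ
  set K : Subgroup ↥M := (MonoidHom.transferSylow Q' hle).ker with hK
  have hcomp : IsComplement' K (Q' : Subgroup ↥M) :=
    MonoidHom.ker_transferSylow_isComplement' Q' hle
  have hKn : K.Normal := MonoidHom.normal_ker _
  have hQ'9 : Nat.card ↥(Q' : Subgroup ↥M) = 9 := by
    rw [hQ', Sylow.coe_subtype, card_subgroupOf_of_le hQM, hQ9]
  have hK4 : Nat.card ↥K = 4 := by
    have := hcomp.card_mul_card
    rw [hQ'9, hM] at this
    omega
  set V : Subgroup G := K.map M.subtype with hV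
  have hV4 : Nat.card ↥V = 4 := by rw [hV, Subgroup.card_subtype, hK4]
  have hMV : M ≤ normalizer (V : Set G) := le_normalizer_map_subtype_of_normal' M K hKn
  -- `V` lies in a Sylow 2-subgroup, which it is normal in
  have hVp : IsPGroup 2 ↥V := IsPGroup.of_card (n := 2) (by rw [hV4]; norm_num)
  obtain ⟨T, hVT⟩ := hVp.exists_le_sylow
  have hT8 := card_sylow2 h T
  have hlt : V < (T : Subgroup G) := by
    apply lt_of_le_of_ne hVT
    intro heq
    rw [heq, hT8] at hV4
    omega
  have h5 := card_lt_card_inf_normalizer (T : Subgroup G) V T.2 hlt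
  rw [hV4] at h5
  have h6 : Nat.card ↥((T : Subgroup G) ⊓ normalizer (V : Set G) : Subgroup G) ∣ 8 := by
    rw [← hT8]
    exact Subgroup.card_dvd_of_le inf_le_left
  have h7 : Nat.card ↥((T : Subgroup G) ⊓ normalizer (V : Set G) : Subgroup G) = 8 := by
    have h8 := Nat.le_of_dvd (by norm_num) h6
    generalize Nat.card ↥((T : Subgroup G) ⊓ normalizer (V : Set G) : Subgroup G) = c at *
    interval_cases c <;> omega
  have h8N : 8 ∣ Nat.card ↥(normalizer (V : Set G)) := by
    rw [← h7]
    exact Subgroup.card_dvd_of_le inf_le_right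
  have h36N : 36 ∣ Nat.card ↥(normalizer (V : Set G)) := by
    rw [← hM]
    exact Subgroup.card_dvd_of_le hMV
  have hN504 : Nat.card ↥(normalizer (V : Set G)) ∣ 504 := by
    rw [← h]
    exact Subgroup.card_subgroup_dvd_card _
  have hcases : ∀ d ∈ Nat.divisors 504, 8 ∣ d → 36 ∣ d → d = 72 ∨ d = 504 := by decide
  rcases hcases _ (Nat.mem_divisors.mpr ⟨hN504, by norm_num⟩) h8N h36N with h9 | h9
  · exact card_ne_72 h _ h9
  · have htop : normalizer (V : Set G) = ⊤ := by
      apply Subgroup.eq_top_of_card_eq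
      rw [h9, h]
    have hVn : V.Normal := normalizer_eq_top_iff.mp htop
    rcases hVn.eq_bot_or_eq_top with h10 | h10
    · rw [h10, Subgroup.card_bot] at hV4
      omega
    · rw [h10, Subgroup.card_top, h] at hV4
      omega

/-- The centralizer of an element of order `3` has order `9` or `18`. -/
theorem card_centralizer_three (h : Nat.card G = 504) (x : G) (hx : orderOf x = 3) :
    Nat.card ↥(centralizer ({x} : Set G)) = 9 ∨ Nat.card ↥(centralizer ({x} : Set G)) = 18 := by
  have hx9 : x ^ 9 = 1 := by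
    have : x ^ 3 = 1 := by rw [← hx]; exact pow_orderOf_eq_one x
    calc x ^ 9 = (x ^ 3) ^ 3 := by rw [← pow_mul]
      _ = 1 := by rw [this, one_pow]
  obtain ⟨Q, hxQ⟩ := exists_sylow3_mem x hx9
  have hQM := sylow3_le_centralizer h Q x hxQ
  have h9 : 9 ∣ Nat.card ↥(centralizer ({x} : Set G)) := by
    rw [← card_sylow3 h Q]
    exact Subgroup.card_dvd_of_le hQM
  have hx1 : x ≠ 1 := by
    intro h1
    rw [h1, orderOf_one] at hx
    omega
  have h7 := not_seven_dvd_centralizer h x hx1 (by rw [hx]; norm_num)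
  have h504 : Nat.card ↥(centralizer ({x} : Set G)) ∣ 504 := by
    rw [← h]
    exact Subgroup.card_subgroup_dvd_card _
  have hcases : ∀ d ∈ Nat.divisors 504, 9 ∣ d → ¬ 7 ∣ d → d = 9 ∨ d = 18 ∨ d = 36 ∨ d = 72 := by
    decide
  rcases hcases _ (Nat.mem_divisors.mpr ⟨h504, by norm_num⟩) h9 h7 with h1 | h1 | h1 | h1
  · exact Or.inl h1
  · exact Or.inr h1
  · exact absurd h1 (card_centralizer_three_ne_36 h x hx)
  · exact absurd h1 (card_ne_72 h _)

/-- A nontrivial `3`-element lies in a unique Sylow `3`-subgroup. -/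
theorem sylow3_unique (h : Nat.card G = 504) (P Q : Sylow 3 G) (g : G) (hg1 : g ≠ 1)
    (hP : g ∈ (P : Subgroup G)) (hQ : g ∈ (Q : Subgroup G)) : P = Q := by
  have := fact_three
  by_contra hne
  -- an element of order 3 in the intersection
  obtain ⟨x, hxP, hxQ, hx3⟩ : ∃ x : G, x ∈ (P : Subgroup G) ∧ x ∈ (Q : Subgroup G) ∧
      orderOf x = 3 := by
    have hd : orderOf g ∣ 3 ^ 2 := by
      have := Subgroup.orderOf_dvd_natCard (P : Subgroup G) hP
      rwa [card_sylow3 h P] at this
    obtain ⟨m, hm2, hm⟩ := (Nat.dvd_prime_pow Nat.prime_three).mp hd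
    interval_cases m
    · exfalso
      exact hg1 (orderOf_eq_one_iff.mp (by simpa using hm))
    · exact ⟨g, hP, hQ, by simpa using hm⟩
    · refine ⟨g ^ 3, Subgroup.pow_mem _ hP 3, Subgroup.pow_mem _ hQ 3, ?_⟩
      rw [orderOf_pow_of_dvd (by norm_num) (by rw [hm]; norm_num), hm]
      norm_num
  have h1 := card_ge_of_two_sylow_le P Q hne (centralizer ({x} : Set G))
    (sylow3_le_centralizer h P x hxP) (sylow3_le_centralizer h Q x hxQ)
  rw [card_sylow3 h P] at h1
  rcases card_centralizer_three h x hx3 with h2 | h2 <;> omega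

/-- There are `224` nontrivial `3`-elements. -/
theorem card_three_elements (h : Nat.card G = 504) :
    Nat.card {g : G // g ≠ 1 ∧ g ^ 9 = 1} = 224 := by
  classical
  have := fact_three
  let f : {g : G // g ≠ 1 ∧ g ^ 9 = 1} → Sylow 3 G := fun g =>
    Classical.choose (exists_sylow3_mem g.1 g.2.2)
  have hf : ∀ g : {g : G // g ≠ 1 ∧ g ^ 9 = 1}, g.1 ∈ ((f g : Sylow 3 G) : Subgroup G) :=
    fun g => Classical.choose_spec (exists_sylow3_mem g.1 g.2.2)
  have key : Nat.card {g : G // g ≠ 1 ∧ g ^ 9 = 1} = Nat.card (Sylow 3 G) * 8 := by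
    apply card_eq_mul_of_fibers f
    intro P
    have hc1 := card_subtype_ne (1 : ↥(P : Subgroup G))
    rw [card_sylow3 h P] at hc1
    have hc2 : Nat.card {x : ↥(P : Subgroup G) // x ≠ 1} = 8 := by rw [hc1]
    rw [← hc2]
    refine Nat.card_congr ⟨fun g => ⟨⟨g.1.1, ?_⟩, ?_⟩, fun x => ⟨⟨x.1.1, ?_, ?_⟩, ?_⟩, ?_, ?_⟩
    · have := hf g.1
      rw [g.2] at this
      exact this
    · intro h'
      exact g.1.2.1 (congrArg Subtype.val h')
    · intro h'
      exact x.2 (Subtype.ext h')
    · have hd := Subgroup.orderOf_dvd_natCard (P : Subgroup G) x.1.2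
      rw [card_sylow3 h P] at hd
      exact orderOf_dvd_iff_pow_eq_one.mp hd
    · apply sylow3_unique h _ P x.1.1
      · intro h'
        exact x.2 (Subtype.ext h')
      · exact hf _
      · exact x.1.2
    · intro g; rfl
    · intro x; rfl
  rw [key, card_sylow3_eq h]

/-- There are `216` elements of order `7`. -/
theorem card_seven_elements (h : Nat.card G = 504) :
    Nat.card {g : G // orderOf g = 7} = 216 := by
  have := fact_seven
  rw [card_orderOf_eq_prime (p := 7) (fun P => card_sylow7 h P), card_sylow7_eq h]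

end Cfsg.Agent.Lib.Helper49.O504
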