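import Mathlib
import Cfsg.Agent.Lib.Helper49.O504B
import Cfsg.Agent.Lib.Helper17.Counting
import Cfsg.Agent.Lib.Helper17.SylowConj

/-!
# Simple groups of order 504: involution centralizers are elementary abelian (helper49)
-/

set_option autoImplicit false

namespace Cfsg.Agent.Lib.Helper49.O504

open Cfsg.Agent.Lib.Helper17 Subgroup MulAction

/-- A group in which every element squares to `1` is commutative. -/
theorem comm_of_mul_self {H : Type*} [Group H] (hH : ∀ a : H, a * a = 1) (a b : H) :
    a * b = b * a := by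
  have h1 := hH (a * b)
  have ha := hH a
  have hb := hH b
  calc a * b = a * (a * b * (a * b)) * b := by rw [h1, mul_one]
    _ = (a * a) * (b * a) * (b * b) := by group
    _ = b * a := by rw [ha, hb, one_mul, mul_one]

variable {G : Type*} [Group G] [Finite G] [IsSimpleGroup G]

/-- The elements which are neither trivial, nor of order `7`, nor `3`-elements. -/
def IsR (g : G) : Prop := g ≠ 1 ∧ orderOf g ≠ 7 ∧ g ^ 9 ≠ 1

omit [Finite G] [IsSimpleGroup G] in
theorem isR_of_isConj {g x : G} (hg : IsR g) (hc : IsConj g x) : IsR x := by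
  obtain ⟨c, rfl⟩ := isConj_iff.mp hc
  refine ⟨?_, ?_, ?_⟩
  · intro h1
    apply hg.1
    have : g = c⁻¹ * (c * g * c⁻¹) * c := by group
    rw [this, h1]; group
  · rw [← MulAut.conj_apply, MulEquiv.orderOf_eq]; exact hg.2.1
  · rw [conj_pow]
    intro h1
    apply hg.2.2
    have : g ^ 9 = c⁻¹ * (c * g ^ 9 * c⁻¹) * c := by group
    rw [this, h1]; group

omit [Finite G] [IsSimpleGroup G] in
theorem isR_of_orderOf_two (t : G) (ht : orderOf t = 2) : IsR t := by
  refine ⟨?_, by rw [ht]; norm_num, ?_⟩
  · intro h1; rw [h1, orderOf_one] at ht; omega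
  · intro h9
    have := orderOf_dvd_iff_pow_eq_one.mpr h9
    rw [ht] at this; omega

/-- A set of `R`-elements has at most `63` elements. -/
theorem ncard_le_63 (h : Nat.card G = 504) (K : Set G) (hK : ∀ g ∈ K, IsR g) :
    K.ncard ≤ 63 := by
  set A : Set G := {g | orderOf g = 7} with hA
  set B : Set G := {g | g ≠ 1 ∧ g ^ 9 = 1} with hB
  have hAc : A.ncard = 216 := by
    rw [← Nat.card_coe_set_eq]; exact card_seven_elements h
  have hBc : B.ncard = 224 := by
    rw [← Nat.card_coe_set_eq]; exact card_three_elements h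
  have hd1 : Disjoint K {1} := by
    rw [Set.disjoint_left]
    intro g hg hg1
    exact (hK g hg).1 hg1
  have hd2 : Disjoint (K ∪ {1}) A := by
    rw [Set.disjoint_left]
    rintro g (hg | hg) hgA
    · exact (hK g hg).2.1 hgA
    · rw [Set.mem_singleton_iff] at hg
      subst hg
      have : orderOf (1 : G) = 7 := hgA
      rw [orderOf_one] at this
      omega
  have hd3 : Disjoint (K ∪ {1} ∪ A) B := by
    rw [Set.disjoint_left]
    rintro g ((hg | hg) | hg) hgB
    · exact (hK g hg).2.2 hgB.2
    · exact hgB.1 hg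
    · have h7 : orderOf g = 7 := hg
      have : orderOf g ∣ 9 := orderOf_dvd_iff_pow_eq_one.mpr hgB.2
      rw [h7] at this
      omega
  have e1 := Set.ncard_union_eq hd3 (Set.toFinite _) (Set.toFinite _)
  have e2 := Set.ncard_union_eq hd2 (Set.toFinite _) (Set.toFinite _)
  have e3 := Set.ncard_union_eq hd1 (Set.toFinite _) (Set.toFinite _)
  have e4 : (K ∪ {1} ∪ A ∪ B).ncard ≤ Nat.card G := by
    rw [← Set.ncard_univ]
    exact Set.ncard_le_ncard (Set.subset_univ _) (Set.toFinite _)
  rw [Set.ncard_singleton] at e3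
  omega

omit [IsSimpleGroup G] in
theorem card_centralizer_mul_card_isConj (h : Nat.card G = 504) (g : G) :
    Nat.card ↥(centralizer ({g} : Set G)) * Nat.card {x : G // IsConj g x} = 504 := by
  rw [← index_centralizer_eq_card_isConj, Subgroup.card_mul_index, h]

omit [Finite G] [IsSimpleGroup G] in
theorem centralizer_le_centralizer_pow (g : G) (m : ℕ) :
    centralizer ({g} : Set G) ≤ centralizer ({g ^ m} : Set G) := by
  intro c hc
  rw [mem_centralizer_iff] at hc ⊢
  intro y hy
  rw [Set.mem_singleton_iff] at hy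
  subst hy
  have : Commute g c := hc g rfl
  exact (this.pow_left m).eq

theorem card_centralizer_isR (h : Nat.card G = 504) (g : G) (hg : IsR g) :
    Nat.card ↥(centralizer ({g} : Set G)) ∣ 24 ∧ 8 ≤ Nat.card ↥(centralizer ({g} : Set G)) := by
  have h7 := not_seven_dvd_centralizer h g hg.1 hg.2.1
  have h9 := not_nine_dvd_centralizer h g hg.2.2
  have h504 : Nat.card ↥(centralizer ({g} : Set G)) ∣ 504 := by
    rw [← h]; exact card_subgroup_dvd_card _
  have hcases : ∀ d ∈ Nat.divisors 504, ¬ 7 ∣ d → ¬ 9 ∣ d → d ∣ 24 := by decide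
  have h24 := hcases _ (Nat.mem_divisors.mpr ⟨h504, by norm_num⟩) h7 h9
  refine ⟨h24, ?_⟩
  have hK : ({x | IsConj g x} : Set G).ncard ≤ 63 :=
    ncard_le_63 h _ (fun x hx => isR_of_isConj hg hx)
  rw [← Nat.card_coe_set_eq] at hK
  change Nat.card {x : G // IsConj g x} ≤ 63 at hK
  have hmul := card_centralizer_mul_card_isConj h g
  by_contra hlt
  push Not at hlt
  have := Nat.mul_le_mul (show Nat.card ↥(centralizer ({g} : Set G)) ≤ 7 by omega) hK
  omega

/-- `R`-elements have even order. -/
theorem even_orderOf_of_isR (h : Nat.card G = 504) (g : G) (hg : IsR g) : 2 ∣ orderOf g := by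
  have := fact_seven
  by_contra hodd
  have hd : orderOf g ∣ 504 := h ▸ orderOf_dvd_natCard g
  have hcases : ∀ d ∈ Nat.divisors 504, ¬ 2 ∣ d → d ∣ 63 := by decide
  have hd63 := hcases _ (Nat.mem_divisors.mpr ⟨hd, by norm_num⟩) hodd
  have h63 : g ^ 63 = 1 := orderOf_dvd_iff_pow_eq_one.mp hd63
  have hx7 : (g ^ 9) ^ 7 = 1 := by rw [← pow_mul]; exact h63
  have hxo : orderOf (g ^ 9) = 7 := orderOf_eq_prime hx7 hg.2.2
  have hc : g * g ^ 9 = g ^ 9 * g := by rw [← pow_succ', ← pow_succ]
  rcases orderOf_of_commute_seven h (g ^ 9) g hxo hc with h1 | h1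
  · exact hg.1 (orderOf_eq_one_iff.mp h1)
  · exact hg.2.1 h1

/-- There is no element of order `6`. -/
theorem no_order_six (h : Nat.card G = 504) (g : G) : orderOf g ≠ 6 := by
  intro hg
  have hR : IsR g := by
    refine ⟨?_, by rw [hg]; norm_num, ?_⟩
    · intro h1; rw [h1, orderOf_one] at hg; omega
    · intro h9
      have := orderOf_dvd_iff_pow_eq_one.mpr h9
      rw [hg] at this; omega
  obtain ⟨h24, h8⟩ := card_centralizer_isR h g hR
  have hx3 : orderOf (g ^ 2) = 3 := by
    rw [orderOf_pow_of_dvd (by norm_num) (by rw [hg]; norm_num), hg]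
  have hdvd := Subgroup.card_dvd_of_le (centralizer_le_centralizer_pow g 2)
  rcases card_centralizer_three h (g ^ 2) hx3 with h1 | h1
  · rw [h1] at hdvd
    have h3 : Nat.card ↥(centralizer ({g} : Set G)) ∣ 3 :=
      (by decide : Nat.gcd 24 9 = 3) ▸ Nat.dvd_gcd h24 hdvd
    have := Nat.le_of_dvd (by norm_num) h3
    omega
  · rw [h1] at hdvd
    have h3 : Nat.card ↥(centralizer ({g} : Set G)) ∣ 6 :=
      (by decide : Nat.gcd 24 18 = 6) ▸ Nat.dvd_gcd h24 hdvd
    have := Nat.le_of_dvd (by norm_num) h3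
    omega

theorem not_three_dvd_centralizer_invol (h : Nat.card G = 504) (t : G) (ht : orderOf t = 2) :
    ¬ 3 ∣ Nat.card ↥(centralizer ({t} : Set G)) := by
  have := fact_three
  intro hdvd
  obtain ⟨x, hx⟩ := exists_prime_orderOf_dvd_card' (G := ↥(centralizer ({t} : Set G))) 3 hdvd
  have hxo : orderOf (x : G) = 3 := by rw [Subgroup.orderOf_coe, hx]
  have hc : Commute t (x : G) := mem_centralizer_iff.mp x.2 t rfl
  have := hc.orderOf_mul_eq_mul_orderOf_of_coprime (by rw [ht, hxo]; norm_num)
  rw [ht, hxo] at this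
  exact no_order_six h _ this

theorem card_centralizer_of_isR (h : Nat.card G = 504) (g : G) (hg : IsR g) :
    Nat.card ↥(centralizer ({g} : Set G)) = 8 := by
  obtain ⟨h24, h8⟩ := card_centralizer_isR h g hg
  obtain ⟨m, hm⟩ := even_orderOf_of_isR h g hg
  have hpos : 0 < orderOf g := orderOf_pos g
  have hm0 : 0 < m := by
    rcases Nat.eq_zero_or_pos m with h0 | h0
    · rw [h0] at hm; omega
    · exact h0
  have hto : orderOf (g ^ m) = 2 := by
    rw [orderOf_pow_of_dvd (by omega) ⟨2, by rw [hm, mul_comm]⟩, hm]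
    exact Nat.mul_div_cancel 2 hm0
  have h3 := not_three_dvd_centralizer_invol h (g ^ m) hto
  have h3' : ¬ 3 ∣ Nat.card ↥(centralizer ({g} : Set G)) :=
    fun hd => h3 (dvd_trans hd (Subgroup.card_dvd_of_le (centralizer_le_centralizer_pow g m)))
  have hcases : ∀ d : ℕ, d ∣ 24 → ¬ 3 ∣ d → 8 ≤ d → d = 8 := by
    intro d hd h3d h8d
    have := Nat.le_of_dvd (by norm_num) hd
    interval_cases d <;> omega
  exact hcases _ h24 h3' h8

theorem card_isConj_of_isR (h : Nat.card G = 504) (g : G) (hg : IsR g) :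
    ({x | IsConj g x} : Set G).ncard = 63 := by
  rw [← Nat.card_coe_set_eq]
  change Nat.card {x : G // IsConj g x} = 63
  have := card_centralizer_mul_card_isConj h g
  rw [card_centralizer_of_isR h g hg] at this
  omega

/-- The `R`-elements form a single conjugacy class. -/
theorem isConj_of_isR (h : Nat.card G = 504) (g t : G) (hg : IsR g) (ht : IsR t) :
    IsConj g t := by
  by_contra hnc
  have hd : Disjoint ({x | IsConj g x} : Set G) {x | IsConj t x} := by
    rw [Set.disjoint_left]
    intro x hx1 hx2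
    exact hnc (IsConj.trans hx1 (IsConj.symm hx2))
  have hle := ncard_le_63 h (({x | IsConj g x} : Set G) ∪ {x | IsConj t x}) (by
    rintro x (hx | hx)
    · exact isR_of_isConj hg hx
    · exact isR_of_isConj ht hx)
  rw [Set.ncard_union_eq hd (Set.toFinite _) (Set.toFinite _), card_isConj_of_isR h g hg,
    card_isConj_of_isR h t ht] at hle
  omega

theorem mul_self_of_isR (h : Nat.card G = 504) (g : G) (hg : IsR g) : g * g = 1 := by
  have := fact_two
  obtain ⟨t, ht⟩ := exists_prime_orderOf_dvd_card' (G := G) 2 (by rw [h]; norm_num)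
  have htR : IsR t := isR_of_orderOf_two t ht
  have htt : t * t = 1 := by rw [← pow_two, ← ht]; exact pow_orderOf_eq_one t
  exact mul_self_eq_one_of_isConj (isConj_of_isR h t g htR hg) htt

/-- In a simple group of order `504`, the centralizer of an involution is an elementary abelian
`2`-group. -/
theorem centralizer_invol (h : Nat.card G = 504) (t : G) (ht : orderOf t = 2) :
    IsMulCommutative ↥(centralizer ({t} : Set G)) ∧
      ∀ c ∈ centralizer ({t} : Set G), c ^ 2 = 1 := by
  have hsq : ∀ c ∈ centralizer ({t} : Set G), c * c = 1 := by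
    intro c hc
    by_cases hc1 : c = 1
    · rw [hc1, mul_one]
    have hct : t * c = c * t := mem_centralizer_iff.mp hc t rfl
    by_cases hc7 : orderOf c = 7
    · exfalso
      rcases orderOf_of_commute_seven h c t hc7 hct with h1 | h1 <;> omega
    by_cases hc9 : c ^ 9 = 1
    · exfalso
      have h3 := not_three_dvd_centralizer_invol h t ht
      have hd1 : orderOf c ∣ 3 ^ 2 := orderOf_dvd_iff_pow_eq_one.mpr (by simpa using hc9)
      have hd2 : orderOf c ∣ Nat.card ↥(centralizer ({t} : Set G)) :=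
        Subgroup.orderOf_dvd_natCard _ hc
      obtain ⟨m, -, hm⟩ := (Nat.dvd_prime_pow Nat.prime_three).mp hd1
      rcases Nat.eq_zero_or_pos m with h0 | h0
      · rw [h0, pow_zero] at hm
        exact hc1 (orderOf_eq_one_iff.mp hm)
      · apply h3
        refine dvd_trans ?_ hd2
        rw [hm]
        exact dvd_pow_self 3 (by omega)
    · exact mul_self_of_isR h c ⟨hc1, hc7, hc9⟩
  refine ⟨⟨⟨fun a b => ?_⟩⟩, fun c hc => by rw [pow_two]; exact hsq c hc⟩
  exact comm_of_mul_self (fun a : ↥(centralizer ({t} : Set G)) =>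
    Subtype.ext (hsq a.1 a.2)) a b

end Cfsg.Agent.Lib.Helper49.O504
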