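import Mathlib
import Cfsg.Agent.Lib.Helper49.O504C

/-!
# Simple groups of order 360: Sylow numerics (helper49)
-/

set_option autoImplicit false

namespace Cfsg.Agent.Lib.Helper49.O360

open Cfsg.Agent.Lib.Helper17 Cfsg.Agent.Lib.Helper49.O504 Subgroup MulAction

variable {G : Type*} [Group G] [Finite G] [IsSimpleGroup G]

theorem not_comm (h : Nat.card G = 360) : ¬ IsMulCommutative G :=
  not_comm_of_simple_of_not_prime (by rw [h]; norm_num)

theorem fact_five : Fact (Nat.Prime 5) := ⟨by norm_num⟩

omit [IsSimpleGroup G] in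
theorem card_sylow5 (h : Nat.card G = 360) (P : Sylow 5 G) : Nat.card ↥(P : Subgroup G) = 5 := by
  have := fact_five
  have hG' : Nat.card G = 5 ^ 1 * 72 := by rw [h]; norm_num
  simpa using card_sylow_of_card_eq P hG' (by norm_num)

omit [IsSimpleGroup G] in
theorem card_sylow3 (h : Nat.card G = 360) (P : Sylow 3 G) : Nat.card ↥(P : Subgroup G) = 9 := by
  have := fact_three
  have hG' : Nat.card G = 3 ^ 2 * 40 := by rw [h]; norm_num
  simpa using card_sylow_of_card_eq P hG' (by norm_num)

omit [IsSimpleGroup G] in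
theorem card_sylow2 (h : Nat.card G = 360) (T : Sylow 2 G) : Nat.card ↥(T : Subgroup G) = 8 := by
  have := fact_two
  have hG' : Nat.card G = 2 ^ 3 * 45 := by rw [h]; norm_num
  simpa using card_sylow_of_card_eq T hG' (by norm_num)

omit [Finite G] [IsSimpleGroup G] in
theorem sylow_ne_bot_top {p n : ℕ} (h : Nat.card G = 360) (P : Sylow p G)
    (hP : Nat.card ↥(P : Subgroup G) = n) (h1 : 1 < n) (h2 : n < 360) :
    (P : Subgroup G) ≠ ⊥ ∧ (P : Subgroup G) ≠ ⊤ := by
  constructor
  · intro h'; rw [h', Subgroup.card_bot] at hP; omega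
  · intro h'; rw [h', Subgroup.card_top] at hP; omega

/-- A proper subgroup has index at least `6`. -/
theorem index_ge_six (h : Nat.card G = 360) (H : Subgroup G) (hH : H ≠ ⊤) : 6 ≤ H.index := by
  by_contra hlt
  push Not at hlt
  have h1 := card_dvd_factorial_of_simple H hH
  have h2 : (H.index).factorial ∣ (5 : ℕ).factorial := Nat.factorial_dvd_factorial (by omega)
  have h3 := dvd_trans h1 h2
  rw [h] at h3
  revert h3
  decide

/-- A proper subgroup has order at most `60`. -/
theorem card_le_sixty (h : Nat.card G = 360) (H : Subgroup G) (hH : H ≠ ⊤) :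
    Nat.card ↥H ≤ 60 := by
  have h1 := index_ge_six h H hH
  have h2 := H.card_mul_index
  rw [h] at h2
  nlinarith

theorem card_sylow5_cases (h : Nat.card G = 360) :
    Nat.card (Sylow 5 G) = 6 ∨ Nat.card (Sylow 5 G) = 36 := by
  have := fact_five
  have hG' : Nat.card G = 5 ^ 1 * 72 := by rw [h]; norm_num
  obtain ⟨P⟩ : Nonempty (Sylow 5 G) := inferInstance
  have hP := card_sylow5 h P
  have hdvd : Nat.card (Sylow 5 G) ∣ 72 := card_sylow_dvd_of_card_eq hG' (by norm_num)
  have hmod : Nat.card (Sylow 5 G) % 5 = 1 := card_sylow_modEq_one 5 G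
  have hcases : ∀ d ∈ Nat.divisors 72, d % 5 = 1 → d = 1 ∨ d = 6 ∨ d = 36 := by decide
  obtain ⟨hne1, hne2⟩ := sylow_ne_bot_top h P hP (by norm_num) (by norm_num)
  have hlt := one_lt_card_sylow_of_simple P hne1 hne2
  rcases hcases _ (Nat.mem_divisors.mpr ⟨hdvd, by norm_num⟩) hmod with h1 | h1 | h1
  · omega
  · exact Or.inl h1
  · exact Or.inr h1

theorem card_normalizer5 (h : Nat.card G = 360) (h5 : Nat.card (Sylow 5 G) = 36)
    (P : Sylow 5 G) : Nat.card ↥(normalizer ((P : Subgroup G) : Set G)) = 10 := by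
  have := fact_five
  have := card_normalizer_mul_card_sylow P
  rw [h5, h] at this
  omega

theorem centralizer5 (h : Nat.card G = 360) (h5 : Nat.card (Sylow 5 G) = 36) (P : Sylow 5 G) :
    centralizer ((P : Subgroup G) : Set G) = (P : Subgroup G) := by
  have := fact_five
  exact centralizer_sylow_eq_of_card_normalizer Nat.prime_two P (card_sylow5 h P)
    (by rw [h]; norm_num) (card_normalizer5 h h5 P)

omit [IsSimpleGroup G] in
theorem fac5 (h : Nat.card G = 360) : 5 ^ (Nat.card G).factorization 5 = 5 := by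
  have := fact_five
  obtain ⟨P₀⟩ : Nonempty (Sylow 5 G) := inferInstance
  rw [← P₀.card_eq_multiplicity, card_sylow5 h P₀]

omit [IsSimpleGroup G] in
theorem fac3 (h : Nat.card G = 360) : 3 ^ (Nat.card G).factorization 3 = 9 := by
  have := fact_three
  obtain ⟨P₀⟩ : Nonempty (Sylow 3 G) := inferInstance
  rw [← P₀.card_eq_multiplicity, card_sylow3 h P₀]

/-- Elements of order `5` are self-centralizing. -/
theorem centralizer_of_orderOf_five (h : Nat.card G = 360) (h5 : Nat.card (Sylow 5 G) = 36)
    (x : G) (hx : orderOf x = 5) : centralizer ({x} : Set G) = zpowers x := by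
  have := fact_five
  have hcard : Nat.card ↥(zpowers x) = 5 := by rw [Nat.card_zpowers, hx]
  set S : Sylow 5 G := Sylow.ofCard (zpowers x) (by rw [hcard, fac5 h]) with hS
  have hSz : (S : Subgroup G) = zpowers x := rfl
  have hC := centralizer5 h h5 S
  rw [hSz] at hC
  ext g
  rw [← mem_centralizer_zpowers_iff, hC]

/-- An element commuting with an element of order `5` is a power of it. -/
theorem orderOf_of_commute_five (h : Nat.card G = 360) (h5 : Nat.card (Sylow 5 G) = 36)
    (x g : G) (hx : orderOf x = 5) (hc : g * x = x * g) : orderOf g = 1 ∨ orderOf g = 5 := by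
  have hmem : g ∈ centralizer ({x} : Set G) := by
    rw [mem_centralizer_iff]
    intro y hy
    rw [Set.mem_singleton_iff] at hy
    subst hy
    exact hc.symm
  rw [centralizer_of_orderOf_five h h5 x hx] at hmem
  have hdvd : orderOf g ∣ 5 := by
    have h1 := Subgroup.orderOf_dvd_natCard (zpowers x) hmem
    rwa [Nat.card_zpowers, hx] at h1
  exact (Nat.dvd_prime (by norm_num)).mp hdvd

theorem card_sylow3_eq (h : Nat.card G = 360) : Nat.card (Sylow 3 G) = 10 := by
  have := fact_three
  have hG' : Nat.card G = 3 ^ 2 * 40 := by rw [h]; norm_num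
  obtain ⟨P⟩ : Nonempty (Sylow 3 G) := inferInstance
  have hP := card_sylow3 h P
  have hdvd : Nat.card (Sylow 3 G) ∣ 40 := card_sylow_dvd_of_card_eq hG' (by norm_num)
  have hmod : Nat.card (Sylow 3 G) % 3 = 1 := card_sylow_modEq_one 3 G
  have hcases : ∀ d ∈ Nat.divisors 40, d % 3 = 1 → d = 1 ∨ d = 4 ∨ d = 10 ∨ d = 40 := by decide
  obtain ⟨hne1, hne2⟩ := sylow_ne_bot_top h P hP (by norm_num) (by norm_num)
  have hlt := one_lt_card_sylow_of_simple P hne1 hne2
  rcases hcases _ (Nat.mem_divisors.mpr ⟨hdvd, by norm_num⟩) hmod with h1 | h1 | h1 | h1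
  · omega
  · exfalso
    have := card_dvd_factorial_card_sylow (G := G) (p := 3) hlt
    rw [h1, h] at this
    revert this; decide
  · exact h1
  · exfalso
    have hN : Nat.card ↥(normalizer ((P : Subgroup G) : Set G)) = 9 := by
      have := card_normalizer_mul_card_sylow P
      rw [h1, h] at this
      omega
    have hNP : normalizer ((P : Subgroup G) : Set G) = (P : Subgroup G) :=
      (Subgroup.eq_of_le_of_card_ge le_normalizer (by rw [hP, hN])).symm
    have hcomm : ∀ a ∈ (P : Subgroup G), ∀ b ∈ (P : Subgroup G), a * b = b * a :=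
      comm_of_card_prime_pow_le_two (p := 3) (e := 2) le_rfl (P : Subgroup G)
        (by rw [hP]; norm_num)
    apply not_normalizer_le_centralizer_of_simple P hne1 hne2
    rw [hNP]
    intro a ha
    rw [mem_centralizer_iff]
    intro b hb
    exact hcomm b hb a ha

theorem card_normalizer3 (h : Nat.card G = 360) (P : Sylow 3 G) :
    Nat.card ↥(normalizer ((P : Subgroup G) : Set G)) = 36 := by
  have := fact_three
  have := card_normalizer_mul_card_sylow P
  rw [card_sylow3_eq h, h] at this
  omega

omit [IsSimpleGroup G] in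
theorem comm_sylow3 (h : Nat.card G = 360) (P : Sylow 3 G) :
    ∀ a ∈ (P : Subgroup G), ∀ b ∈ (P : Subgroup G), a * b = b * a := by
  have := fact_three
  exact comm_of_card_prime_pow_le_two (p := 3) (e := 2) le_rfl (P : Subgroup G)
    (by rw [card_sylow3 h P]; norm_num)

omit [IsSimpleGroup G] in
theorem sylow3_le_centralizer (h : Nat.card G = 360) (P : Sylow 3 G) (x : G)
    (hx : x ∈ (P : Subgroup G)) : (P : Subgroup G) ≤ centralizer ({x} : Set G) := by
  intro y hy
  rw [mem_centralizer_iff]
  intro z hz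
  rw [Set.mem_singleton_iff] at hz
  subst hz
  exact comm_sylow3 h P z hx y hy

end Cfsg.Agent.Lib.Helper49.O360
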