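import Mathlib
import Cfsg.Agent.Lib.Helper49.O360A

/-!
# Simple groups of order 360 with 36 Sylow 5-subgroups: elements of order 3 (helper49)

The Sylow `3`-subgroups are disjoint and self-centralizing (`C(x) = P` for `1 ≠ x ∈ P`).
-/

set_option autoImplicit false

namespace Cfsg.Agent.Lib.Helper49.O360

open Cfsg.Agent.Lib.Helper17 Cfsg.Agent.Lib.Helper49.O504 Subgroup MulAction

variable {G : Type*} [Group G] [Finite G] [IsSimpleGroup G]

theorem centralizer_ne_top (h : Nat.card G = 360) (x : G) (hx : x ≠ 1) :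
    centralizer ({x} : Set G) ≠ ⊤ := by
  intro htop
  have hxc : x ∈ center G := by
    rw [mem_center_iff]
    intro g
    have hg : g ∈ centralizer ({x} : Set G) := by rw [htop]; trivial
    exact (mem_centralizer_iff.mp hg x rfl).symm
  have hn : (center G).Normal := inferInstance
  rcases hn.eq_bot_or_eq_top with h1 | h1
  · rw [h1, mem_bot] at hxc
    exact hx hxc
  · apply not_comm h
    refine ⟨⟨fun a b => ?_⟩⟩
    have ha : a ∈ center G := by rw [h1]; trivial
    exact ((mem_center_iff.mp ha) b).symm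

omit [Finite G] [IsSimpleGroup G] in
/-- A `3`-element normalizing a Sylow `3`-subgroup lies in it. -/
theorem mem_sylow3_of_mem_normalizer (g : G) (hg : g ^ 9 = 1) (Q : Sylow 3 G)
    (hgQ : g ∈ normalizer ((Q : Subgroup G) : Set G)) : g ∈ (Q : Subgroup G) := by
  have := fact_three
  have hdvd : orderOf g ∣ 3 ^ 2 := orderOf_dvd_iff_pow_eq_one.mpr (by simpa using hg)
  obtain ⟨m, -, hm⟩ := (Nat.dvd_prime_pow Nat.prime_three).mp hdvd
  have hp : IsPGroup 3 ↥(zpowers g) := IsPGroup.of_card (n := m) (by rw [Nat.card_zpowers, hm])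
  have h1 := hp.inf_normalizer_sylow Q
  have h2 : g ∈ zpowers g ⊓ (Q : Subgroup G) := by
    rw [← h1]
    exact ⟨mem_zpowers g, hgQ⟩
  exact h2.2

theorem card_centralizer_three_cases (h : Nat.card G = 360) (h5 : Nat.card (Sylow 5 G) = 36)
    (x : G) (hx : orderOf x = 3) :
    Nat.card ↥(centralizer ({x} : Set G)) = 9 ∨ Nat.card ↥(centralizer ({x} : Set G)) = 18 ∨
      Nat.card ↥(centralizer ({x} : Set G)) = 36 := by
  have := fact_five
  have hx9 : x ^ 9 = 1 := by
    have : x ^ 3 = 1 := by rw [← hx]; exact pow_orderOf_eq_one x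
    calc x ^ 9 = (x ^ 3) ^ 3 := by rw [← pow_mul]
      _ = 1 := by rw [this, one_pow]
  obtain ⟨Q, hxQ⟩ := exists_sylow3_mem x hx9
  have hQM := sylow3_le_centralizer h Q x hxQ
  have h9 : 9 ∣ Nat.card ↥(centralizer ({x} : Set G)) := by
    rw [← card_sylow3 h Q]
    exact Subgroup.card_dvd_of_le hQM
  have hx1 : x ≠ 1 := by
    intro h1
    rw [h1, orderOf_one] at hx
    omega
  have h60 := card_le_sixty h _ (centralizer_ne_top h x hx1)
  have h360 : Nat.card ↥(centralizer ({x} : Set G)) ∣ 360 := by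
    rw [← h]
    exact Subgroup.card_subgroup_dvd_card _
  have hn5 : ¬ 5 ∣ Nat.card ↥(centralizer ({x} : Set G)) := by
    intro hdvd
    obtain ⟨y, hy⟩ := exists_prime_orderOf_dvd_card' (G := ↥(centralizer ({x} : Set G))) 5 hdvd
    have hyo : orderOf (y : G) = 5 := by rw [Subgroup.orderOf_coe, hy]
    have hc : x * (y : G) = (y : G) * x := mem_centralizer_iff.mp y.2 x rfl
    rcases orderOf_of_commute_five h h5 (y : G) x hyo hc with h1 | h1 <;> omega
  have hcases : ∀ d ∈ Nat.divisors 360, 9 ∣ d → ¬ 5 ∣ d → d ≤ 60 → d = 9 ∨ d = 18 ∨ d = 36 := by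
    decide
  exact hcases _ (Nat.mem_divisors.mpr ⟨h360, by norm_num⟩) h9 hn5 h60

omit [Finite G] [IsSimpleGroup G] in
theorem pow_nine_of_orderOf_three (x : G) (hx : orderOf x = 3) : x ^ 9 = 1 := by
  have : x ^ 3 = 1 := by rw [← hx]; exact pow_orderOf_eq_one x
  calc x ^ 9 = (x ^ 3) ^ 3 := by rw [← pow_mul]
    _ = 1 := by rw [this, one_pow]

/-- No involution commutes with an element of order `3` lying in a unique Sylow `3`-subgroup. -/
theorem no_invol_commute (h : Nat.card G = 360) (x : G) (hx : orderOf x = 3) (Q : Sylow 3 G)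
    (hxQ : x ∈ (Q : Subgroup G)) (huniq : ∀ Q' : Sylow 3 G, x ∈ (Q' : Subgroup G) → Q' = Q)
    (t : G) (ht : orderOf t = 2) (hc : x * t = t * x) : False := by
  have := fact_three
  have hnc := not_comm h
  have htt : t * t = 1 := by rw [← pow_two, ← ht]; exact pow_orderOf_eq_one t
  have hx9 := pow_nine_of_orderOf_three x hx
  have htQ : t • Q = Q := by
    apply huniq
    rw [mem_smul_sylow_iff]
    have : t⁻¹ * x * t = x := by rw [mul_assoc, hc, ← mul_assoc, inv_mul_cancel, one_mul]
    rw [this]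
    exact hxQ
  have hA : IsPGroup 3 ↥(zpowers x) :=
    IsPGroup.of_card (n := 1) (by rw [Nat.card_zpowers, hx, pow_one])
  have hAt : ∀ a ∈ zpowers x, a * t = t * a := by
    intro a ha
    obtain ⟨n, rfl⟩ := mem_zpowers_iff.mp ha
    have hcm : Commute x t := hc
    exact (hcm.zpow_left n).eq
  have hF := card_fixedBy_modEq_card_inter (X := Sylow 3 G) (zpowers x) hA t hAt
  have hset : (fixedBy (Sylow 3 G) t ∩ fixedPoints (zpowers x) (Sylow 3 G) :
      Set (Sylow 3 G)) = {Q} := by
    ext Q'
    constructor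
    · rintro ⟨-, h2⟩
      rw [Set.mem_singleton_iff]
      apply huniq
      have h3 : (⟨x, mem_zpowers x⟩ : ↥(zpowers x)) • Q' = Q' := h2 ⟨x, mem_zpowers x⟩
      have h4 : x • Q' = Q' := h3
      exact mem_sylow3_of_mem_normalizer x hx9 Q' (Sylow.smul_eq_iff_mem_normalizer.mp h4)
    · intro hQ'
      rw [Set.mem_singleton_iff] at hQ'
      subst hQ'
      refine ⟨htQ, ?_⟩
      intro a
      have ha : (a : G) ∈ (Q' : Subgroup G) := (zpowers_le.mpr hxQ) a.2
      show (a : G) • Q' = Q'
      exact Sylow.smul_eq_iff_mem_normalizer.mpr (le_normalizer ha)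
  rw [hset] at hF
  have h1 : Nat.card ↥({Q} : Set (Sylow 3 G)) = 1 := by
    rw [Nat.card_coe_set_eq, Set.ncard_singleton]
  rw [h1] at hF
  have hS := card_fixedBy_modEq_four (X := Sylow 3 G) hnc t htt
  rw [card_sylow3_eq h] at hS
  have hle : Nat.card (fixedBy (Sylow 3 G) t) ≤ 10 := by
    rw [← card_sylow3_eq h]
    exact Nat.card_le_card_of_injective _ Subtype.val_injective
  have hall : Nat.card (fixedBy (Sylow 3 G) t) = 10 := by
    rw [Nat.ModEq] at hF hS
    generalize Nat.card (fixedBy (Sylow 3 G) t) = c at *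
    interval_cases c <;> omega
  have huniv : fixedBy (Sylow 3 G) t = Set.univ := by
    rw [Set.eq_univ_iff_ncard, ← Nat.card_coe_set_eq, hall, card_sylow3_eq h]
  have ht1 : t = 1 := by
    apply eq_one_of_forall_smul_eq (X := Sylow 3 G)
      (exists_smul_ne_sylow (by rw [card_sylow3_eq h]; norm_num))
    intro Q'
    have : Q' ∈ fixedBy (Sylow 3 G) t := by rw [huniv]; trivial
    exact this
  rw [ht1, orderOf_one] at ht
  omega

/-- The centralizer of an element of order `3` does not have order `36`. -/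
theorem card_centralizer_three_ne_36 (h : Nat.card G = 360) (x : G) (hx : orderOf x = 3) :
    Nat.card ↥(centralizer ({x} : Set G)) ≠ 36 := by
  have := fact_three
  have := fact_two
  intro hM
  set M : Subgroup G := centralizer ({x} : Set G) with hMdef
  have hx9 := pow_nine_of_orderOf_three x hx
  obtain ⟨Q, hxQ⟩ := exists_sylow3_mem x hx9
  have hQM : (Q : Subgroup G) ≤ M := sylow3_le_centralizer h Q x hxQ
  have hQ9 := card_sylow3 h Q
  obtain ⟨k, hk1, hk2, hk3⟩ := exists_card_inf_normalizer' Q M hQM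
  rw [hM] at hk2
  rw [hQ9] at hk3
  have hck : Nat.card ↥(normalizer ((Q : Subgroup G) : Set G) ⊓ M : Subgroup G) = 9 ∨
      Nat.card ↥(normalizer ((Q : Subgroup G) : Set G) ⊓ M : Subgroup G) = 36 := by
    obtain ⟨c, hc⟩ := hk3
    rw [hc] at hk2 ⊢
    have hck : c * k = 4 := by
      have : 9 * (c * k) = 36 := by rw [← mul_assoc]; exact hk2
      omega
    have hc4 : c ∣ 4 := ⟨k, hck.symm⟩
    have hcle : c ≤ 4 := Nat.le_of_dvd (by norm_num) hc4
    interval_cases c
    · omega
    · left; rfl
    · exfalso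
      have : k = 2 := by omega
      rw [this] at hk1
      norm_num at hk1
    · omega
    · right; rfl
  rcases hck with hc9 | hc36
  · have hNM : normalizer ((Q : Subgroup G) : Set G) ⊓ M = (Q : Subgroup G) :=
      (Subgroup.eq_of_le_of_card_ge (le_inf le_normalizer hQM) (by rw [hc9, hQ9])).symm
    -- transfer inside `M`
    set Q' : Sylow 3 ↥M := Q.subtype hQM with hQ'
    have hcomm := comm_sylow3 h Q
    have hle : normalizer ((Q' : Subgroup ↥M) : Set ↥M) ≤
        centralizer ((Q' : Subgroup ↥M) : Set ↥M) := by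
      intro n hn
      rw [hQ', Sylow.coe_subtype, ← subgroupOf_normalizer_eq hQM, mem_subgroupOf] at hn
      have hnQ : (n : G) ∈ (Q : Subgroup G) := by
        rw [← hNM]
        exact ⟨hn, n.2⟩
      rw [mem_centralizer_iff]
      intro y hy
      rw [SetLike.mem_coe, hQ', Sylow.coe_subtype, mem_subgroupOf] at hy
      apply Subtype.ext
      exact hcomm _ hy _ hnQ
    set K : Subgroup ↥M := (MonoidHom.transferSylow Q' hle).ker with hK
    have hcomp : IsComplement' K (Q' : Subgroup ↥M) :=
      MonoidHom.ker_transferSylow_isComplement' Q' hle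
    have hKn : K.Normal := MonoidHom.normal_ker _
    have hQ'9 : Nat.card ↥(Q' : Subgroup ↥M) = 9 := by
      rw [hQ', Sylow.coe_subtype, card_subgroupOf_of_le hQM, hQ9]
    have hK4 : Nat.card ↥K = 4 := by
      have := hcomp.card_mul_card
      rw [hQ'9, hM] at this
      omega
    set V : Subgroup G := K.map M.subtype with hV
    have hV4 : Nat.card ↥V = 4 := by rw [hV, Subgroup.card_subtype, hK4]
    have hMV : M ≤ normalizer (V : Set G) := le_normalizer_map_subtype_of_normal' M K hKn
    have hVp : IsPGroup 2 ↥V := IsPGroup.of_card (n := 2) (by rw [hV4]; norm_num)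
    obtain ⟨T, hVT⟩ := hVp.exists_le_sylow
    have hT8 := card_sylow2 h T
    have hlt : V < (T : Subgroup G) := by
      apply lt_of_le_of_ne hVT
      intro heq
      rw [heq, hT8] at hV4
      omega
    have h5 := card_lt_card_inf_normalizer (T : Subgroup G) V T.2 hlt
    rw [hV4] at h5
    have h6 : Nat.card ↥((T : Subgroup G) ⊓ normalizer (V : Set G) : Subgroup G) ∣ 8 := by
      rw [← hT8]
      exact Subgroup.card_dvd_of_le inf_le_left
    have h7 : Nat.card ↥((T : Subgroup G) ⊓ normalizer (V : Set G) : Subgroup G) = 8 := by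
      have h8 := Nat.le_of_dvd (by norm_num) h6
      generalize Nat.card ↥((T : Subgroup G) ⊓ normalizer (V : Set G) : Subgroup G) = c at *
      interval_cases c <;> omega
    have h8N : 8 ∣ Nat.card ↥(normalizer (V : Set G)) := by
      rw [← h7]
      exact Subgroup.card_dvd_of_le inf_le_right
    have h36N : 36 ∣ Nat.card ↥(normalizer (V : Set G)) := by
      rw [← hM]
      exact Subgroup.card_dvd_of_le hMV
    have hN360 : Nat.card ↥(normalizer (V : Set G)) ∣ 360 := by
      rw [← h]
      exact Subgroup.card_subgroup_dvd_card _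
    have hcases : ∀ d ∈ Nat.divisors 360, 8 ∣ d → 36 ∣ d → 72 ≤ d := by decide
    have h72 := hcases _ (Nat.mem_divisors.mpr ⟨hN360, by norm_num⟩) h8N h36N
    have htop : normalizer (V : Set G) = ⊤ := by
      by_contra hne
      have := card_le_sixty h _ hne
      omega
    have hVn : V.Normal := normalizer_eq_top_iff.mp htop
    rcases hVn.eq_bot_or_eq_top with h10 | h10
    · rw [h10, Subgroup.card_bot] at hV4
      omega
    · rw [h10, Subgroup.card_top, h] at hV4
      omega
  · -- `M ≤ N(Q)`: `Q` is the only Sylow 3-subgroup containing `x`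
    have hMN : M ≤ normalizer ((Q : Subgroup G) : Set G) := by
      have : normalizer ((Q : Subgroup G) : Set G) ⊓ M = M :=
        Subgroup.eq_of_le_of_card_ge inf_le_right (by rw [hc36, hM])
      rw [← this]
      exact inf_le_left
    have huniq : ∀ Q' : Sylow 3 G, x ∈ (Q' : Subgroup G) → Q' = Q := by
      intro Q' hxQ'
      have hQ'M : (Q' : Subgroup G) ≤ M := sylow3_le_centralizer h Q' x hxQ'
      have hle : (Q' : Subgroup G) ≤ (Q : Subgroup G) := by
        intro y hy
        have hy9 : y ^ 9 = 1 := by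
          have hd := Subgroup.orderOf_dvd_natCard (Q' : Subgroup G) hy
          rw [card_sylow3 h Q'] at hd
          exact orderOf_dvd_iff_pow_eq_one.mp hd
        exact mem_sylow3_of_mem_normalizer y hy9 Q (hMN (hQ'M hy))
      apply Sylow.ext
      exact Subgroup.eq_of_le_of_card_ge hle (by rw [card_sylow3 h Q', hQ9])
    obtain ⟨t, ht⟩ := exists_prime_orderOf_dvd_card' (G := ↥M) 2 (by rw [hM]; norm_num)
    have hto : orderOf (t : G) = 2 := by rw [Subgroup.orderOf_coe, ht]
    exact no_invol_commute h x hx Q hxQ huniq (t : G) hto (mem_centralizer_iff.mp t.2 x rfl)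

/-- A nontrivial `3`-element lies in a unique Sylow `3`-subgroup. -/
theorem sylow3_unique (h : Nat.card G = 360) (h5 : Nat.card (Sylow 5 G) = 36) (P Q : Sylow 3 G)
    (g : G) (hg1 : g ≠ 1) (hP : g ∈ (P : Subgroup G)) (hQ : g ∈ (Q : Subgroup G)) : P = Q := by
  have := fact_three
  by_contra hne
  obtain ⟨x, hxP, hxQ, hx3⟩ : ∃ x : G, x ∈ (P : Subgroup G) ∧ x ∈ (Q : Subgroup G) ∧
      orderOf x = 3 := by
    have hd : orderOf g ∣ 3 ^ 2 := by
      have := Subgroup.orderOf_dvd_natCard (P : Subgroup G) hP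
      rwa [card_sylow3 h P] at this
    obtain ⟨m, hm2, hm⟩ := (Nat.dvd_prime_pow Nat.prime_three).mp hd
    interval_cases m
    · exfalso
      exact hg1 (orderOf_eq_one_iff.mp (by simpa using hm))
    · exact ⟨g, hP, hQ, by simpa using hm⟩
    · refine ⟨g ^ 3, Subgroup.pow_mem _ hP 3, Subgroup.pow_mem _ hQ 3, ?_⟩
      rw [orderOf_pow_of_dvd (by norm_num) (by rw [hm]; norm_num), hm]
      norm_num
  have h1 := card_ge_of_two_sylow_le P Q hne (centralizer ({x} : Set G))
    (sylow3_le_centralizer h P x hxP) (sylow3_le_centralizer h Q x hxQ)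
  rw [card_sylow3 h P] at h1
  have h36 := card_centralizer_three_ne_36 h x hx3
  rcases card_centralizer_three_cases h h5 x hx3 with h2 | h2 | h2 <;> omega

/-- The centralizer of an element of order `3` has order `9`. -/
theorem card_centralizer_three (h : Nat.card G = 360) (h5 : Nat.card (Sylow 5 G) = 36)
    (x : G) (hx : orderOf x = 3) : Nat.card ↥(centralizer ({x} : Set G)) = 9 := by
  have := fact_two
  have h36 := card_centralizer_three_ne_36 h x hx
  rcases card_centralizer_three_cases h h5 x hx with h2 | h2 | h2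
  · exact h2
  · exfalso
    have hx9 := pow_nine_of_orderOf_three x hx
    obtain ⟨Q, hxQ⟩ := exists_sylow3_mem x hx9
    have hx1 : x ≠ 1 := by
      intro h1
      rw [h1, orderOf_one] at hx
      omega
    obtain ⟨t, ht⟩ := exists_prime_orderOf_dvd_card' (G := ↥(centralizer ({x} : Set G))) 2
      (by rw [h2]; norm_num)
    have hto : orderOf (t : G) = 2 := by rw [Subgroup.orderOf_coe, ht]
    exact no_invol_commute h x hx Q hxQ
      (fun Q' hxQ' => sylow3_unique h h5 Q' Q x hx1 hxQ' hxQ) (t : G) hto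
      (mem_centralizer_iff.mp t.2 x rfl)
  · exact absurd h2 h36

/-- The centralizer of a nontrivial element of a Sylow `3`-subgroup `P` lies in `P`. -/
theorem centralizer_le_sylow3 (h : Nat.card G = 360) (h5 : Nat.card (Sylow 5 G) = 36)
    (P : Sylow 3 G) (g : G) (hg1 : g ≠ 1) (hP : g ∈ (P : Subgroup G)) :
    centralizer ({g} : Set G) ≤ (P : Subgroup G) := by
  have := fact_three
  obtain ⟨m, x, hxP, hx3, hxg⟩ : ∃ (m : ℕ) (x : G), x ∈ (P : Subgroup G) ∧ orderOf x = 3 ∧
      x = g ^ m := by
    have hd : orderOf g ∣ 3 ^ 2 := by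
      have := Subgroup.orderOf_dvd_natCard (P : Subgroup G) hP
      rwa [card_sylow3 h P] at this
    obtain ⟨m, hm2, hm⟩ := (Nat.dvd_prime_pow Nat.prime_three).mp hd
    interval_cases m
    · exfalso
      exact hg1 (orderOf_eq_one_iff.mp (by simpa using hm))
    · exact ⟨1, g, hP, by simpa using hm, (pow_one g).symm⟩
    · refine ⟨3, g ^ 3, Subgroup.pow_mem _ hP 3, ?_, rfl⟩
      rw [orderOf_pow_of_dvd (by norm_num) (by rw [hm]; norm_num), hm]
      norm_num
  have hC : centralizer ({x} : Set G) = (P : Subgroup G) :=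
    (Subgroup.eq_of_le_of_card_ge (sylow3_le_centralizer h P x hxP)
      (by rw [card_centralizer_three h h5 x hx3, card_sylow3 h P])).symm
  rw [← hC, hxg]
  exact centralizer_le_centralizer_pow g m

/-- There are `80` nontrivial `3`-elements. -/
theorem card_three_elements (h : Nat.card G = 360) (h5 : Nat.card (Sylow 5 G) = 36) :
    Nat.card {g : G // g ≠ 1 ∧ g ^ 9 = 1} = 80 := by
  classical
  have := fact_three
  let f : {g : G // g ≠ 1 ∧ g ^ 9 = 1} → Sylow 3 G := fun g =>
    Classical.choose (exists_sylow3_mem g.1 g.2.2)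
  have hf : ∀ g : {g : G // g ≠ 1 ∧ g ^ 9 = 1}, g.1 ∈ ((f g : Sylow 3 G) : Subgroup G) :=
    fun g => Classical.choose_spec (exists_sylow3_mem g.1 g.2.2)
  have key : Nat.card {g : G // g ≠ 1 ∧ g ^ 9 = 1} = Nat.card (Sylow 3 G) * 8 := by
    apply card_eq_mul_of_fibers f
    intro P
    have hc1 := card_subtype_ne (1 : ↥(P : Subgroup G))
    rw [card_sylow3 h P] at hc1
    have hc2 : Nat.card {x : ↥(P : Subgroup G) // x ≠ 1} = 8 := by rw [hc1]
    rw [← hc2]
    refine Nat.card_congr ⟨fun g => ⟨⟨g.1.1, ?_⟩, ?_⟩, fun x => ⟨⟨x.1.1, ?_, ?_⟩, ?_⟩, ?_, ?_⟩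
    · have := hf g.1
      rw [g.2] at this
      exact this
    · intro h'
      exact g.1.2.1 (congrArg Subtype.val h')
    · intro h'
      exact x.2 (Subtype.ext h')
    · have hd := Subgroup.orderOf_dvd_natCard (P : Subgroup G) x.1.2
      rw [card_sylow3 h P] at hd
      exact orderOf_dvd_iff_pow_eq_one.mp hd
    · apply sylow3_unique h h5 _ P x.1.1
      · intro h'
        exact x.2 (Subtype.ext h')
      · exact hf _
      · exact x.1.2
    · intro g; rfl
    · intro x; rfl
  rw [key, card_sylow3_eq h]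

/-- There are `144` elements of order `5`. -/
theorem card_five_elements (h : Nat.card G = 360) (h5 : Nat.card (Sylow 5 G) = 36) :
    Nat.card {g : G // orderOf g = 5} = 144 := by
  have := fact_five
  rw [card_orderOf_eq_prime (p := 5) (fun P => card_sylow5 h P), h5]

end Cfsg.Agent.Lib.Helper49.O360
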