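import Mathlib
import Cfsg.Agent.Lib.Helper49.O360B

/-!
# Simple groups of order 360 with 36 Sylow 5-subgroups: fixed points on the Sylow 3-subgroups
(helper49)
-/

set_option autoImplicit false

namespace Cfsg.Agent.Lib.Helper49.O360

open Cfsg.Agent.Lib.Helper17 Cfsg.Agent.Lib.Helper49.O504 Subgroup MulAction

variable {G : Type*} [Group G] [Finite G] [IsSimpleGroup G]

omit [IsSimpleGroup G] in
theorem pow_nine_of_mem (h : Nat.card G = 360) (P : Sylow 3 G) (x : G)
    (hx : x ∈ (P : Subgroup G)) : x ^ 9 = 1 := by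
  have hd := Subgroup.orderOf_dvd_natCard (P : Subgroup G) hx
  rw [card_sylow3 h P] at hd
  exact orderOf_dvd_iff_pow_eq_one.mp hd

omit [Finite G] [IsSimpleGroup G] in
theorem smul_eq_of_mem (P : Sylow 3 G) (x : G) (hx : x ∈ (P : Subgroup G)) : x • P = P :=
  Sylow.smul_eq_iff_mem_normalizer.mpr (le_normalizer hx)

omit [Finite G] [IsSimpleGroup G] in
theorem mem_normalizer_of_smul_eq (P : Sylow 3 G) (x : G) (hx : x • P = P) :
    x ∈ normalizer ((P : Subgroup G) : Set G) :=
  Sylow.smul_eq_iff_mem_normalizer.mp hx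

/-- There are no elements of order `9`. -/
theorem pow_three_of_pow_nine (h : Nat.card G = 360) (h5 : Nat.card (Sylow 5 G) = 36) (g : G)
    (hg : g ^ 9 = 1) : g ^ 3 = 1 := by
  have := fact_three
  by_contra hne
  have hg1 : g ≠ 1 := by
    rintro rfl
    simp at hne
  have ho : orderOf g = 9 := by
    have hd : orderOf g ∣ 3 ^ 2 := orderOf_dvd_iff_pow_eq_one.mpr (by simpa using hg)
    obtain ⟨m, hm2, hm⟩ := (Nat.dvd_prime_pow Nat.prime_three).mp hd
    interval_cases m
    · exfalso
      exact hg1 (orderOf_eq_one_iff.mp (by simpa using hm))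
    · exfalso
      apply hne
      rw [← orderOf_dvd_iff_pow_eq_one, hm]
      norm_num
    · simpa using hm
  obtain ⟨P, hgP⟩ := exists_sylow3_mem g hg
  have hPc := card_sylow3 h P
  have hcyc : IsCyclic ↥(P : Subgroup G) := by
    apply isCyclic_of_orderOf_eq_card (⟨g, hgP⟩ : ↥(P : Subgroup G))
    rw [Subgroup.orderOf_mk, ho, hPc]
  have h1 := relIndex_centralizer_normalizer_dvd (P : Subgroup G)
  rw [IsCyclic.card_mulAut, hPc] at h1
  have ht : Nat.totient 9 = 6 := by decide
  rw [ht] at h1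
  have hC : centralizer ((P : Subgroup G) : Set G) = (P : Subgroup G) := by
    apply le_antisymm
    · intro y hy
      apply centralizer_le_sylow3 h h5 P g hg1 hgP
      rw [mem_centralizer_iff]
      intro z hz
      rw [Set.mem_singleton_iff] at hz
      subst hz
      exact (mem_centralizer_iff.mp hy) z hgP
    · intro y hy
      rw [mem_centralizer_iff]
      intro z hz
      exact comm_sylow3 h P z hz y hy
  rw [hC] at h1
  have h2 := relIndex_mul_index (le_normalizer : (P : Subgroup G) ≤ normalizer ((P : Subgroup G) : Set G))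
  have h3 := (P : Subgroup G).card_mul_index
  have h4 := (normalizer ((P : Subgroup G) : Set G)).card_mul_index
  rw [card_normalizer3 h P, h] at h4
  rw [hPc, h] at h3
  have h5' : (P : Subgroup G).index = 40 := by omega
  have h6 : (normalizer ((P : Subgroup G) : Set G)).index = 10 := by omega
  rw [h5', h6] at h2
  have h7 : (P : Subgroup G).relIndex (normalizer ((P : Subgroup G) : Set G)) = 4 := by omega
  rw [h7] at h1
  omega

/-- A Sylow `3`-subgroup `P` acts transitively on the other Sylow `3`-subgroups. -/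
theorem exists_smul_eq (h : Nat.card G = 360) (h5 : Nat.card (Sylow 5 G) = 36)
    (P Q R : Sylow 3 G) (hQ : Q ≠ P) (hR : R ≠ P) : ∃ y ∈ (P : Subgroup G), y • Q = R := by
  have := fact_three
  have hne : ∀ y : ↥(P : Subgroup G), (y : G) • Q ≠ P := by
    intro y hy
    apply hQ
    have h1 : (y : G)⁻¹ • ((y : G) • Q) = (y : G)⁻¹ • P := by rw [hy]
    rw [inv_smul_smul, smul_eq_of_mem P _ (inv_mem y.2)] at h1
    exact h1
  let f : ↥(P : Subgroup G) → {Q' : Sylow 3 G // Q' ≠ P} := fun y => ⟨(y : G) • Q, hne y⟩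
  have hf : Function.Injective f := by
    intro y y' hyy
    have h1 : (y : G) • Q = (y' : G) • Q := congrArg Subtype.val hyy
    have h2 : ((y' : G)⁻¹ * (y : G)) • Q = Q := by
      rw [mul_smul, h1, inv_smul_smul]
    have hwP : (y' : G)⁻¹ * (y : G) ∈ (P : Subgroup G) := mul_mem (inv_mem y'.2) y.2
    have hwQ := mem_sylow3_of_mem_normalizer _ (pow_nine_of_mem h P _ hwP) Q
      (mem_normalizer_of_smul_eq Q _ h2)
    have hw1 : (y' : G)⁻¹ * (y : G) = 1 := by
      by_contra hw
      exact hQ (sylow3_unique h h5 P Q _ hw hwP hwQ).symm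
    apply Subtype.ext
    have := inv_mul_eq_one.mp hw1
    exact this.symm
  have hcard : Nat.card {Q' : Sylow 3 G // Q' ≠ P} ≤ Nat.card ↥(P : Subgroup G) := by
    rw [card_subtype_ne, card_sylow3_eq h, card_sylow3 h P]
  obtain ⟨y, hy⟩ := (hf.bijective_of_nat_card_le hcard).2 ⟨R, hR⟩
  exact ⟨(y : G), y.2, congrArg Subtype.val hy⟩

/-- An element of `N(P)` outside `P` fixes at most one further Sylow `3`-subgroup. -/
theorem eq_of_fixed (h : Nat.card G = 360) (h5 : Nat.card (Sylow 5 G) = 36)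
    (P Q R : Sylow 3 G) (g : G) (hgP : g • P = P) (hgnP : g ∉ (P : Subgroup G))
    (hQ : Q ≠ P) (hR : R ≠ P) (hgQ : g • Q = Q) (hgR : g • R = R) : Q = R := by
  have := fact_three
  obtain ⟨y, hyP, rfl⟩ := exists_smul_eq h h5 P Q R hQ hR
  by_cases hy1 : y = 1
  · rw [hy1, one_smul]
  exfalso
  have hgN := mem_normalizer_of_smul_eq P g hgP
  have hconj : g * y * g⁻¹ ∈ (P : Subgroup G) := (mem_normalizer_iff.mp hgN y).mp hyP
  have hwP : y⁻¹ * (g * y * g⁻¹) ∈ (P : Subgroup G) := mul_mem (inv_mem hyP) hconj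
  have hgQ' : g⁻¹ • Q = Q := by
    rw [inv_smul_eq_iff, hgQ]
  have hwQ : (y⁻¹ * (g * y * g⁻¹)) • Q = Q := by
    rw [mul_smul, mul_smul, mul_smul, hgQ', hgR, inv_smul_smul]
  have hwQ' := mem_sylow3_of_mem_normalizer _ (pow_nine_of_mem h P _ hwP) Q
    (mem_normalizer_of_smul_eq Q _ hwQ)
  have hw1 : y⁻¹ * (g * y * g⁻¹) = 1 := by
    by_contra hw
    exact hQ (sylow3_unique h h5 P Q _ hw hwP hwQ').symm
  have hcomm : g * y = y * g := by
    have h1 : g * y * g⁻¹ = y := (inv_mul_eq_one.mp hw1).symm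
    calc g * y = (g * y * g⁻¹) * g := by group
      _ = y * g := by rw [h1]
  apply hgnP
  apply centralizer_le_sylow3 h h5 P y hy1 hyP
  rw [mem_centralizer_iff]
  intro z hz
  rw [Set.mem_singleton_iff] at hz
  subst hz
  exact hcomm.symm


omit [Group G] [Finite G] [IsSimpleGroup G] in
/-- Conversion between filter cardinalities and `Nat.card` of subtypes. -/
theorem card_filter_eq_natCard {α : Type*} [Fintype α] (p : α → Prop) [DecidablePred p] :
    (Finset.univ.filter p).card = Nat.card {x // p x} := by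
  rw [Nat.card_eq_fintype_card, Fintype.card_subtype]

/-- Remaining elements: nontrivial, not `3`-elements, not of order `5`. -/
def IsRest (g : G) : Prop := g ≠ 1 ∧ g ^ 9 ≠ 1 ∧ orderOf g ≠ 5

/-- The number of Sylow `3`-subgroups normalized by `g`. -/
noncomputable def fx (g : G) : ℕ := Nat.card {ω : Sylow 3 G // g • ω = ω}

theorem fx_one (h : Nat.card G = 360) : fx (1 : G) = 10 := by
  rw [← card_sylow3_eq h]
  exact Nat.card_congr (Equiv.subtypeUnivEquiv (fun ω => one_smul G ω))

theorem fx_le_one_of_three (h : Nat.card G = 360) (h5 : Nat.card (Sylow 5 G) = 36) (g : G)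
    (hg1 : g ≠ 1) (hg : g ^ 9 = 1) : fx g ≤ 1 := by
  have := fact_three
  unfold fx
  rw [Finite.card_le_one_iff_subsingleton]
  refine ⟨fun a b => Subtype.ext ?_⟩
  have ha := mem_sylow3_of_mem_normalizer g hg a.1 (mem_normalizer_of_smul_eq a.1 g a.2)
  have hb := mem_sylow3_of_mem_normalizer g hg b.1 (mem_normalizer_of_smul_eq b.1 g b.2)
  exact sylow3_unique h h5 a.1 b.1 g hg1 ha hb

theorem fx_eq_zero_of_five (h : Nat.card G = 360) (g : G) (hg : orderOf g = 5) : fx g = 0 := by
  have := fact_three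
  unfold fx
  have : IsEmpty {ω : Sylow 3 G // g • ω = ω} := by
    refine ⟨fun a => ?_⟩
    have h1 := Subgroup.orderOf_dvd_natCard _ (mem_normalizer_of_smul_eq a.1 g a.2)
    rw [card_normalizer3 h a.1, hg] at h1
    omega
  exact Nat.card_of_isEmpty

theorem fx_le_two (h : Nat.card G = 360) (h5 : Nat.card (Sylow 5 G) = 36) (g : G)
    (hg : g ^ 9 ≠ 1) : fx g ≤ 2 := by
  classical
  have := fact_three
  by_contra hlt
  push Not at hlt
  unfold fx at hlt
  haveI : Fintype {ω : Sylow 3 G // g • ω = ω} := Fintype.ofFinite _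
  rw [Nat.card_eq_fintype_card, Fintype.two_lt_card_iff] at hlt
  obtain ⟨a, b, c, hab, hac, hbc⟩ := hlt
  have hgP : g ∉ ((a.1 : Sylow 3 G) : Subgroup G) := fun hmem => hg (pow_nine_of_mem h a.1 g hmem)
  have := eq_of_fixed h h5 a.1 b.1 c.1 g a.2 hgP (fun hh => hab (Subtype.ext hh).symm)
    (fun hh => hac (Subtype.ext hh).symm) b.2 c.2
  exact hbc (Subtype.ext this)

theorem sum_fx (h : Nat.card G = 360) [Fintype G] : ∑ g : G, fx g = 360 := by
  classical
  have := fact_three
  haveI : Fintype (Sylow 3 G) := Fintype.ofFinite _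
  have h1 : ∀ g : G, fx g = (Finset.bipartiteAbove (fun (g : G) (ω : Sylow 3 G) => g • ω = ω)
      Finset.univ g).card := by
    intro g
    unfold fx
    rw [← card_filter_eq_natCard]
    rfl
  rw [Finset.sum_congr rfl (fun g _ => h1 g),
    Finset.sum_card_bipartiteAbove_eq_sum_card_bipartiteBelow]
  have h2 : ∀ ω : Sylow 3 G, (Finset.bipartiteBelow (fun (g : G) (ω : Sylow 3 G) => g • ω = ω)
      Finset.univ ω).card = 36 := by
    intro ω
    have h3 : (Finset.bipartiteBelow (fun (g : G) (ω : Sylow 3 G) => g • ω = ω) Finset.univ ω) =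
        Finset.univ.filter (fun g : G => g • ω = ω) := rfl
    rw [h3, card_filter_eq_natCard, ← card_normalizer3 h ω]
    exact Nat.card_congr (Equiv.subtypeEquivRight (fun g => Sylow.smul_eq_iff_mem_normalizer))
  rw [Finset.sum_congr rfl (fun ω _ => h2 ω), Finset.sum_const, Finset.card_univ,
    ← Nat.card_eq_fintype_card, card_sylow3_eq h]
  rfl

theorem card_rest_le (h : Nat.card G = 360) (h5 : Nat.card (Sylow 5 G) = 36) :
    Nat.card {g : G // IsRest g} ≤ 135 := by
  set K : Set G := {g | IsRest g} with hK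
  set A : Set G := {g | orderOf g = 5} with hA
  set B : Set G := {g | g ≠ 1 ∧ g ^ 9 = 1} with hB
  have hAc : A.ncard = 144 := by
    rw [← Nat.card_coe_set_eq]; exact card_five_elements h h5
  have hBc : B.ncard = 80 := by
    rw [← Nat.card_coe_set_eq]; exact card_three_elements h h5
  have hKc : K.ncard = Nat.card {g : G // IsRest g} := by
    rw [← Nat.card_coe_set_eq]; rfl
  have hd1 : Disjoint K {1} := by
    rw [Set.disjoint_left]
    intro g hg hg1
    exact hg.1 hg1
  have hd2 : Disjoint (K ∪ {1}) A := by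
    rw [Set.disjoint_left]
    rintro g (hg | hg) hgA
    · exact hg.2.2 hgA
    · rw [Set.mem_singleton_iff] at hg
      subst hg
      have : orderOf (1 : G) = 5 := hgA
      rw [orderOf_one] at this
      omega
  have hd3 : Disjoint (K ∪ {1} ∪ A) B := by
    rw [Set.disjoint_left]
    rintro g ((hg | hg) | hg) hgB
    · exact hg.2.1 hgB.2
    · exact hgB.1 hg
    · have h7 : orderOf g = 5 := hg
      have : orderOf g ∣ 9 := orderOf_dvd_iff_pow_eq_one.mpr hgB.2
      rw [h7] at this
      omega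
  have e1 := Set.ncard_union_eq hd3 (Set.toFinite _) (Set.toFinite _)
  have e2 := Set.ncard_union_eq hd2 (Set.toFinite _) (Set.toFinite _)
  have e3 := Set.ncard_union_eq hd1 (Set.toFinite _) (Set.toFinite _)
  have e4 : (K ∪ {1} ∪ A ∪ B).ncard ≤ Nat.card G := by
    rw [← Set.ncard_univ]
    exact Set.ncard_le_ncard (Set.subset_univ _) (Set.toFinite _)
  rw [Set.ncard_singleton] at e3
  omega


/-- Tightness of the fixed point bounds (Burnside counting). -/
theorem fx_tight (h : Nat.card G = 360) (h5 : Nat.card (Sylow 5 G) = 36) (g : G) :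
    (IsRest g → fx g = 2) ∧ (g ≠ 1 → g ^ 9 = 1 → fx g = 1) := by
  classical
  letI : Fintype G := Fintype.ofFinite G
  let c : G → ℕ := fun g => (if g = 1 then 10 else 0) + (if g ≠ 1 ∧ g ^ 9 = 1 then 1 else 0) +
    (if IsRest g then 2 else 0)
  have hle : ∀ g : G, fx g ≤ c g := by
    intro g
    simp only [c]
    by_cases hg1 : g = 1
    · subst hg1
      rw [fx_one h]
      simp
    by_cases hg9 : g ^ 9 = 1
    · have := fx_le_one_of_three h h5 g hg1 hg9
      have hnr : ¬ IsRest g := fun hr => hr.2.1 hg9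
      rw [if_neg hg1, if_pos ⟨hg1, hg9⟩, if_neg hnr]
      omega
    by_cases hg5 : orderOf g = 5
    · rw [fx_eq_zero_of_five h g hg5]
      exact Nat.zero_le _
    · have := fx_le_two h h5 g hg9
      have hr : IsRest g := ⟨hg1, hg9, hg5⟩
      rw [if_neg hg1, if_neg (fun hh => hg9 hh.2), if_pos hr]
      omega
  have hsum : ∑ g : G, c g ≤ 360 := by
    simp only [c]
    rw [Finset.sum_add_distrib, Finset.sum_add_distrib]
    have e1 : ∑ g : G, (if g = 1 then 10 else 0) = 10 := by simp
    have e2 : ∑ g : G, (if g ≠ 1 ∧ g ^ 9 = 1 then 1 else 0) = 80 := by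
      rw [← Finset.card_filter, card_filter_eq_natCard, card_three_elements h h5]
    have e3 : ∑ g : G, (if IsRest g then 2 else 0) ≤ 270 := by
      have h2 : ∀ g : G, (if IsRest g then 2 else 0) = 2 * (if IsRest g then 1 else 0) := by
        intro g
        split_ifs <;> rfl
      rw [Finset.sum_congr rfl (fun g _ => h2 g), ← Finset.mul_sum, ← Finset.card_filter,
        card_filter_eq_natCard]
      have := card_rest_le h h5
      omega
    omega
  have key : ∀ g : G, fx g = c g := by
    by_contra hne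
    push Not at hne
    obtain ⟨r, hr⟩ := hne
    have hlt : fx r < c r := lt_of_le_of_ne (hle r) hr
    have := Finset.sum_lt_sum (fun g _ => hle g) ⟨r, Finset.mem_univ r, hlt⟩
    rw [sum_fx h] at this
    omega
  constructor
  · intro hr
    rw [key g]
    simp only [c]
    rw [if_neg hr.1, if_neg (fun hh => hr.2.1 hh.2), if_pos hr]
  · intro hg1 hg9
    rw [key g]
    simp only [c]
    have hnr : ¬ IsRest g := fun hr => hr.2.1 hg9
    rw [if_neg hg1, if_pos ⟨hg1, hg9⟩, if_neg hnr]

/-- An element normalizing no Sylow `3`-subgroup has order `5`. -/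
theorem orderOf_eq_five_of_fx_eq_zero (h : Nat.card G = 360) (h5 : Nat.card (Sylow 5 G) = 36)
    (g : G) (h0 : fx g = 0) : orderOf g = 5 := by
  by_contra hg5
  by_cases hg1 : g = 1
  · subst hg1
    rw [fx_one h] at h0
    omega
  by_cases hg9 : g ^ 9 = 1
  · have := (fx_tight h h5 g).2 hg1 hg9
    omega
  · have := (fx_tight h h5 g).1 ⟨hg1, hg9, hg5⟩
    omega

/-- An involution `a` and an element `b` of order `3` with `a * b` a remaining element. -/
theorem exists_invol_three (h : Nat.card G = 360) :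
    ∃ a b : G, orderOf a = 2 ∧ b ≠ 1 ∧ b ^ 9 = 1 ∧ IsRest (a * b) := by
  have := fact_three
  have := fact_two
  obtain ⟨P⟩ : Nonempty (Sylow 3 G) := inferInstance
  obtain ⟨t, ht⟩ := exists_prime_orderOf_dvd_card' (G := ↥(normalizer ((P : Subgroup G) : Set G))) 2
    (by rw [card_normalizer3 h P]; norm_num)
  obtain ⟨s, hs⟩ := exists_prime_orderOf_dvd_card' (G := ↥(P : Subgroup G)) 3
    (by rw [card_sylow3 h P]; norm_num)
  have hto : orderOf (t : G) = 2 := by rw [Subgroup.orderOf_coe, ht]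
  have hso : orderOf (s : G) = 3 := by rw [Subgroup.orderOf_coe, hs]
  have hs1 : (s : G) ≠ 1 := by
    intro h1
    rw [h1, orderOf_one] at hso
    omega
  have hN : (t : G) * (s : G) ∈ normalizer ((P : Subgroup G) : Set G) :=
    mul_mem t.2 (le_normalizer s.2)
  have h9 : ((t : G) * (s : G)) ^ 9 ≠ 1 := by
    intro h9
    have hmem := mem_sylow3_of_mem_normalizer _ h9 P hN
    have htP : (t : G) ∈ (P : Subgroup G) := by
      have := mul_mem hmem (inv_mem s.2)
      rwa [mul_inv_cancel_right] at this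
    have := orderOf_dvd_iff_pow_eq_one.mpr (pow_nine_of_mem h P _ htP)
    rw [hto] at this
    omega
  refine ⟨(t : G), (s : G), hto, hs1, pow_nine_of_mem h P _ s.2, ?_, h9, ?_⟩
  · intro h1
    apply h9
    rw [h1, one_pow]
  · intro h5'
    have := Subgroup.orderOf_dvd_natCard _ hN
    rw [card_normalizer3 h P, h5'] at this
    omega

omit [Group G] [Finite G] [IsSimpleGroup G] in
theorem card_subtype_ne_ne {α : Type*} [Finite α] (a b : α) (hab : a ≠ b) :
    Nat.card {x : α // x ≠ a ∧ x ≠ b} = Nat.card α - 2 := by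
  classical
  letI : Fintype α := Fintype.ofFinite α
  rw [Nat.card_eq_fintype_card, Fintype.card_subtype, Nat.card_eq_fintype_card]
  have h1 : (Finset.univ.filter (fun x : α => x ≠ a ∧ x ≠ b)) =
      (Finset.univ.erase a).erase b := by
    ext x
    simp [and_comm]
  rw [h1, Finset.card_erase_of_mem, Finset.card_erase_of_mem (Finset.mem_univ a),
    Finset.card_univ]
  · omega
  · rw [Finset.mem_erase]
    exact ⟨hab.symm, Finset.mem_univ b⟩

/-- For fixed `a` and `ω`, at most `8` nontrivial `3`-elements `b` have `a * b` fixing `ω`. -/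
theorem card_three_fixing_le (h : Nat.card G = 360) (h5 : Nat.card (Sylow 5 G) = 36) (a : G)
    (ω : Sylow 3 G) :
    Nat.card {b : G // (b ≠ 1 ∧ b ^ 9 = 1) ∧ (a * b) • ω = ω} ≤ 8 := by
  classical
  have := fact_three
  have hb : ∀ b : {b : G // (b ≠ 1 ∧ b ^ 9 = 1) ∧ (a * b) • ω = ω}, b.1 • ω = a⁻¹ • ω := by
    intro b
    have := b.2.2
    rw [mul_smul] at this
    rw [eq_inv_smul_iff]
    exact this
  by_cases hω : a⁻¹ • ω = ω
  · have hmem : ∀ b : {b : G // (b ≠ 1 ∧ b ^ 9 = 1) ∧ (a * b) • ω = ω},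
        b.1 ∈ (ω : Subgroup G) := by
      intro b
      exact mem_sylow3_of_mem_normalizer b.1 b.2.1.2 ω
        (mem_normalizer_of_smul_eq ω b.1 ((hb b).trans hω))
    let f : {b : G // (b ≠ 1 ∧ b ^ 9 = 1) ∧ (a * b) • ω = ω} →
        {x : ↥(ω : Subgroup G) // x ≠ 1} :=
      fun b => ⟨⟨b.1, hmem b⟩, fun hh => b.2.1.1 (congrArg Subtype.val hh)⟩
    have hf : Function.Injective f := by
      intro b b' hbb
      apply Subtype.ext
      exact congrArg (fun x : {x : ↥(ω : Subgroup G) // x ≠ 1} => ((x : ↥(ω : Subgroup G)) : G)) hbb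
    have h1 := Nat.card_le_card_of_injective f hf
    rw [card_subtype_ne, card_sylow3 h ω] at h1
    exact h1
  · have hsyl : ∀ b : {b : G // (b ≠ 1 ∧ b ^ 9 = 1) ∧ (a * b) • ω = ω},
        ∃ Q : Sylow 3 G, b.1 ∈ (Q : Subgroup G) := fun b => exists_sylow3_mem b.1 b.2.1.2
    choose syl hsyl' using hsyl
    have hne1 : ∀ b, syl b ≠ ω := by
      intro b hQ
      apply hω
      rw [← hb b]
      have := hsyl' b
      rw [hQ] at this
      exact smul_eq_of_mem ω b.1 this
    have hne2 : ∀ b, syl b ≠ a⁻¹ • ω := by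
      intro b hQ
      apply hω
      have h1 := hsyl' b
      rw [hQ] at h1
      have h2 := smul_eq_of_mem (a⁻¹ • ω) b.1 h1
      have h3 : b.1 • (a⁻¹ • ω) = b.1 • ω := by rw [h2, hb b]
      exact smul_left_cancel b.1 h3
    let f : {b : G // (b ≠ 1 ∧ b ^ 9 = 1) ∧ (a * b) • ω = ω} →
        {Q : Sylow 3 G // Q ≠ ω ∧ Q ≠ a⁻¹ • ω} := fun b => ⟨syl b, hne1 b, hne2 b⟩
    have hf : Function.Injective f := by
      intro b b' hbb
      have hQ : syl b = syl b' := congrArg Subtype.val hbb
      have hm1 := hsyl' b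
      have hm2 := hsyl' b'
      rw [← hQ] at hm2
      have hwQ : b'.1⁻¹ * b.1 ∈ ((syl b : Sylow 3 G) : Subgroup G) := mul_mem (inv_mem hm2) hm1
      have hwω : (b'.1⁻¹ * b.1) • ω = ω := by
        rw [mul_smul, hb b, ← hb b', inv_smul_smul]
      have hwω' := mem_sylow3_of_mem_normalizer _ (pow_nine_of_mem h (syl b) _ hwQ) ω
        (mem_normalizer_of_smul_eq ω _ hwω)
      have hw1 : b'.1⁻¹ * b.1 = 1 := by
        by_contra hw
        exact hne1 b (sylow3_unique h h5 (syl b) ω _ hw hwQ hwω')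
      apply Subtype.ext
      exact (inv_mul_eq_one.mp hw1).symm
    have h1 := Nat.card_le_card_of_injective f hf
    rw [card_subtype_ne_ne ω (a⁻¹ • ω) (fun hh => hω hh.symm), card_sylow3_eq h] at h1
    exact h1


/-- There are an involution `a` and a nontrivial `3`-element `b` with `a * b` of order `5`. -/
theorem exists_orderOf_five (h : Nat.card G = 360) (h5 : Nat.card (Sylow 5 G) = 36) :
    ∃ a b : G, orderOf a = 2 ∧ b ≠ 1 ∧ b ^ 9 = 1 ∧ orderOf (a * b) = 5 := by
  classical
  have := fact_three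
  obtain ⟨a, b0, ha, hb01, hb09, hR⟩ := exists_invol_three (G := G) h
  by_contra hcon
  push Not at hcon
  letI : Fintype G := Fintype.ofFinite G
  letI : Fintype (Sylow 3 G) := Fintype.ofFinite _
  set B : Finset G := Finset.univ.filter (fun b : G => b ≠ 1 ∧ b ^ 9 = 1) with hB
  have hBcard : B.card = 80 := by
    rw [hB, card_filter_eq_natCard, card_three_elements h h5]
  have hb0B : b0 ∈ B := by
    rw [hB, Finset.mem_filter]
    exact ⟨Finset.mem_univ _, hb01, hb09⟩
  have hge : ∀ b ∈ B, 1 ≤ fx (a * b) := by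
    intro b hb
    rw [hB, Finset.mem_filter] at hb
    by_contra hlt
    have h0 : fx (a * b) = 0 := by omega
    exact hcon a b ha hb.2.1 hb.2.2 (orderOf_eq_five_of_fx_eq_zero h h5 _ h0)
  have h2 : fx (a * b0) = 2 := (fx_tight h h5 _).1 hR
  have hlow : ∑ b ∈ B, 1 < ∑ b ∈ B, fx (a * b) :=
    Finset.sum_lt_sum hge ⟨b0, hb0B, by rw [h2]; norm_num⟩
  rw [Finset.sum_const, smul_eq_mul, mul_one, hBcard] at hlow
  have hup : ∑ b ∈ B, fx (a * b) ≤ 80 := by
    have h1 : ∀ b : G, fx (a * b) = (Finset.bipartiteAbove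
        (fun (b : G) (ω : Sylow 3 G) => (a * b) • ω = ω) Finset.univ b).card := by
      intro b
      unfold fx
      rw [← card_filter_eq_natCard]
      rfl
    rw [Finset.sum_congr rfl (fun b _ => h1 b),
      Finset.sum_card_bipartiteAbove_eq_sum_card_bipartiteBelow]
    have h3 : ∀ ω : Sylow 3 G, (Finset.bipartiteBelow
        (fun (b : G) (ω : Sylow 3 G) => (a * b) • ω = ω) B ω).card ≤ 8 := by
      intro ω
      have h4 : (Finset.bipartiteBelow (fun (b : G) (ω : Sylow 3 G) => (a * b) • ω = ω) B ω) =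
          Finset.univ.filter (fun b : G => (b ≠ 1 ∧ b ^ 9 = 1) ∧ (a * b) • ω = ω) := by
        unfold Finset.bipartiteBelow
        rw [hB, Finset.filter_filter]
      rw [h4, card_filter_eq_natCard]
      exact card_three_fixing_le h h5 a ω
    calc _ ≤ ∑ ω : Sylow 3 G, 8 := Finset.sum_le_sum (fun ω _ => h3 ω)
      _ = 80 := by
        rw [Finset.sum_const, Finset.card_univ, ← Nat.card_eq_fintype_card, card_sylow3_eq h]
        rfl
  omega

end Cfsg.Agent.Lib.Helper49.O360
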