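import Mathlib.GroupTheory.Sylow
import Mathlib.GroupTheory.Transfer
import Mathlib.GroupTheory.SpecificGroups.Cyclic
import Mathlib.NumberTheory.Basic

set_option autoImplicit false

namespace Cfsg.Agent.Lib.Helper49

theorem conj_zpow' {G : Type*} [Group G] (g x : G) (k : ℤ) :
    g * x ^ k * g⁻¹ = (g * x * g⁻¹) ^ k := by
  have := map_zpow (MulAut.conj g) x k
  simpa [MulAut.conj_apply] using this

/-- If the normalizer of a cyclic Sylow `p`-subgroup `P` centralizes a nontrivial element of `P`,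
then it centralizes `P`. -/
theorem cyclic_sylow_normalizer_le_centralizer {G : Type*} [Group G] [Finite G] {p : ℕ}
    [Fact p.Prime] (P : Sylow p G) (hcyc : IsCyclic ↥(P : Subgroup G)) (x : G) (hx1 : x ≠ 1)
    (hxP : x ∈ (P : Subgroup G))
    (hN : Subgroup.normalizer ((P : Subgroup G) : Set G) ≤ Subgroup.centralizer ({x} : Set G)) :
    Subgroup.normalizer ((P : Subgroup G) : Set G) ≤ Subgroup.centralizer ((P : Subgroup G) : Set G) := by
  have hp : p.Prime := Fact.out
  intro g hg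
  obtain ⟨a, ha⟩ := hcyc.exists_generator
  -- g a g⁻¹ = a ^ m
  have hga : g * (a : G) * g⁻¹ ∈ (P : Subgroup G) := (Subgroup.mem_normalizer_iff.mp hg _).mp a.2
  obtain ⟨m, hm⟩ := Subgroup.mem_zpowers_iff.mp (ha ⟨_, hga⟩)
  have hm' : (a : G) ^ m = g * (a : G) * g⁻¹ := by
    have := congrArg Subtype.val hm
    simpa using this
  -- every b ∈ P : g b g⁻¹ = b ^ m
  have hall : ∀ b ∈ (P : Subgroup G), g * b * g⁻¹ = b ^ m := by
    intro b hb
    obtain ⟨j, hj⟩ := Subgroup.mem_zpowers_iff.mp (ha ⟨b, hb⟩)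
    have hj' : (a : G) ^ j = b := by
      have := congrArg Subtype.val hj
      simpa using this
    rw [← hj', conj_zpow', ← hm', ← zpow_mul, ← zpow_mul, mul_comm]
  -- iterate
  have hiter : ∀ (i : ℕ), ∀ b ∈ (P : Subgroup G), g ^ i * b * (g ^ i)⁻¹ = b ^ (m ^ i) := by
    intro i
    induction i with
    | zero => intro b _; simp
    | succ i ih =>
      intro b hb
      have h1 : g ^ (i + 1) * b * (g ^ (i + 1))⁻¹ = g * (g ^ i * b * (g ^ i)⁻¹) * g⁻¹ := by
        rw [pow_succ']; group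
      rw [h1, ih b hb, hall _ (Subgroup.zpow_mem _ hb _), ← zpow_mul, pow_succ]
  -- p ∣ m - 1
  have hxm : x ^ (m - 1) = 1 := by
    have h1 : g * x * g⁻¹ = x := by
      have := (Subgroup.mem_centralizer_iff.mp (hN hg)) x rfl
      calc g * x * g⁻¹ = (x * g) * g⁻¹ := by rw [this]
        _ = x := by group
    have h2 := hall x hxP
    rw [h1] at h2
    rw [zpow_sub, zpow_one, ← h2]; group
  have hdvd : (p : ℤ) ∣ m - 1 := by
    have h1 : (orderOf x : ℤ) ∣ m - 1 := orderOf_dvd_iff_zpow_eq_one.mpr hxm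
    obtain ⟨k, hk⟩ := (IsPGroup.iff_orderOf.mp P.isPGroup') ⟨x, hxP⟩
    have hk' : orderOf x = p ^ k := by
      rw [← hk]; exact (Subgroup.orderOf_mk x hxP).symm
    have hk0 : k ≠ 0 := by
      intro h0
      rw [h0, pow_zero, orderOf_eq_one_iff] at hk'
      exact hx1 hk'
    have h2 : (p : ℤ) ∣ (orderOf x : ℤ) := by
      rw [hk']; push_cast
      exact dvd_pow_self _ hk0
    exact dvd_trans h2 h1
  -- card P = p ^ n
  obtain ⟨n, hn⟩ := (IsPGroup.iff_card.mp P.isPGroup')
  have hpow : ((p : ℤ) ^ (n + 1)) ∣ m ^ (p ^ n) - 1 := by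
    have := dvd_sub_pow_of_dvd_sub (R := ℤ) (p := p) (a := m) (b := 1) hdvd n
    simpa using this
  -- g ^ (p^n) centralizes P
  have hgpn : g ^ (p ^ n) ∈ Subgroup.centralizer ((P : Subgroup G) : Set G) := by
    rw [Subgroup.mem_centralizer_iff]
    intro b hb
    have h1 := hiter (p ^ n) b hb
    obtain ⟨t, ht⟩ := hpow
    have h2 : m ^ (p ^ n) = 1 + (p : ℤ) ^ (n + 1) * t := by linarith
    have hbn : b ^ ((p : ℤ) ^ n) = 1 := by
      have : (⟨b, hb⟩ : ↥(P : Subgroup G)) ^ (p ^ n) = 1 := by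
        rw [← hn]; exact pow_card_eq_one'
      have := congrArg Subtype.val this
      have h3 : b ^ (p ^ n) = 1 := by simpa using this
      have h4 : b ^ ((p : ℤ) ^ n) = b ^ ((p ^ n : ℕ) : ℤ) := by push_cast; rfl
      rw [h4, zpow_natCast, h3]
    have h5 : b ^ (m ^ (p ^ n)) = b := by
      rw [h2, zpow_add, zpow_one, pow_succ, mul_assoc, zpow_mul, hbn, one_zpow, mul_one]
    rw [h5] at h1
    calc b * g ^ (p ^ n) = (g ^ (p ^ n) * b * (g ^ (p ^ n))⁻¹) * g ^ (p ^ n) := by rw [h1]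
      _ = g ^ (p ^ n) * b := by group
  -- g ^ r centralizes P, r = index of C in N
  set N := Subgroup.normalizer ((P : Subgroup G) : Set G) with hNdef
  set C := Subgroup.centralizer ((P : Subgroup G) : Set G) with hCdef
  have hCn : (C.subgroupOf N).Normal :=
    Subgroup.normal_subgroupOf_centralizer_normalizer ((P : Subgroup G) : Set G)
  have hgr : g ^ (C.relIndex N) ∈ C := by
    have h1 := Subgroup.pow_index_mem (C.subgroupOf N) (⟨g, hg⟩ : ↥N)
    rw [Subgroup.mem_subgroupOf] at h1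
    simpa [Subgroup.relIndex] using h1
  -- r coprime to p
  have hPC : (P : Subgroup G) ≤ C := by
    intro b hb
    rw [hCdef, Subgroup.mem_centralizer_iff]
    intro c hc
    obtain ⟨j, hj⟩ := Subgroup.mem_zpowers_iff.mp (ha ⟨b, hb⟩)
    obtain ⟨i, hi⟩ := Subgroup.mem_zpowers_iff.mp (ha ⟨c, hc⟩)
    have hj' : (a : G) ^ j = b := by
      have := congrArg Subtype.val hj
      simpa using this
    have hi' : (a : G) ^ i = c := by
      have := congrArg Subtype.val hi
      simpa using this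
    rw [← hj', ← hi', ← zpow_add, ← zpow_add, add_comm]
  have hPN : (P : Subgroup G) ≤ N := Subgroup.le_normalizer
  have hr : Nat.Coprime (p ^ n) (C.relIndex N) := by
    apply Nat.Coprime.pow_left
    rw [Nat.Prime.coprime_iff_not_dvd hp]
    intro hd
    have h1 : C.relIndex N ∣ (P : Subgroup G).relIndex N := Subgroup.relIndex_dvd_of_le_left N hPC
    have h2 : (P : Subgroup G).relIndex N ∣ (P : Subgroup G).index :=
      Subgroup.relIndex_dvd_index_of_le hPN
    exact P.not_dvd_index (dvd_trans hd (dvd_trans h1 h2))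
  -- Bezout
  have hb : ((Nat.gcd (p ^ n) (C.relIndex N) : ℕ) : ℤ)
      = ((p ^ n : ℕ) : ℤ) * Nat.gcdA (p ^ n) (C.relIndex N)
        + ((C.relIndex N : ℕ) : ℤ) * Nat.gcdB (p ^ n) (C.relIndex N) := Nat.gcd_eq_gcd_ab _ _
  rw [hr.gcd_eq_one] at hb
  have hg1 : g = (g ^ (p ^ n)) ^ (Nat.gcdA (p ^ n) (C.relIndex N))
      * (g ^ (C.relIndex N)) ^ (Nat.gcdB (p ^ n) (C.relIndex N)) := by
    rw [← zpow_natCast g (p ^ n), ← zpow_natCast g (C.relIndex N), ← zpow_mul, ← zpow_mul,
      ← zpow_add, ← hb]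
    simp
  rw [hg1]
  exact C.mul_mem (C.zpow_mem hgpn _) (C.zpow_mem hgr _)

end Cfsg.Agent.Lib.Helper49
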