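import Mathlib
import Cfsg.Agent.Lib.Helper6.EqD.Defs

/-! # S5958 piece FO-2 (MONOMIAL): an operator of prime order `r` permuting the lines of a frame,
over a field without nontrivial `r`-th roots of unity, fixes a subspace of dimension at least
`(number of lines) / r`. -/

set_option autoImplicit false

namespace Cfsg.Agent.Lib.Helper6.EqD

open Module

section general
variable {F V : Type*} [Field F] [AddCommGroup V] [Module F V] [FiniteDimensional F V]

omit [FiniteDimensional F V] in
theorem fo2_map_pow {ι : Type*} (y : Module.End F V) {D : ι → Submodule F V} {σ : Equiv.Perm ι}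
    (hmap : ∀ i, (D i).map y = D (σ i)) (k : ℕ) (i : ι) :
    (D i).map (y ^ k) = D ((σ ^ k) i) := by
  induction k generalizing i with
  | zero =>
    simp only [pow_zero, Equiv.Perm.coe_one, id_eq]
    exact Submodule.map_id _
  | succ k ih =>
    rw [pow_succ, pow_succ, Module.End.mul_eq_comp, Submodule.map_comp, hmap, ih]
    rfl

theorem fo2_pow_ne {ι : Type*} {σ : Equiv.Perm ι} {r : ℕ} (hr : r.Prime) (hσr : σ ^ r = 1)
    {j : ι} (hj : σ j ≠ j) {i : ℕ} (hi0 : 0 < i) (hir : i < r) : (σ ^ i) j ≠ j := by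
  intro h
  apply hj
  have h1 : Function.IsPeriodicPt (⇑σ) i j := by
    show (⇑σ)^[i] j = j
    rw [Equiv.Perm.iterate_eq_pow]
    exact h
  have h2 : Function.IsPeriodicPt (⇑σ) r j := by
    show (⇑σ)^[r] j = j
    rw [Equiv.Perm.iterate_eq_pow, hσr]
    rfl
  have h3 := h1.gcd h2
  have hc : Nat.gcd i r = 1 :=
    Nat.Coprime.symm ((Nat.Prime.coprime_iff_not_dvd hr).2 (Nat.not_dvd_of_pos_of_lt hi0 hir))
  rw [hc] at h3
  exact h3

/-! ## FO-2 (MONOMIAL) -/
theorem card_le_mul_finrank_ker {ι : Type*} [Fintype ι] (y : Module.End F V) {r : ℕ} (hr : r.Prime)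
    (hy : y ^ r = 1) (hroot : ∀ μ : F, μ ^ r = 1 → μ = 1) {D : ι → Submodule F V}
    {σ : Equiv.Perm ι} (hD : Dec y 1 ⊤ D σ) :
    Fintype.card ι ≤ r * finrank F (LinearMap.ker (y - 1)) := by
  classical
  -- nonzero vectors spanning the lines
  have hex : ∀ i, ∃ v : V, v ∈ D i ∧ v ≠ 0 ∧ ∀ w ∈ D i, ∃ c : F, w = c • v := by
    intro i
    obtain ⟨⟨v, hv⟩, hv0, hall⟩ := finrank_eq_one_iff'.mp (hD.finrank_eq i)
    refine ⟨v, hv, fun h => hv0 (Subtype.ext h), fun w hw => ?_⟩
    obtain ⟨c, hc⟩ := hall ⟨w, hw⟩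
    refine ⟨c, ?_⟩
    have := congrArg Subtype.val hc
    simpa using this.symm
  choose v hvD hv0 hvall using hex
  have hDne : ∀ i, D i ≠ ⊥ := by
    intro i h
    apply hv0 i
    have := hvD i
    rw [h] at this
    simpa using this
  have hDinj : Function.Injective D := hD.indep.injective hDne
  have hσr : σ ^ r = 1 := by
    ext i
    apply hDinj
    rw [← fo2_map_pow y hD.map_eq r i, hy]
    simp only [Equiv.Perm.coe_one, id_eq]
    exact Submodule.map_id _
  -- the basis
  have hli : LinearIndependent F v := hD.indep.linearIndependent D hvD hv0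
  have hspan : ⊤ ≤ Submodule.span F (Set.range v) := by
    rw [← hD.iSup_eq]
    apply iSup_le
    intro i w hw
    obtain ⟨c, rfl⟩ := hvall i w hw
    exact Submodule.smul_mem _ _ (Submodule.subset_span ⟨i, rfl⟩)
  let b : Basis ι F V := Basis.mk hli hspan
  have hb : ∀ i, b i = v i := fun i => Basis.mk_apply hli hspan i
  -- coordinates of elements of a line
  have hcoord : ∀ (k : ι) (x : V), x ∈ D k → ∀ j, j ≠ k → b.repr x j = 0 := by
    intro k x hx j hjk
    obtain ⟨c, rfl⟩ := hvall k x hx
    rw [← hb k, map_smul, Basis.repr_self, Finsupp.smul_apply, Finsupp.single_apply,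
      if_neg (Ne.symm hjk), smul_zero]
  have hpowmem : ∀ (i : ℕ) (j : ι), (y ^ i) (v j) ∈ D ((σ ^ i) j) := by
    intro i j
    rw [← fo2_map_pow y hD.map_eq i j]
    exact Submodule.mem_map_of_mem (hvD j)
  -- the fixed lines are fixed pointwise
  have hfix : ∀ j, σ j = j → y (v j) = v j := by
    intro j hj
    have hmem : y (v j) ∈ D j := by
      have := hpowmem 1 j
      rwa [pow_one, pow_one, hj] at this
    obtain ⟨μ, hμ⟩ := hvall j _ hmem
    have hpow : ∀ n : ℕ, (y ^ n) (v j) = μ ^ n • v j := by
      intro n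
      induction n with
      | zero => simp
      | succ n ih =>
        rw [pow_succ, Module.End.mul_apply, hμ, map_smul, ih, smul_smul, pow_succ, mul_comm]
    have h1 : μ ^ r • v j = (1 : F) • v j := by
      rw [← hpow r, hy, one_smul]
      rfl
    have h2 : μ ^ r = 1 := by
      by_contra hne
      have : (μ ^ r - 1) • v j = 0 := by rw [sub_smul, h1, sub_self]
      rcases smul_eq_zero.mp this with h | h
      · exact hne (sub_eq_zero.mp h)
      · exact hv0 j h
    rw [hμ, hroot μ h2, one_smul]
  -- orbits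
  let s : Setoid ι := Equiv.Perm.SameCycle.setoid σ
  let Ω := Quotient s
  let rep : Ω → ι := Quotient.out
  have hrep_inj : Function.Injective rep := Quotient.out_injective
  have hrep_ne : ∀ ω ω' : Ω, ω ≠ ω' → ∀ i : ℕ, (σ ^ i) (rep ω) ≠ rep ω' := by
    intro ω ω' hne i h
    apply hne
    have hsc : Equiv.Perm.SameCycle σ (rep ω) (rep ω') := ⟨(i : ℤ), by simpa using h⟩
    have : (Quotient.mk s (rep ω) : Ω) = Quotient.mk s (rep ω') := Quotient.sound hsc
    rwa [Quotient.out_eq, Quotient.out_eq] at this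
  let w : Ω → V := fun ω =>
    if σ (rep ω) = rep ω then v (rep ω) else ∑ i ∈ Finset.range r, (y ^ i) (v (rep ω))
  have hwker : ∀ ω, w ω ∈ LinearMap.ker (y - 1) := by
    intro ω
    rw [LinearMap.mem_ker, LinearMap.sub_apply]
    by_cases hω : σ (rep ω) = rep ω
    · simp only [w, if_pos hω]
      rw [hfix _ hω]
      simp
    · simp only [w, if_neg hω]
      have h1 : ((y - 1) * ∑ i ∈ Finset.range r, y ^ i) (v (rep ω)) = 0 := by
        rw [mul_geom_sum, hy, sub_self]
        rfl
      rw [Module.End.mul_apply, LinearMap.sub_apply, LinearMap.sum_apply] at h1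
      exact h1
  -- coordinates of the `w ω`
  have hwcoord : ∀ ω ω' : Ω, b.repr (w ω) (rep ω') = if ω = ω' then 1 else 0 := by
    intro ω ω'
    by_cases hω : σ (rep ω) = rep ω
    · simp only [w, if_pos hω]
      rw [← hb, Basis.repr_self, Finsupp.single_apply]
      by_cases h : ω = ω'
      · rw [if_pos h, if_pos (by rw [h])]
      · rw [if_neg h, if_neg (fun e => h (hrep_inj e))]
    · simp only [w, if_neg hω]
      rw [map_sum, Finsupp.finsetSum_apply]
      by_cases h : ω = ω'
      · subst h
        rw [if_pos rfl, Finset.sum_eq_single 0]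
        · rw [pow_zero]
          show b.repr (v (rep ω)) (rep ω) = 1
          rw [← hb, Basis.repr_self, Finsupp.single_apply, if_pos rfl]
        · intro i hi hi0
          apply hcoord _ _ (hpowmem i (rep ω))
          exact (fo2_pow_ne hr hσr hω (Nat.pos_of_ne_zero hi0) (Finset.mem_range.mp hi)).symm
        · intro h0
          exact absurd (Finset.mem_range.mpr hr.pos) h0
      · rw [if_neg h]
        apply Finset.sum_eq_zero
        intro i _
        apply hcoord _ _ (hpowmem i (rep ω))
        exact (hrep_ne ω ω' h i).symm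
  -- linear independence
  have hwli : LinearIndependent F w := by
    rw [Fintype.linearIndependent_iff]
    intro g hg ω0
    have h1 := congrArg (fun x => b.repr x (rep ω0)) hg
    simp only [map_sum, map_smul, Finsupp.finsetSum_apply, Finsupp.smul_apply, map_zero,
      Finsupp.zero_apply] at h1
    rw [Finset.sum_eq_single ω0] at h1
    · rw [hwcoord, if_pos rfl, smul_eq_mul, mul_one] at h1
      exact h1
    · intro ω _ hne
      rw [hwcoord, if_neg hne, smul_zero]
    · intro h0
      exact absurd (Finset.mem_univ ω0) h0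
  let w' : Ω → LinearMap.ker (y - 1) := fun ω => ⟨w ω, hwker ω⟩
  have hw'li : LinearIndependent F w' := by
    apply LinearIndependent.of_comp (LinearMap.ker (y - 1)).subtype
    exact hwli
  have hΩ : Fintype.card Ω ≤ finrank F (LinearMap.ker (y - 1)) :=
    hw'li.fintype_card_le_finrank
  -- counting
  have hr0 : NeZero r := ⟨hr.ne_zero⟩
  let f : Ω × Fin r → ι := fun x => (σ ^ (x.2 : ℕ)) (rep x.1)
  have hf : Function.Surjective f := by
    intro j
    have hsc : Equiv.Perm.SameCycle σ (rep (Quotient.mk s j)) j := Quotient.mk_out (s := s) j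
    obtain ⟨i, hi⟩ := hsc.exists_nat_pow_eq
    refine ⟨(Quotient.mk s j, ⟨i % r, Nat.mod_lt _ hr.pos⟩), ?_⟩
    show (σ ^ (i % r)) (rep (Quotient.mk s j)) = j
    rw [← pow_eq_pow_mod i hσr]
    exact hi
  have hcard := Fintype.card_le_of_surjective f hf
  rw [Fintype.card_prod, Fintype.card_fin] at hcard
  calc Fintype.card ι ≤ Fintype.card Ω * r := hcard
    _ ≤ finrank F (LinearMap.ker (y - 1)) * r := Nat.mul_le_mul_right r hΩ
    _ = r * finrank F (LinearMap.ker (y - 1)) := Nat.mul_comm _ _

end general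

end Cfsg.Agent.Lib.Helper6.EqD
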