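import Mathlib.GroupTheory.Sylow
import Mathlib.GroupTheory.Index
import Cfsg.Prelude.Def_SylowControl

set_option autoImplicit false

namespace Cfsg.Agent.Lib.Helper49

open Cfsg

variable {G : Type*} [Group G]

/-! ### right conjugation -/

theorem mem_conjRight_iff (g y : G) (X : Subgroup G) :
    y ∈ subgroupConjRight g X ↔ g * y * g⁻¹ ∈ X := by
  unfold subgroupConjRight
  constructor
  · rintro ⟨z, hz, rfl⟩
    simp only [MulEquiv.coe_toMonoidHom, MulAut.conj_apply, inv_inv]
    have : g * (g⁻¹ * z * g) * g⁻¹ = z := by group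
    rw [this]; exact hz
  · intro h
    refine ⟨g * y * g⁻¹, h, ?_⟩
    simp only [MulEquiv.coe_toMonoidHom, MulAut.conj_apply, inv_inv]
    group

theorem conjRight_one (X : Subgroup G) : subgroupConjRight 1 X = X := by
  ext y; rw [mem_conjRight_iff]; simp

theorem conjRight_mul (g h : G) (X : Subgroup G) :
    subgroupConjRight (g * h) X = subgroupConjRight h (subgroupConjRight g X) := by
  ext y
  rw [mem_conjRight_iff, mem_conjRight_iff, mem_conjRight_iff]
  have : g * h * y * (g * h)⁻¹ = g * (h * y * h⁻¹) * g⁻¹ := by group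
  rw [this]

theorem conjRight_inv_cancel (g : G) (X : Subgroup G) :
    subgroupConjRight g⁻¹ (subgroupConjRight g X) = X := by
  rw [← conjRight_mul, mul_inv_cancel, conjRight_one]

theorem conjRight_cancel_inv (g : G) (X : Subgroup G) :
    subgroupConjRight g (subgroupConjRight g⁻¹ X) = X := by
  rw [← conjRight_mul, inv_mul_cancel, conjRight_one]

theorem conjRight_mono (g : G) {X Y : Subgroup G} (h : X ≤ Y) :
    subgroupConjRight g X ≤ subgroupConjRight g Y := Subgroup.map_mono h

theorem conjRight_inf (g : G) (X Y : Subgroup G) :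
    subgroupConjRight g (X ⊓ Y) = subgroupConjRight g X ⊓ subgroupConjRight g Y := by
  ext y
  simp only [mem_conjRight_iff, Subgroup.mem_inf]

theorem conjRight_eq_self_of_mem (g : G) (X : Subgroup G) (hg : g ∈ X) :
    subgroupConjRight g X = X := by
  ext y
  rw [mem_conjRight_iff]
  constructor
  · intro h
    have : y = g⁻¹ * (g * y * g⁻¹) * g := by group
    rw [this]
    exact X.mul_mem (X.mul_mem (X.inv_mem hg) h) hg
  · intro h
    exact X.mul_mem (X.mul_mem hg h) (X.inv_mem hg)

theorem conjRight_eq_self_iff (g : G) (X : Subgroup G) :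
    subgroupConjRight g X = X ↔ g ∈ Subgroup.normalizer (X : Set G) := by
  rw [← Subgroup.inv_mem_iff, Subgroup.mem_normalizer_iff_map_conj_eq]
  rfl

theorem conjRight_sylow {p : ℕ} (g : G) (S : Sylow p G) :
    subgroupConjRight g (S : Subgroup G) = ((g⁻¹ • S : Sylow p G) : Subgroup G) := by
  rw [Sylow.coe_subgroup_smul]
  rfl

/-! ### Sylow subgroups of a subgroup -/

/-- `D` is a Sylow `p`-subgroup of the subgroup `X`, stated by index. -/
def IsSylowIn (p : ℕ) (D X : Subgroup G) : Prop :=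
  D ≤ X ∧ IsPGroup p ↥D ∧ ¬ p ∣ D.relIndex X

theorem isSylowIn_iff [Finite G] {p : ℕ} [Fact p.Prime] (D X : Subgroup G) :
    (∃ P : Sylow p ↥X, (P : Subgroup ↥X).map X.subtype = D) ↔ IsSylowIn p D X := by
  constructor
  · rintro ⟨P, rfl⟩
    refine ⟨Subgroup.map_subtype_le _, P.isPGroup'.map _, ?_⟩
    have : ((P : Subgroup ↥X).map X.subtype).relIndex X = (P : Subgroup ↥X).index := by
      rw [Subgroup.relIndex, Subgroup.subgroupOf, Subgroup.comap_map_eq_self_of_injective
        X.subtype_injective]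
    rw [this]
    exact P.not_dvd_index
  · rintro ⟨hDX, hDp, hDi⟩
    have h1 : IsPGroup p ↥(D.subgroupOf X) := hDp.comap_subtype
    have h2 : ¬ p ∣ (D.subgroupOf X).index := hDi
    refine ⟨h1.toSylow h2, ?_⟩
    rw [IsPGroup.toSylow_coe, Subgroup.subgroupOf_map_subtype, inf_of_le_left hDX]

theorem IsSylowIn.conjRight {p : ℕ} {D X : Subgroup G} (h : IsSylowIn p D X) (g : G) :
    IsSylowIn p (subgroupConjRight g D) (subgroupConjRight g X) := by
  obtain ⟨h1, h2, h3⟩ := h
  refine ⟨conjRight_mono g h1, h2.map _, ?_⟩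
  unfold subgroupConjRight
  rw [Subgroup.relIndex_map_map_of_injective _ _ (MulAut.conj g⁻¹).injective]
  exact h3

theorem mem_sylowMembers_iff [Finite G] {p : ℕ} [Fact p.Prime] (𝓕 : Set (Subgroup G))
    (S X : Subgroup G) :
    X ∈ sylowMembers p 𝓕 S ↔ X ∈ 𝓕 ∧ IsSylowIn p (S ⊓ X) X := by
  unfold sylowMembers
  rw [Set.mem_ofPred_eq, isSylowIn_iff]

/-- transport of `sylowMembers` along right conjugation -/
theorem sylowMembers_conjRight [Finite G] {p : ℕ} [Fact p.Prime] {𝓕 : Set (Subgroup G)}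
    (h𝓕 : IsNormalSet 𝓕) {S X : Subgroup G} (hX : X ∈ sylowMembers p 𝓕 S) (g : G) :
    subgroupConjRight g X ∈ sylowMembers p 𝓕 (subgroupConjRight g S) := by
  rw [mem_sylowMembers_iff] at hX ⊢
  refine ⟨h𝓕 X hX.1 g, ?_⟩
  rw [← conjRight_inf]
  exact hX.2.conjRight g

/-- If `S` is a Sylow subgroup of `G` contained in `X`, then `X` is in `𝓕(S)` as soon as it is in `𝓕`. -/
theorem isSylowIn_of_sylow_le [Finite G] {p : ℕ} [Fact p.Prime] (S : Sylow p G) (X : Subgroup G)
    (h : (S : Subgroup G) ≤ X) : IsSylowIn p ((S : Subgroup G) ⊓ X) X := by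
  rw [inf_of_le_left h]
  refine ⟨h, S.isPGroup', ?_⟩
  intro hd
  exact S.not_dvd_index (dvd_trans hd (Subgroup.relIndex_dvd_index_of_le h))

end Cfsg.Agent.Lib.Helper49
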