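import Mathlib.GroupTheory.Sylow
import Mathlib.GroupTheory.Index
import Mathlib.Logic.Relation
import Cfsg.Prelude.Def_SylowChains
import Cfsg.Agent.Lib.Helper49.SylowControl

set_option autoImplicit false

namespace Cfsg.Agent.Lib.Helper49

open Cfsg

/-! ### chains versus `ReflTransGen` -/

theorem exists_chain_of_reflTransGen {α β : Type*} {R : α → α → β → Prop} {a b : α}
    (h : Relation.ReflTransGen (fun u v => ∃ w, R u v w) a b) :
    ∃ (n : ℕ) (c : Fin (n + 1) → α) (w : Fin n → β), c 0 = a ∧ c (Fin.last n) = b ∧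
      ∀ i : Fin n, R (c i.castSucc) (c i.succ) (w i) := by
  induction h with
  | refl => exact ⟨0, fun _ => a, Fin.elim0, rfl, rfl, fun i => i.elim0⟩
  | @tail b' c' hab hbc ih =>
    obtain ⟨n, c, w, h0, hl, hR⟩ := ih
    obtain ⟨w', hw'⟩ := hbc
    refine ⟨n + 1, Fin.snoc (α := fun _ => α) c c', Fin.snoc (α := fun _ => β) w w', ?_, ?_, ?_⟩
    · have : (0 : Fin (n + 1 + 1)) = Fin.castSucc (0 : Fin (n + 1)) := rfl
      rw [this, Fin.snoc_castSucc]; exact h0
    · rw [Fin.snoc_last]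
    · intro i
      refine Fin.lastCases ?_ (fun j => ?_) i
      · rw [Fin.snoc_castSucc, Fin.succ_last, Fin.snoc_last, Fin.snoc_last, hl]
        exact hw'
      · rw [Fin.snoc_castSucc, Fin.snoc_castSucc, Fin.succ_castSucc, Fin.snoc_castSucc]
        exact hR j

variable {G : Type*} [Group G]

/-! ### Sylow subgroups contained in a subgroup -/

theorem sylow_le_of_isSylowIn_inf [Finite G] {p : ℕ} [Fact p.Prime] (P₀ c : Sylow p G)
    (X : Subgroup G) (hP : (P₀ : Subgroup G) ≤ X) (h : IsSylowIn p ((c : Subgroup G) ⊓ X) X) :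
    (c : Subgroup G) ≤ X := by
  obtain ⟨P', hP'⟩ := (isSylowIn_iff ((c : Subgroup G) ⊓ X) X).mpr h
  have h1 : Nat.card ↥((c : Subgroup G) ⊓ X) = Nat.card (P' : Subgroup ↥X) := by
    rw [← hP', Subgroup.card_map_of_injective X.subtype_injective]
  have h2 : Nat.card (P' : Subgroup ↥X) = Nat.card ((P₀.subtype hP : Sylow p ↥X) : Subgroup ↥X) := by
    rw [Sylow.card_eq_multiplicity, Sylow.card_eq_multiplicity]
  have h3 : Nat.card ((P₀.subtype hP : Sylow p ↥X) : Subgroup ↥X) = Nat.card (P₀ : Subgroup G) := by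
    rw [Sylow.coe_subtype]
    exact Nat.card_congr (Subgroup.subgroupOfEquivOfLe hP).toEquiv
  have h4 : Nat.card (P₀ : Subgroup G) = Nat.card (c : Subgroup G) := by
    rw [Sylow.card_eq_multiplicity, Sylow.card_eq_multiplicity]
  have h5 : (c : Subgroup G) ⊓ X = (c : Subgroup G) :=
    Subgroup.eq_of_le_of_card_ge inf_le_left (by rw [h1, h2, h3, h4])
  exact inf_eq_left.mp h5

/-! ### the step relation inside a subgroup `M` -/

/-- the family induced by `f` in `M`, as subgroups of `M` -/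
def famIn (p : ℕ) (f : Subgroup G → Set (Subgroup G)) (M : Subgroup G) : Set (Subgroup ↥M) :=
  (fun X : Subgroup G => X.subgroupOf M) '' functorFamily p f M

/-- one step of a chain in `M`: `A ≤ T` and `Q`, `T` both normalize some `F ∈ f P`. -/
def StepM (p : ℕ) (f : Subgroup G → Set (Subgroup G)) (M : Subgroup G) (A : Subgroup ↥M)
    (Q T : Sylow p ↥M) : Prop :=
  A ≤ (T : Subgroup ↥M) ∧ ∃ (P : Sylow p ↥M) (F : Subgroup G),
    F ∈ f ((P : Subgroup ↥M).map M.subtype) ∧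
    (Q : Subgroup ↥M).map M.subtype ≤ Subgroup.normalizer (F : Set G) ∧
    (T : Subgroup ↥M).map M.subtype ≤ Subgroup.normalizer (F : Set G)

theorem StepM.mono {p : ℕ} {f : Subgroup G → Set (Subgroup G)} {M : Subgroup G} {A A' : Subgroup ↥M}
    (hA : A' ≤ A) {Q T : Sylow p ↥M} (h : StepM p f M A Q T) : StepM p f M A' Q T :=
  ⟨le_trans hA h.1, h.2⟩

/-! ### the step relation in `G` -/

/-- one step of a chain in `G` -/
def StepG (p : ℕ) (f : Subgroup G → Set (Subgroup G)) (A : Subgroup G) (Q T : Sylow p G) : Prop :=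
  A ≤ (T : Subgroup G) ∧ ∃ (P : Sylow p G) (F : Subgroup G), F ∈ f (P : Subgroup G) ∧
    (Q : Subgroup G) ≤ Subgroup.normalizer (F : Set G) ∧
    (T : Subgroup G) ≤ Subgroup.normalizer (F : Set G)

theorem StepG.mono {p : ℕ} {f : Subgroup G → Set (Subgroup G)} {A A' : Subgroup G}
    (hA : A' ≤ A) {Q T : Sylow p G} (h : StepG p f A Q T) : StepG p f A' Q T :=
  ⟨le_trans hA h.1, h.2⟩

theorem reflTransGen_stepG_mono {p : ℕ} {f : Subgroup G → Set (Subgroup G)} {A A' : Subgroup G}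
    (hA : A' ≤ A) {Q T : Sylow p G} (h : Relation.ReflTransGen (StepG p f A) Q T) :
    Relation.ReflTransGen (StepG p f A') Q T :=
  Relation.ReflTransGen.mono (fun _ _ h => h.mono hA) _ _ h

theorem coe_smul_sylow {p : ℕ} (g : G) (P : Sylow p G) :
    ((g • P : Sylow p G) : Subgroup G) = (P : Subgroup G).map (MulAut.conj g).toMonoidHom := by
  rw [Sylow.coe_subgroup_smul]; rfl

theorem mem_smul_sylow_iff {p : ℕ} (g y : G) (P : Sylow p G) :
    y ∈ ((g • P : Sylow p G) : Subgroup G) ↔ g⁻¹ * y * g ∈ (P : Subgroup G) := by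
  rw [coe_smul_sylow]
  constructor
  · rintro ⟨z, hz, rfl⟩
    simp only [MulEquiv.coe_toMonoidHom, MulAut.conj_apply]
    have : g⁻¹ * (g * z * g⁻¹) * g = z := by group
    rw [this]; exact hz
  · intro h
    refine ⟨g⁻¹ * y * g, h, ?_⟩
    simp only [MulEquiv.coe_toMonoidHom, MulAut.conj_apply]
    group

theorem mem_map_conj_iff (g y : G) (A : Subgroup G) :
    y ∈ A.map (MulAut.conj g).toMonoidHom ↔ g⁻¹ * y * g ∈ A := by
  constructor
  · rintro ⟨z, hz, rfl⟩
    simp only [MulEquiv.coe_toMonoidHom, MulAut.conj_apply]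
    have : g⁻¹ * (g * z * g⁻¹) * g = z := by group
    rw [this]; exact hz
  · intro h
    refine ⟨g⁻¹ * y * g, h, ?_⟩
    simp only [MulEquiv.coe_toMonoidHom, MulAut.conj_apply]
    group

/-- conjugating a step -/
theorem StepG.smul {p : ℕ} {f : Subgroup G → Set (Subgroup G)} (hf : IsNormalizerFunctor p f)
    {A : Subgroup G} {Q T : Sylow p G} (h : StepG p f A Q T) (g : G) :
    StepG p f (A.map (MulAut.conj g).toMonoidHom) (g • Q) (g • T) := by
  obtain ⟨hAT, P, F, hF, hQF, hTF⟩ := h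
  have hnorm : ∀ R : Sylow p G, (R : Subgroup G) ≤ Subgroup.normalizer (F : Set G) →
      ((g • R : Sylow p G) : Subgroup G) ≤
        Subgroup.normalizer ((F.map (MulAut.conj g).toMonoidHom : Subgroup G) : Set G) := by
    intro R hR
    rw [coe_smul_sylow, ← Subgroup.map_equiv_normalizer_eq]
    exact Subgroup.map_mono hR
  refine ⟨?_, g • P, F.map (MulAut.conj g).toMonoidHom, ?_, hnorm Q hQF, hnorm T hTF⟩
  · rw [coe_smul_sylow]; exact Subgroup.map_mono hAT
  · rw [coe_smul_sylow, (hf (P : Subgroup G) P.isPGroup').2 g]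
    exact ⟨F, hF, rfl⟩

theorem reflTransGen_stepG_smul {p : ℕ} {f : Subgroup G → Set (Subgroup G)}
    (hf : IsNormalizerFunctor p f) {A : Subgroup G} {Q T : Sylow p G}
    (h : Relation.ReflTransGen (StepG p f A) Q T) (g : G) :
    Relation.ReflTransGen (StepG p f (A.map (MulAut.conj g).toMonoidHom)) (g • Q) (g • T) :=
  Relation.ReflTransGen.lift (fun R : Sylow p G => g • R) (fun _ _ h => h.smul hf g) _ _ h

variable [Finite G] {p : ℕ} [Fact p.Prime] {f : Subgroup G → Set (Subgroup G)}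

theorem stepM_of_chain (hf : IsNormalizerFunctor p f) (M : Subgroup G) (A : Subgroup ↥M)
    (Q T : Sylow p ↥M) (X : Subgroup ↥M)
    (hXQ : X ∈ sylowMembers p (famIn p f M) (Q : Subgroup ↥M))
    (hXT : X ∈ sylowMembers p (famIn p f M) (T : Subgroup ↥M))
    (hA : A ≤ (T : Subgroup ↥M) ⊓ X) : StepM p f M A Q T := by
  rw [mem_sylowMembers_iff] at hXQ hXT
  obtain ⟨⟨X₀, ⟨P, F, hF, rfl⟩, rfl⟩, hQ⟩ := hXQ
  have hPX : (P : Subgroup ↥M) ≤ (M ⊓ Subgroup.normalizer (F : Set G)).subgroupOf M := by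
    intro y hy
    rw [Subgroup.mem_subgroupOf]
    refine ⟨y.2, ?_⟩
    have h1 := (hf ((P : Subgroup ↥M).map M.subtype) (P.isPGroup'.map _)).1 F hF
    exact h1.2 (Subgroup.le_normalizer ⟨y, hy, rfl⟩)
  have hQX := sylow_le_of_isSylowIn_inf P Q _ hPX hQ
  have hTX := sylow_le_of_isSylowIn_inf P T _ hPX hXT.2
  refine ⟨le_trans hA inf_le_left, P, F, hF, ?_, ?_⟩
  · rintro _ ⟨y, hy, rfl⟩
    exact (Subgroup.mem_subgroupOf.mp (hQX hy)).2
  · rintro _ ⟨y, hy, rfl⟩
    exact (Subgroup.mem_subgroupOf.mp (hTX hy)).2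

theorem chain_of_stepM (M : Subgroup G) (A : Subgroup ↥M) (Q T : Sylow p ↥M)
    (h : StepM p f M A Q T) :
    ∃ w : Subgroup ↥M × ↥M, w.1 ∈ sylowMembers p (famIn p f M) (Q : Subgroup ↥M) ∧
      w.1 ∈ sylowMembers p (famIn p f M) (T : Subgroup ↥M) ∧ w.2 ∈ w.1 ∧
      subgroupConjRight w.2 (T : Subgroup ↥M) = (Q : Subgroup ↥M) ∧ A ≤ (T : Subgroup ↥M) ⊓ w.1 := by
  obtain ⟨hAT, P, F, hF, hQF, hTF⟩ := h
  set X : Subgroup ↥M := (M ⊓ Subgroup.normalizer (F : Set G)).subgroupOf M with hX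
  have hXfam : X ∈ famIn p f M := ⟨M ⊓ Subgroup.normalizer (F : Set G), ⟨P, F, hF, rfl⟩, rfl⟩
  have hQX : (Q : Subgroup ↥M) ≤ X := by
    intro y hy
    rw [hX, Subgroup.mem_subgroupOf]
    exact ⟨y.2, hQF ⟨y, hy, rfl⟩⟩
  have hTX : (T : Subgroup ↥M) ≤ X := by
    intro y hy
    rw [hX, Subgroup.mem_subgroupOf]
    exact ⟨y.2, hTF ⟨y, hy, rfl⟩⟩
  obtain ⟨x, hx⟩ := MulAction.exists_smul_eq ↥X (T.subtype hTX) (Q.subtype hQX)
  rw [Sylow.smul_subtype] at hx
  have hx' : (x : ↥M) • T = Q := Sylow.subtype_injective hx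
  refine ⟨(X, (x : ↥M)⁻¹), ?_, ?_, ?_, ?_, ?_⟩
  · rw [mem_sylowMembers_iff]; exact ⟨hXfam, isSylowIn_of_sylow_le Q X hQX⟩
  · rw [mem_sylowMembers_iff]; exact ⟨hXfam, isSylowIn_of_sylow_le T X hTX⟩
  · exact X.inv_mem x.2
  · show subgroupConjRight (x : ↥M)⁻¹ (T : Subgroup ↥M) = (Q : Subgroup ↥M)
    rw [conjRight_sylow, inv_inv, hx']
  · exact le_inf hAT (le_trans hAT hTX)

/-- regularity gives `ReflTransGen` chains -/
theorem reflTransGen_of_regular (hf : IsNormalizerFunctor p f) (M : Subgroup G)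
    (hreg : IsFunctorRegular p f M) (Q T : Sylow p ↥M) (hne : Q ≠ T)
    (hinf : (Q : Subgroup ↥M) ⊓ (T : Subgroup ↥M) ≠ ⊥) :
    Relation.ReflTransGen (StepM p f M ((Q : Subgroup ↥M) ⊓ (T : Subgroup ↥M))) Q T := by
  obtain ⟨n, c, X, x, h0, hl, hstep⟩ := hreg Q T hne hinf
  have key : ∀ i : Fin (n + 1),
      Relation.ReflTransGen (StepM p f M ((Q : Subgroup ↥M) ⊓ (T : Subgroup ↥M))) (c 0) (c i) := by
    intro i
    induction i using Fin.induction with
    | zero => exact Relation.ReflTransGen.refl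
    | succ i ih =>
      obtain ⟨h1, h2, _, _, h5⟩ := hstep i
      exact ih.tail (stepM_of_chain hf M _ _ _ (X i) h1 h2 h5)
  have := key (Fin.last n)
  rwa [h0, hl] at this

/-- `ReflTransGen` chains give regularity -/
theorem regular_of_reflTransGen (M : Subgroup G)
    (h : ∀ Q T : Sylow p ↥M, Q ≠ T → (Q : Subgroup ↥M) ⊓ (T : Subgroup ↥M) ≠ ⊥ →
      Relation.ReflTransGen (StepM p f M ((Q : Subgroup ↥M) ⊓ (T : Subgroup ↥M))) Q T) :
    IsFunctorRegular p f M := by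
  intro Q T hne hinf
  have h1 := h Q T hne hinf
  have h2 : Relation.ReflTransGen (fun u v : Sylow p ↥M => ∃ w : Subgroup ↥M × ↥M,
      w.1 ∈ sylowMembers p (famIn p f M) (u : Subgroup ↥M) ∧
      w.1 ∈ sylowMembers p (famIn p f M) (v : Subgroup ↥M) ∧ w.2 ∈ w.1 ∧
      subgroupConjRight w.2 (v : Subgroup ↥M) = (u : Subgroup ↥M) ∧
      (Q : Subgroup ↥M) ⊓ (T : Subgroup ↥M) ≤ (v : Subgroup ↥M) ⊓ w.1) Q T :=
    Relation.ReflTransGen.mono (fun u v huv => chain_of_stepM M _ u v huv) _ _ h1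
  obtain ⟨n, c, w, h0, hl, hR⟩ := exists_chain_of_reflTransGen h2
  exact ⟨n, c, fun i => (w i).1, fun i => (w i).2, h0, hl, hR⟩


/-- a Sylow subgroup of `M` as a Sylow subgroup of `G`, when `p ∤ |G : M|`. -/
noncomputable def sylowUp (M : Subgroup G) (hM : ¬ p ∣ M.index) (Q : Sylow p ↥M) : Sylow p G :=
  (Q.isPGroup'.map M.subtype).toSylow (by
    rw [Subgroup.index_map_subtype]
    exact Nat.Prime.not_dvd_mul Fact.out Q.not_dvd_index hM)

theorem coe_sylowUp (M : Subgroup G) (hM : ¬ p ∣ M.index) (Q : Sylow p ↥M) :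
    (sylowUp M hM Q : Subgroup G) = (Q : Subgroup ↥M).map M.subtype :=
  IsPGroup.toSylow_coe _ _

theorem sylowUp_subtype (M : Subgroup G) (hM : ¬ p ∣ M.index) (Q : Sylow p G)
    (hQ : (Q : Subgroup G) ≤ M) : sylowUp M hM (Q.subtype hQ) = Q := by
  apply Sylow.ext
  rw [coe_sylowUp, Sylow.coe_subtype, Subgroup.subgroupOf_map_subtype, inf_of_le_left hQ]

theorem stepG_of_stepM (M : Subgroup G) (hM : ¬ p ∣ M.index) {A : Subgroup ↥M} {Q T : Sylow p ↥M}
    (h : StepM p f M A Q T) :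
    StepG p f (A.map M.subtype) (sylowUp M hM Q) (sylowUp M hM T) := by
  obtain ⟨hAT, P, F, hF, hQF, hTF⟩ := h
  refine ⟨?_, sylowUp M hM P, F, ?_, ?_, ?_⟩
  · rw [coe_sylowUp]; exact Subgroup.map_mono hAT
  · rw [coe_sylowUp]; exact hF
  · rw [coe_sylowUp]; exact hQF
  · rw [coe_sylowUp]; exact hTF

theorem stepM_top_of_stepG {A : Subgroup G} {Q T : Sylow p G} (h : StepG p f A Q T) :
    StepM p f ⊤ (A.subgroupOf ⊤) (Q.subtype le_top) (T.subtype le_top) := by
  obtain ⟨hAT, P, F, hF, hQF, hTF⟩ := h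
  have hmap : ∀ R : Sylow p G, ((R.subtype le_top : Sylow p ↥(⊤ : Subgroup G)) :
      Subgroup ↥(⊤ : Subgroup G)).map (⊤ : Subgroup G).subtype = (R : Subgroup G) := by
    intro R
    rw [Sylow.coe_subtype, Subgroup.subgroupOf_map_subtype, inf_of_le_left le_top]
  refine ⟨?_, P.subtype le_top, F, ?_, ?_, ?_⟩
  · rw [Sylow.coe_subtype]
    intro y hy
    rw [Subgroup.mem_subgroupOf] at hy ⊢
    exact hAT hy
  · rw [hmap]; exact hF
  · rw [hmap]; exact hQF
  · rw [hmap]; exact hTF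


/-! ### regularity of a subgroup containing Sylow subgroups of `G`, read in `G` -/

theorem linkG_of_regular (hf : IsNormalizerFunctor p f) (M : Subgroup G)
    (hreg : IsFunctorRegular p f M) (Q T : Sylow p G) (hQ : (Q : Subgroup G) ≤ M)
    (hT : (T : Subgroup G) ≤ M) (hne : Q ≠ T) (hinf : (Q : Subgroup G) ⊓ (T : Subgroup G) ≠ ⊥) :
    Relation.ReflTransGen (StepG p f ((Q : Subgroup G) ⊓ (T : Subgroup G))) Q T := by
  have hM : ¬ p ∣ M.index := fun h => Q.not_dvd_index (dvd_trans h (Subgroup.index_dvd_of_le hQ))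
  have hne' : Q.subtype hQ ≠ T.subtype hT := fun h => hne (Sylow.subtype_injective h)
  have hinf' : ((Q.subtype hQ : Sylow p ↥M) : Subgroup ↥M) ⊓
      ((T.subtype hT : Sylow p ↥M) : Subgroup ↥M) ≠ ⊥ := by
    intro h
    apply hinf
    rw [eq_bot_iff]
    intro y hy
    have hmem : (⟨y, hQ hy.1⟩ : ↥M) ∈ ((Q.subtype hQ : Sylow p ↥M) : Subgroup ↥M) ⊓
        ((T.subtype hT : Sylow p ↥M) : Subgroup ↥M) := by
      rw [Sylow.coe_subtype, Sylow.coe_subtype]
      exact ⟨Subgroup.mem_subgroupOf.mpr hy.1, Subgroup.mem_subgroupOf.mpr hy.2⟩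
    rw [h, Subgroup.mem_bot] at hmem
    rw [Subgroup.mem_bot]
    exact congrArg Subtype.val hmem
  have h1 := reflTransGen_of_regular hf M hreg _ _ hne' hinf'
  have h2 : Relation.ReflTransGen (StepG p f ((((Q.subtype hQ : Sylow p ↥M) : Subgroup ↥M) ⊓
      ((T.subtype hT : Sylow p ↥M) : Subgroup ↥M)).map M.subtype))
      (sylowUp M hM (Q.subtype hQ)) (sylowUp M hM (T.subtype hT)) :=
    Relation.ReflTransGen.lift (sylowUp M hM) (fun _ _ h => stepG_of_stepM M hM h) _ _ h1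
  rw [sylowUp_subtype, sylowUp_subtype] at h2
  refine reflTransGen_stepG_mono ?_ h2
  intro y hy
  refine ⟨⟨y, hQ hy.1⟩, ?_, rfl⟩
  rw [Sylow.coe_subtype, Sylow.coe_subtype]
  exact ⟨Subgroup.mem_subgroupOf.mpr hy.1, Subgroup.mem_subgroupOf.mpr hy.2⟩

/-! ### the factorisation argument -/

section Main

variable (hf : IsNormalizerFunctor p f) (S : Sylow p G) (G₁ G₂ : Subgroup G)
  (h₁ : (S : Subgroup G) ≤ G₁) (h₂ : (S : Subgroup G) ≤ G₂)
  (hr₁ : IsFunctorRegular p f G₁) (hr₂ : IsFunctorRegular p f G₂)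
  (hU : ∀ g : G, ∃ U : Sylow p G, (S : Subgroup G) ⊓ subgroupConjRight g (S : Subgroup G) ≤
    (U : Subgroup G) ∧ (U : Subgroup G) ≤ G₁ ⊓ subgroupConjRight g G₂)

include hf h₁ h₂ hr₁ hr₂ hU

theorem link_from_S (T : Sylow p G) (hinf : (S : Subgroup G) ⊓ (T : Subgroup G) ≠ ⊥) :
    Relation.ReflTransGen (StepG p f ((S : Subgroup G) ⊓ (T : Subgroup G))) S T := by
  obtain ⟨k, hk⟩ := MulAction.exists_smul_eq G S T
  obtain ⟨U, hU1, hU2⟩ := hU k⁻¹
  rw [conjRight_sylow, inv_inv, hk] at hU1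
  -- chain 1
  have c1 : Relation.ReflTransGen (StepG p f ((S : Subgroup G) ⊓ (T : Subgroup G))) S U := by
    by_cases hSU : S = U
    · rw [← hSU]
    · have hinf1 : (S : Subgroup G) ⊓ (U : Subgroup G) ≠ ⊥ := fun h =>
        hinf (eq_bot_iff.mpr (h ▸ le_inf inf_le_left hU1))
      exact reflTransGen_stepG_mono (le_inf inf_le_left hU1)
        (linkG_of_regular hf G₁ hr₁ S U h₁ (le_trans hU2 inf_le_left) hSU hinf1)
  -- chain 2
  have hV : ((k⁻¹ • U : Sylow p G) : Subgroup G) ≤ G₂ := by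
    intro y hy
    rw [mem_smul_sylow_iff, inv_inv] at hy
    have h3 : k * y * k⁻¹ ∈ subgroupConjRight k⁻¹ G₂ := (hU2 hy).2
    rw [mem_conjRight_iff] at h3
    have h4 : k⁻¹ * (k * y * k⁻¹) * k⁻¹⁻¹ = y := by group
    rwa [h4] at h3
  have hkT : k⁻¹ • T = S := by rw [← hk, inv_smul_smul]
  have c2 : Relation.ReflTransGen (StepG p f ((S : Subgroup G) ⊓ (T : Subgroup G))) U T := by
    by_cases hVS : k⁻¹ • U = S
    · have : U = T := by rw [← hk, ← hVS, smul_inv_smul]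
      rw [this]
    · have hAV : ∀ y ∈ (S : Subgroup G) ⊓ (T : Subgroup G),
          k⁻¹ * y * k ∈ ((k⁻¹ • U : Sylow p G) : Subgroup G) ⊓ (S : Subgroup G) := by
        intro y hy
        rw [Subgroup.mem_inf]
        constructor
        · rw [mem_smul_sylow_iff, inv_inv]
          have h4 : k * (k⁻¹ * y * k) * k⁻¹ = y := by group
          rw [h4]; exact hU1 hy
        · have h5 : y ∈ (T : Subgroup G) := hy.2
          rw [← hk, mem_smul_sylow_iff] at h5
          exact h5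
      have hinf2 : ((k⁻¹ • U : Sylow p G) : Subgroup G) ⊓ (S : Subgroup G) ≠ ⊥ := by
        intro h
        apply hinf
        rw [eq_bot_iff]
        intro y hy
        have h6 := hAV y hy
        rw [h, Subgroup.mem_bot] at h6
        rw [Subgroup.mem_bot]
        have h7 : y = k * (k⁻¹ * y * k) * k⁻¹ := by group
        rw [h7, h6]; group
      have h3 := linkG_of_regular hf G₂ hr₂ (k⁻¹ • U) S hV h₂ hVS hinf2
      have h4 := reflTransGen_stepG_smul hf h3 k
      rw [smul_inv_smul, hk] at h4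
      refine reflTransGen_stepG_mono ?_ h4
      intro y hy
      rw [mem_map_conj_iff]
      exact hAV y hy
  exact c1.trans c2

theorem link_all (Q T : Sylow p G) (hinf : (Q : Subgroup G) ⊓ (T : Subgroup G) ≠ ⊥) :
    Relation.ReflTransGen (StepG p f ((Q : Subgroup G) ⊓ (T : Subgroup G))) Q T := by
  obtain ⟨h, hh⟩ := MulAction.exists_smul_eq G S Q
  have hT : h • (h⁻¹ • T) = T := smul_inv_smul h T
  have hle : (Q : Subgroup G) ⊓ (T : Subgroup G) ≤
      ((S : Subgroup G) ⊓ ((h⁻¹ • T : Sylow p G) : Subgroup G)).map (MulAut.conj h).toMonoidHom := by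
    intro y hy
    rw [mem_map_conj_iff, Subgroup.mem_inf]
    constructor
    · have h5 : y ∈ (Q : Subgroup G) := hy.1
      rw [← hh, mem_smul_sylow_iff] at h5
      exact h5
    · have h5 : y ∈ (T : Subgroup G) := hy.2
      rw [← hT, mem_smul_sylow_iff] at h5
      exact h5
  have hinf0 : (S : Subgroup G) ⊓ ((h⁻¹ • T : Sylow p G) : Subgroup G) ≠ ⊥ := by
    intro e
    apply hinf
    rw [eq_bot_iff]
    intro y hy
    have h6 := hle hy
    rw [e, Subgroup.map_bot] at h6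
    exact h6
  have h1 := link_from_S hf S G₁ G₂ h₁ h₂ hr₁ hr₂ hU (h⁻¹ • T) hinf0
  have h2 := reflTransGen_stepG_smul hf h1 h
  rw [hh, hT] at h2
  exact reflTransGen_stepG_mono hle h2

theorem regular_top_of_factorisation : IsFunctorRegular p f ⊤ := by
  apply regular_of_reflTransGen
  intro Q' T' hne hinf
  have hM : ¬ p ∣ (⊤ : Subgroup G).index := by
    rw [Subgroup.index_top]; exact Nat.Prime.not_dvd_one Fact.out
  have hsub : ∀ R' : Sylow p ↥(⊤ : Subgroup G), (sylowUp ⊤ hM R').subtype le_top = R' := by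
    intro R'
    apply Sylow.ext
    rw [Sylow.coe_subtype, coe_sylowUp]
    ext y
    rw [Subgroup.mem_subgroupOf]
    constructor
    · rintro ⟨z, hz, hzy⟩
      have : z = y := Subtype.ext hzy
      rw [← this]; exact hz
    · intro hy
      exact ⟨y, hy, rfl⟩
  have hmem : ∀ (R' : Sylow p ↥(⊤ : Subgroup G)) (y : ↥(⊤ : Subgroup G)),
      y ∈ (R' : Subgroup ↥(⊤ : Subgroup G)) → (y : G) ∈ (sylowUp ⊤ hM R' : Subgroup G) := by
    intro R' y hy
    rw [coe_sylowUp]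
    exact ⟨y, hy, rfl⟩
  have hinfG : (sylowUp ⊤ hM Q' : Subgroup G) ⊓ (sylowUp ⊤ hM T' : Subgroup G) ≠ ⊥ := by
    intro e
    apply hinf
    rw [eq_bot_iff]
    intro y hy
    have h6 : (y : G) ∈ (sylowUp ⊤ hM Q' : Subgroup G) ⊓ (sylowUp ⊤ hM T' : Subgroup G) :=
      ⟨hmem Q' y hy.1, hmem T' y hy.2⟩
    rw [e, Subgroup.mem_bot] at h6
    rw [Subgroup.mem_bot]
    exact Subtype.ext h6
  have h1 := link_all hf S G₁ G₂ h₁ h₂ hr₁ hr₂ hU (sylowUp ⊤ hM Q') (sylowUp ⊤ hM T') hinfG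
  have h2 : Relation.ReflTransGen (StepM p f ⊤
      (((sylowUp ⊤ hM Q' : Subgroup G) ⊓ (sylowUp ⊤ hM T' : Subgroup G)).subgroupOf ⊤))
      ((sylowUp ⊤ hM Q').subtype le_top) ((sylowUp ⊤ hM T').subtype le_top) :=
    Relation.ReflTransGen.lift (fun R : Sylow p G => R.subtype le_top)
      (fun _ _ h => stepM_top_of_stepG h) _ _ h1
  rw [hsub, hsub] at h2
  refine Relation.ReflTransGen.mono (fun _ _ h => h.mono ?_) _ _ h2
  intro y hy
  rw [Subgroup.mem_subgroupOf]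
  exact ⟨hmem Q' y hy.1, hmem T' y hy.2⟩

end Main

end Cfsg.Agent.Lib.Helper49
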