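import Cfsg.Agent.Lib.Helper49.HHLemmaM7
import Cfsg.Agent.Lib.Helper66.HHPairDefs

/-! # Lemma M for the Hall–Higman bound (helper49, ASK-M of helper66 for S3786) -/

set_option autoImplicit false

namespace Cfsg.Agent.Lib.Helper49.HHM

universe w t

/-- the core statement, for a faithful action -/
theorem core {p : ℕ} [hpF : Fact p.Prime] (hp2 : p ≠ 2) {q : ℕ} (hq : q.Prime) (hqp : q ≠ p)
    {U : Type*} [CommGroup U] [Finite U] (hUq : ∀ a : U, a ^ q = 1)
    {P : Type*} [Group P] [Finite P] (hP : IsPGroup p P) (ψ : P →* MulAut U)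
    (hψ : Function.Injective ψ)
    (hirr : ∀ W : Subgroup U, (∀ g : P, ∀ w ∈ W, ψ g w ∈ W) → W = ⊥ ∨ W = ⊤)
    (x y : P) (hgen : Subgroup.closure {x, y} = ⊤) (n n' : ℕ) (hn : 1 ≤ n) (hn' : 1 ≤ n')
    (hx : x ^ p ^ n = 1) (hy : y ^ p ^ n' = 1)
    (hI1x : Nat.card U ≤ Nat.card ↥(fixSub (ψ (x ^ p ^ (n - 1)))) * (p ^ n - 1) ^ 2)
    (hI2x : Nat.card U = Nat.card ↥(fixSub (ψ (x ^ p ^ (n - 1)))) * (p ^ n - 1) ^ 2 →
      ∀ u : U, ψ (x ^ p ^ (n - 1)) u = u → ψ x u = u)
    (hI1y : Nat.card U ≤ Nat.card ↥(fixSub (ψ (y ^ p ^ (n' - 1)))) * (p ^ n' - 1) ^ 2)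
    (hI2y : Nat.card U = Nat.card ↥(fixSub (ψ (y ^ p ^ (n' - 1)))) * (p ^ n' - 1) ^ 2 →
      ∀ u : U, ψ (y ^ p ^ (n' - 1)) u = u → ψ y u = u) :
    Commute (ψ (x ^ p ^ (n - 1))) (ψ (y ^ p ^ (n' - 1))) := by
  by_contra hnc
  have hp := hpF.out
  have hncP : ∃ a b : P, a * b ≠ b * a :=
    ⟨x ^ p ^ (n - 1), y ^ p ^ (n' - 1), fun h => hnc (Commute.map h ψ)⟩
  have hcardU : 1 < Nat.card U := by
    by_contra hle
    push Not at hle
    have hsub : Subsingleton U := Finite.card_le_one_iff_subsingleton.1 hle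
    apply hnc
    have : ∀ f g : MulAut U, f = g := fun f g => MulEquiv.ext (fun u => Subsingleton.elim _ _)
    exact this _ _
  have hU : ∀ u : U, u ^ p = 1 → u = 1 := pow_inj_of_exp hp hq hqp hUq
  have hUs : ∀ u : U, ∃ v : U, v ^ p = u := pow_surj_of_exp hp hq hqp hUq
  obtain ⟨z, w, hzc, hz1, hzp, hwp, hwc, hconj⟩ := exists_setup ψ hp2 hP hψ hirr hncP hU
  have ha : Commute (x ^ p ^ (n - 1)) w :=
    in_T0 ψ hp hψ hirr hU hUs hzc hz1 hzp hwp hconj x n hn hx hcardU hI1x hp2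
  have hb : Commute (y ^ p ^ (n' - 1)) w :=
    in_T0 ψ hp hψ hirr hU hUs hzc hz1 hzp hwp hconj y n' hn' hy hcardU hI1y hp2
  by_cases hxw : Commute x w
  · by_cases hyw : Commute y w
    · apply hwc
      have hle : Subgroup.closure {x, y} ≤ Subgroup.centralizer {w} := by
        rw [Subgroup.closure_le]
        intro g hg
        rw [SetLike.mem_coe, Subgroup.mem_centralizer_iff]
        intro h hh
        rw [Set.mem_singleton_iff] at hh
        subst hh
        rcases hg with rfl | hg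
        · exact hxw.eq.symm
        · rw [Set.mem_singleton_iff] at hg
          subst hg
          exact hyw.eq.symm
      rw [hgen] at hle
      rw [Subgroup.mem_center_iff]
      intro g
      have := hle (Subgroup.mem_top g)
      rw [Subgroup.mem_centralizer_iff] at this
      exact (this w rfl).symm
    · exact hnc (case_ii ψ hp hψ hirr hU hUs hzc hz1 hzp hwp hconj y (x ^ p ^ (n - 1)) n' hy
        hI1y hI2y hp2 hyw hb ha).symm
  · exact hnc (case_ii ψ hp hψ hirr hU hUs hzc hz1 hzp hwp hconj x (y ^ p ^ (n' - 1)) n hx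
      hI1x hI2x hp2 hxw ha hb)

/-- **Lemma M** in the form requested by helper66. -/
theorem lemmaM {p : ℕ} [Fact p.Prime] (hp2 : p ≠ 2) :
    Cfsg.Agent.Lib.Helper66.HHPair.LemmaMStmt.{w, t} p := by
  intro q hq hqp U _ _ hUc hUq T _ _ hT θ hirr x y hgen n n' hn hn' hx hy hI1x hI2x hI1y hI2y
  let instC : CommGroup U := { (inferInstance : Group U) with mul_comm := hUc }
  have hsurj : Function.Surjective θ.rangeRestrict := θ.rangeRestrict_surjective
  have : Finite ↥θ.range := Finite.of_surjective _ hsurj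
  have hP : IsPGroup p ↥θ.range := hT.of_surjective θ.rangeRestrict hsurj
  have hψ : Function.Injective θ.range.subtype := Subgroup.subtype_injective _
  have hirr' : ∀ W : Subgroup U, (∀ g : ↥θ.range, ∀ w ∈ W, θ.range.subtype g w ∈ W) →
      W = ⊥ ∨ W = ⊤ := by
    intro W h
    exact hirr W (fun g w hw => h ⟨θ g, g, rfl⟩ w hw)
  have hgen' : Subgroup.closure {θ.rangeRestrict x, θ.rangeRestrict y} = ⊤ := by
    have := congrArg (Subgroup.map θ.rangeRestrict) hgen
    rw [MonoidHom.map_closure, Subgroup.map_top_of_surjective _ hsurj, Set.image_pair] at this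
    exact this
  have hpow : ∀ (g : T) (k : ℕ), θ.range.subtype ((θ.rangeRestrict g) ^ k) = θ (g ^ k) := by
    intro g k
    rw [map_pow, map_pow]
    rfl
  have hx' : (θ.rangeRestrict x) ^ p ^ n = 1 := by
    apply hψ
    rw [hpow, hx, map_one, map_one]
  have hy' : (θ.rangeRestrict y) ^ p ^ n' = 1 := by
    apply hψ
    rw [hpow, hy, map_one, map_one]
  have hcard : ∀ g : MulAut U, Nat.card ↥(fixSub g) = Nat.card {u : U // g u = u} :=
    fun g => Nat.card_congr (Equiv.subtypeEquivRight (fun u => Iff.rfl))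
  have h1 : θ.range.subtype (θ.rangeRestrict x) = θ x := rfl
  have h2 : θ.range.subtype (θ.rangeRestrict y) = θ y := rfl
  have key := core hp2 hq hqp hUq hP θ.range.subtype hψ hirr' (θ.rangeRestrict x)
    (θ.rangeRestrict y) hgen' n n' hn hn' hx' hy'
    (by rw [hpow, hcard]; exact hI1x)
    (by rw [hpow, hcard, h1]; exact hI2x)
    (by rw [hpow, hcard]; exact hI1y)
    (by rw [hpow, hcard, h2]; exact hI2y)
  rw [hpow, hpow] at key
  exact key.eq

end Cfsg.Agent.Lib.Helper49.HHM
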