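import Mathlib

/-! # Lemma M for the Hall–Higman bound (helper49, for helper66's S3786), part 1:
norm maps of automorphisms of a finite abelian group and the eigen-decomposition
for an action of `C_p × C_p` with a fixed-point-free central direction. -/

set_option autoImplicit false

namespace Cfsg.Agent.Lib.Helper49.HHM

open Finset

variable {U : Type*} [CommGroup U]

/-- fixed points of an automorphism, as a subgroup -/
def fixSub (g : MulAut U) : Subgroup U where
  carrier := {u | g u = u}
  mul_mem' := by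
    intro a b ha hb
    simp only [Set.mem_ofPred_eq] at *
    rw [map_mul, ha, hb]
  one_mem' := by simp
  inv_mem' := by
    intro a ha
    simp only [Set.mem_ofPred_eq] at *
    rw [map_inv, ha]

theorem mem_fixSub {g : MulAut U} {u : U} : u ∈ fixSub g ↔ g u = u := Iff.rfl

theorem pow_apply_of_fixed {g : MulAut U} {u : U} (h : g u = u) (j : ℕ) : (g ^ j) u = u := by
  induction j with
  | zero => simp
  | succ j ih => rw [pow_succ, MulAut.mul_apply, h, ih]

/-- the norm map of an automorphism (product over the first `p` powers) -/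
def nrm (p : ℕ) (g : MulAut U) : U →* U where
  toFun u := ∏ j ∈ range p, (g ^ j) u
  map_one' := by simp
  map_mul' := by
    intro a b
    simp only [map_mul]
    rw [Finset.prod_mul_distrib]

theorem nrm_apply (p : ℕ) (g : MulAut U) (u : U) : nrm p g u = ∏ j ∈ range p, (g ^ j) u := rfl

theorem apply_nrm {p : ℕ} {g : MulAut U} (hg : g ^ p = 1) (u : U) : g (nrm p g u) = nrm p g u := by
  rw [nrm_apply, map_prod]
  have h1 : ∀ j, g ((g ^ j) u) = (g ^ (j + 1)) u := by
    intro j
    rw [pow_succ']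
    rfl
  simp_rw [h1]
  have h2 := Finset.prod_range_succ' (fun j => (g ^ j) u) p
  have h3 := Finset.prod_range_succ (fun j => (g ^ j) u) p
  rw [h2] at h3
  simp only [pow_zero, hg, MulAut.one_apply] at h3
  exact mul_right_cancel h3

theorem nrm_of_fixed {p : ℕ} {g : MulAut U} {u : U} (h : g u = u) : nrm p g u = u ^ p := by
  rw [nrm_apply]
  rw [Finset.prod_congr rfl (fun j _ => pow_apply_of_fixed h j)]
  simp

theorem nrm_mem_fixSub {p : ℕ} {g : MulAut U} (hg : g ^ p = 1) (u : U) : nrm p g u ∈ fixSub g :=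
  apply_nrm hg u

theorem apply_nrm_comm {p : ℕ} {g h : MulAut U} (hc : Commute g h) (u : U) :
    g (nrm p h u) = nrm p h (g u) := by
  rw [nrm_apply, nrm_apply, map_prod]
  apply Finset.prod_congr rfl
  intro j _
  have := (hc.pow_right j).eq
  calc g ((h ^ j) u) = (g * h ^ j) u := rfl
    _ = (h ^ j * g) u := by rw [this]
    _ = (h ^ j) (g u) := rfl

theorem nrm_conj (p : ℕ) (G E : MulAut U) (u : U) :
    nrm p (G * E * G⁻¹) u = G (nrm p E (G⁻¹ u)) := by
  rw [nrm_apply, nrm_apply, map_prod]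
  apply Finset.prod_congr rfl
  intro j _
  rw [conj_pow]
  rfl

/-- the automorphisms `W * Z ^ k` -/
def eK (W Z : MulAut U) (k : ℕ) : MulAut U := W * Z ^ k

section decomp

variable {p : ℕ} {W Z : MulAut U}

theorem eK_pow (hWZ : Commute W Z) (k j : ℕ) : (eK W Z k) ^ j = W ^ j * (Z ^ j) ^ k := by
  unfold eK
  rw [(hWZ.pow_right k).mul_pow, ← pow_mul, ← pow_mul, mul_comm k j]

theorem eK_pow_p (hWZ : Commute W Z) (hW : W ^ p = 1) (hZ : Z ^ p = 1) (k : ℕ) :
    (eK W Z k) ^ p = 1 := by
  rw [eK_pow hWZ, hW, hZ, one_pow, one_mul]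

theorem commute_eK (hWZ : Commute W Z) (k k' : ℕ) : Commute (eK W Z k) (eK W Z k') := by
  unfold eK
  have h1 : Commute W (Z ^ k') := hWZ.pow_right k'
  have h2 : Commute (Z ^ k) W := (hWZ.pow_right k).symm
  have h3 : Commute (Z ^ k) (Z ^ k') := (Commute.refl Z).pow_pow k k'
  exact ((Commute.refl W).mul_right h1).mul_left (h2.mul_right h3)

theorem commute_eK_of {A : MulAut U} (hW : Commute A W) (hZ : Commute A Z) (k : ℕ) :
    Commute A (eK W Z k) := by
  unfold eK
  exact hW.mul_right (hZ.pow_right k)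

/-- key identity: the product of the norms along the `p` directions `W Z^k` is the `p`-th power -/
theorem prod_nrm_eK (hWZ : Commute W Z) (hZ : Z ^ p = 1)
    (hfpf : ∀ j, 0 < j → j < p → ∀ u : U, (Z ^ j) u = u → u = 1) (hp : 0 < p) (u : U) :
    ∏ k ∈ range p, nrm p (eK W Z k) u = u ^ p := by
  have h1 : ∀ k, nrm p (eK W Z k) u = ∏ j ∈ range p, (W ^ j) (((Z ^ j) ^ k) u) := by
    intro k
    rw [nrm_apply]
    apply Finset.prod_congr rfl
    intro j _
    rw [eK_pow hWZ]
    rfl
  simp_rw [h1]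
  rw [Finset.prod_comm]
  have h2 : ∀ j, ∏ k ∈ range p, (W ^ j) (((Z ^ j) ^ k) u) = (W ^ j) (nrm p (Z ^ j) u) := by
    intro j
    rw [nrm_apply, map_prod]
  simp_rw [h2]
  rw [Finset.prod_eq_single 0]
  · simp only [pow_zero, MulAut.one_apply]
    exact nrm_of_fixed (g := (1 : MulAut U)) (by simp)
  · intro j hj hj0
    have hjp : j < p := Finset.mem_range.1 hj
    have hZj : (Z ^ j) ^ p = 1 := by rw [← pow_mul, mul_comm, pow_mul, hZ, one_pow]
    have := hfpf j (Nat.pos_of_ne_zero hj0) hjp _ (apply_nrm hZj u)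
    rw [this, map_one]
  · intro h
    exact absurd (Finset.mem_range.2 hp) h

/-- orthogonality: the norm along direction `k'` kills the fixed points of direction `k ≠ k'` -/
theorem nrm_eK_of_mem (hWZ : Commute W Z) (hW : W ^ p = 1) (hZ : Z ^ p = 1)
    (hfpf : ∀ j, 0 < j → j < p → ∀ u : U, (Z ^ j) u = u → u = 1)
    (hU : ∀ u : U, u ^ p = 1 → u = 1) {k k' : ℕ} (hk : k < p) (hk' : k' < p) (hne : k ≠ k')
    {u : U} (hu : u ∈ fixSub (eK W Z k)) : nrm p (eK W Z k') u = 1 := by
  apply hU
  rw [← map_pow, ← nrm_of_fixed (p := p) hu]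
  set M := nrm p (eK W Z k') (nrm p (eK W Z k) u) with hM
  have hM' : eK W Z k' M = M := apply_nrm (eK_pow_p hWZ hW hZ k') _
  have hMk : eK W Z k M = M := by
    rw [hM, apply_nrm_comm (commute_eK hWZ k k'), apply_nrm (eK_pow_p hWZ hW hZ k)]
  -- now compare
  have key : ∀ a b : ℕ, a < b → b < p → eK W Z a M = M → eK W Z b M = M → M = 1 := by
    intro a b hab hb h1 h2
    have h3 : eK W Z b = eK W Z a * Z ^ (b - a) := by
      unfold eK
      rw [mul_assoc, ← pow_add]
      congr 2
      omega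
    rw [h3, MulAut.mul_apply] at h2
    have h4 : (Z ^ (b - a)) M = M := (eK W Z a).injective (h2.trans h1.symm)
    exact hfpf (b - a) (by omega) (by omega) M h4
  rcases lt_or_gt_of_ne hne with h | h
  · exact key k k' h hk' hMk hM'
  · exact key k' k h hk hM' hMk

end decomp

end Cfsg.Agent.Lib.Helper49.HHM
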