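import Cfsg.Agent.Lib.Helper49.HHLemmaM1

/-! # Lemma M, part 2: direct decomposition, cardinalities, free actions -/

set_option autoImplicit false

namespace Cfsg.Agent.Lib.Helper49.HHM

open Finset

variable {U : Type*} [CommGroup U]

section decomp

variable {p : ℕ} {W Z : MulAut U}

/-- independence of the fixed point subgroups of the directions `W Z^k` -/
theorem indep (hWZ : Commute W Z) (hW : W ^ p = 1) (hZ : Z ^ p = 1)
    (hfpf : ∀ j, 0 < j → j < p → ∀ u : U, (Z ^ j) u = u → u = 1)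
    (hU : ∀ u : U, u ^ p = 1 → u = 1) (v : Fin p → U)
    (hv : ∀ k : Fin p, v k ∈ fixSub (eK W Z k)) (h1 : ∏ k : Fin p, v k = 1) (j : Fin p) :
    v j = 1 := by
  apply hU
  have h2 : nrm p (eK W Z j) (∏ k : Fin p, v k) = 1 := by rw [h1, map_one]
  rw [map_prod, Finset.prod_eq_single j] at h2
  · rw [← h2, nrm_of_fixed (hv j)]
  · intro k _ hkj
    exact nrm_eK_of_mem hWZ hW hZ hfpf hU k.2 j.2 (fun h => hkj (Fin.ext h)) (hv k)
  · intro h
    exact absurd (Finset.mem_univ j) h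

theorem indep' (hWZ : Commute W Z) (hW : W ^ p = 1) (hZ : Z ^ p = 1)
    (hfpf : ∀ j, 0 < j → j < p → ∀ u : U, (Z ^ j) u = u → u = 1)
    (hU : ∀ u : U, u ^ p = 1 → u = 1) (v v' : Fin p → U)
    (hv : ∀ k : Fin p, v k ∈ fixSub (eK W Z k)) (hv' : ∀ k : Fin p, v' k ∈ fixSub (eK W Z k))
    (h1 : ∏ k : Fin p, v k = ∏ k : Fin p, v' k) (j : Fin p) : v j = v' j := by
  have := indep hWZ hW hZ hfpf hU (fun k => v k * (v' k)⁻¹)
    (fun k => (fixSub (eK W Z k)).mul_mem (hv k) ((fixSub (eK W Z k)).inv_mem (hv' k)))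
    (by rw [Finset.prod_mul_distrib, Finset.prod_inv_distrib, h1, mul_inv_cancel]) j
  exact mul_inv_eq_one.1 this

/-- the fixed point subgroups of the directions span -/
theorem span (hWZ : Commute W Z) (hW : W ^ p = 1) (hZ : Z ^ p = 1)
    (hfpf : ∀ j, 0 < j → j < p → ∀ u : U, (Z ^ j) u = u → u = 1) (hp : 0 < p)
    (hUs : ∀ u : U, ∃ v : U, v ^ p = u) (u : U) :
    ∃ v : Fin p → U, (∀ k : Fin p, v k ∈ fixSub (eK W Z k)) ∧ ∏ k : Fin p, v k = u := by
  obtain ⟨u0, hu0⟩ := hUs u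
  refine ⟨fun k => nrm p (eK W Z k) u0, fun k => nrm_mem_fixSub (eK_pow_p hWZ hW hZ k) u0, ?_⟩
  rw [Fin.prod_univ_eq_prod_range (fun k => nrm p (eK W Z k) u0) p, prod_nrm_eK hWZ hZ hfpf hp, hu0]

/-- cardinality of the fixed points of an automorphism commuting with `W` and `Z` -/
theorem card_fix [Finite U] (hWZ : Commute W Z) (hW : W ^ p = 1) (hZ : Z ^ p = 1)
    (hfpf : ∀ j, 0 < j → j < p → ∀ u : U, (Z ^ j) u = u → u = 1) (hp : 0 < p)
    (hU : ∀ u : U, u ^ p = 1 → u = 1) (hUs : ∀ u : U, ∃ v : U, v ^ p = u)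
    (A : MulAut U) (hAW : Commute A W) (hAZ : Commute A Z) :
    Nat.card (fixSub A) = ∏ k : Fin p, Nat.card ↥(fixSub (eK W Z k) ⊓ fixSub A) := by
  rw [← Nat.card_pi]
  symm
  let f : (∀ k : Fin p, ↥(fixSub (eK W Z k) ⊓ fixSub A)) → ↥(fixSub A) :=
    fun v => ⟨∏ k : Fin p, (v k : U), Subgroup.prod_mem _ (fun k _ => (v k).2.2)⟩
  apply Nat.card_eq_of_bijective f
  constructor
  · intro v v' h
    have h1 : ∏ k : Fin p, ((v k : U)) = ∏ k : Fin p, ((v' k : U)) := congrArg Subtype.val h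
    funext k
    apply Subtype.ext
    exact indep' hWZ hW hZ hfpf hU (fun k => (v k : U)) (fun k => (v' k : U))
      (fun k => (v k).2.1) (fun k => (v' k).2.1) h1 k
  · rintro ⟨u, hu⟩
    obtain ⟨v, hv, hvu⟩ := span hWZ hW hZ hfpf hp hUs u
    have hAv : ∀ k : Fin p, A (v k) ∈ fixSub (eK W Z k) := by
      intro k
      have hc : Commute (eK W Z k) A := (commute_eK_of hAW hAZ k).symm
      show eK W Z k (A (v k)) = A (v k)
      calc eK W Z k (A (v k)) = (eK W Z k * A) (v k) := rfl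
        _ = (A * eK W Z k) (v k) := by rw [hc.eq]
        _ = A (eK W Z k (v k)) := rfl
        _ = A (v k) := by rw [hv k]
    have h2 : ∏ k : Fin p, A (v k) = ∏ k : Fin p, v k := by
      rw [← map_prod, hvu]
      exact hu
    have h3 : ∀ k : Fin p, A (v k) = v k := indep' hWZ hW hZ hfpf hU _ _ hAv hv h2
    refine ⟨fun k => ⟨v k, hv k, h3 k⟩, ?_⟩
    apply Subtype.ext
    exact hvu

theorem fixSub_one : fixSub (1 : MulAut U) = ⊤ := by
  ext u
  simp [mem_fixSub]

end decomp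

/-- a finite group acting freely on an invariant finite set: the order divides the size -/
theorem dvd_card_of_free {K X : Type*} [Group K] [MulAction K X] (S : Set X) [Finite S]
    (hinv : ∀ k : K, ∀ x ∈ S, k • x ∈ S) (hfree : ∀ k : K, ∀ x ∈ S, k • x = x → k = 1) :
    Nat.card K ∣ Nat.card S := by
  let T : SubMulAction K X := ⟨S, fun k x hx => hinv k x hx⟩
  have hstab : ∀ b : T, MulAction.stabilizer K b = ⊥ := by
    intro b
    rw [eq_bot_iff]
    intro k hk
    rw [MulAction.mem_stabilizer_iff] at hk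
    rw [Subgroup.mem_bot]
    apply hfree k (b : X) b.2
    have := congrArg Subtype.val hk
    simpa using this
  have e := MulAction.selfEquivOrbitsQuotientProd hstab
  have h1 : Nat.card T = Nat.card (Quotient (MulAction.orbitRel K T)) * Nat.card K := by
    rw [Nat.card_congr e, Nat.card_prod]
  have h2 : Nat.card S = Nat.card T := rfl
  rw [h2, h1]
  exact Dvd.intro_left _ rfl

end Cfsg.Agent.Lib.Helper49.HHM
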