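import Cfsg.Agent.Lib.Helper49.HHLemmaM2

/-! # Lemma M, part 3: conjugation of the directions, counting lemmas, arithmetic -/

set_option autoImplicit false

namespace Cfsg.Agent.Lib.Helper49.HHM

open Finset

variable {U : Type*} [CommGroup U]

section conj

variable {p : ℕ} {W Z : MulAut U}

theorem conj_of_commute {G X : MulAut U} (h : Commute G X) : G * X * G⁻¹ = X := by
  rw [h.eq, mul_assoc, mul_inv_cancel, mul_one]

theorem conj_W_pow {G : MulAut U} {c : ℕ} (hGZ : Commute G Z) (hG : G * W * G⁻¹ = W * Z ^ c)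
    (i : ℕ) : G ^ i * W * (G ^ i)⁻¹ = W * Z ^ (i * c) := by
  induction i with
  | zero => simp
  | succ i ih =>
    have h1 : G ^ (i + 1) * W * (G ^ (i + 1))⁻¹ = G * (G ^ i * W * (G ^ i)⁻¹) * G⁻¹ := by
      rw [pow_succ']
      group
    rw [h1, ih]
    have h2 : G * (W * Z ^ (i * c)) * G⁻¹ = (G * W * G⁻¹) * (G * Z ^ (i * c) * G⁻¹) := by group
    rw [h2, hG, conj_of_commute (hGZ.pow_right _), mul_assoc, ← pow_add]
    congr 2
    ring

theorem conj_eK {G : MulAut U} {c : ℕ} (hGZ : Commute G Z) (hG : G * W * G⁻¹ = W * Z ^ c)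
    (hZ : Z ^ p = 1) (k : ℕ) : G * eK W Z k * G⁻¹ = eK W Z ((k + c) % p) := by
  unfold eK
  have h2 : G * (W * Z ^ k) * G⁻¹ = (G * W * G⁻¹) * (G * Z ^ k * G⁻¹) := by group
  rw [h2, hG, conj_of_commute (hGZ.pow_right _), mul_assoc, ← pow_add, add_comm c k,
    pow_eq_pow_mod (k + c) hZ]

theorem map_mem_fixSub_eK {G : MulAut U} {c : ℕ} (hGZ : Commute G Z)
    (hG : G * W * G⁻¹ = W * Z ^ c) (hZ : Z ^ p = 1) {k : ℕ} {u : U}
    (hu : u ∈ fixSub (eK W Z k)) : G u ∈ fixSub (eK W Z ((k + c) % p)) := by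
  rw [← conj_eK hGZ hG hZ k]
  show (G * eK W Z k * G⁻¹) (G u) = G u
  simp only [MulAut.mul_apply, MulAut.inv_apply_self]
  rw [hu]

theorem card_le_step [Finite U] {G A : MulAut U} {c : ℕ} (hGZ : Commute G Z)
    (hG : G * W * G⁻¹ = W * Z ^ c) (hZ : Z ^ p = 1) (hGA : Commute G A) (k : ℕ) :
    Nat.card ↥(fixSub (eK W Z k) ⊓ fixSub A) ≤
      Nat.card ↥(fixSub (eK W Z ((k + c) % p)) ⊓ fixSub A) := by
  let f : ↥(fixSub (eK W Z k) ⊓ fixSub A) → ↥(fixSub (eK W Z ((k + c) % p)) ⊓ fixSub A) :=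
    fun u => ⟨G u, map_mem_fixSub_eK hGZ hG hZ u.2.1, by
      show A (G (u : U)) = G (u : U)
      have h1 : A (G (u : U)) = (A * G) (u : U) := rfl
      rw [h1, ← hGA.eq, MulAut.mul_apply]
      have h2 : A (u : U) = u := u.2.2
      rw [h2]⟩
  apply Nat.card_le_card_of_injective f
  intro u v h
  apply Subtype.ext
  exact G.injective (congrArg Subtype.val h)

theorem exists_mul_add_mod (hp : p.Prime) {c : ℕ} (hc0 : 0 < c) (hcp : c < p) {k k' : ℕ}
    (hk' : k' < p) : ∃ i : ℕ, (k + i * c) % p = k' := by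
  have : Fact p.Prime := ⟨hp⟩
  have hc : (c : ZMod p) ≠ 0 := by
    intro h
    rw [ZMod.natCast_eq_zero_iff] at h
    exact absurd (Nat.le_of_dvd hc0 h) (by omega)
  refine ⟨(((k' : ZMod p) - (k : ZMod p)) * (c : ZMod p)⁻¹).val, ?_⟩
  have h1 : (((k + (((k' : ZMod p) - (k : ZMod p)) * (c : ZMod p)⁻¹).val * c : ℕ)) : ZMod p)
      = (k' : ZMod p) := by
    push_cast
    rw [ZMod.natCast_zmod_val, mul_assoc, inv_mul_cancel₀ hc, mul_one]
    ring
  have h2 := (ZMod.natCast_eq_natCast_iff' _ _ p).1 h1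
  rw [h2, Nat.mod_eq_of_lt hk']

theorem card_le_all [Finite U] (hp : p.Prime) {G A : MulAut U} {c : ℕ} (hc0 : 0 < c)
    (hcp : c < p) (hGZ : Commute G Z) (hG : G * W * G⁻¹ = W * Z ^ c) (hZ : Z ^ p = 1)
    (hGA : Commute G A) (k k' : ℕ) (hk' : k' < p) :
    Nat.card ↥(fixSub (eK W Z k) ⊓ fixSub A) ≤ Nat.card ↥(fixSub (eK W Z k') ⊓ fixSub A) := by
  obtain ⟨i, hi⟩ := exists_mul_add_mod hp hc0 hcp (k := k) hk'
  have := card_le_step (p := p) (W := W) (Z := Z) (G := G ^ i) (A := A) (c := i * c)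
    (hGZ.pow_left i) (conj_W_pow hGZ hG i) hZ (hGA.pow_left i) k
  rwa [hi] at this

theorem card_eq_all [Finite U] (hp : p.Prime) {G A : MulAut U} {c : ℕ} (hc0 : 0 < c)
    (hcp : c < p) (hGZ : Commute G Z) (hG : G * W * G⁻¹ = W * Z ^ c) (hZ : Z ^ p = 1)
    (hGA : Commute G A) (k k' : ℕ) (hk : k < p) (hk' : k' < p) :
    Nat.card ↥(fixSub (eK W Z k) ⊓ fixSub A) = Nat.card ↥(fixSub (eK W Z k') ⊓ fixSub A) :=
  le_antisymm (card_le_all hp hc0 hcp hGZ hG hZ hGA k k' hk')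
    (card_le_all hp hc0 hcp hGZ hG hZ hGA k' k hk)

end conj

section orbit

variable {p : ℕ} {Z : MulAut U}

theorem pow_mem_of_inv {H : Subgroup U} {X : MulAut U} (hH : ∀ u ∈ H, X u ∈ H) (i : ℕ) :
    ∀ u ∈ H, (X ^ i) u ∈ H := by
  induction i with
  | zero => intro u hu; simpa using hu
  | succ i ih =>
    intro u hu
    rw [pow_succ', MulAut.mul_apply]
    exact hH _ (ih u hu)

/-- the map `none ↦ 1`, `some i ↦ Z^i u` -/
def orbMap (p : ℕ) (Z : MulAut U) (u : U) : Option (Fin p) → U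
  | none => 1
  | some i => (Z ^ (i : ℕ)) u

theorem orbMap_injective (hfpf : ∀ j, 0 < j → j < p → ∀ u : U, (Z ^ j) u = u → u = 1) {u : U}
    (hu : u ≠ 1) : Function.Injective (orbMap p Z u) := by
  have key : ∀ i j : ℕ, i < j → j < p → (Z ^ i) u = (Z ^ j) u → False := by
    intro i j hij hj h
    have h1 : (Z ^ j) u = (Z ^ i) ((Z ^ (j - i)) u) := by
      rw [← MulAut.mul_apply, ← pow_add]
      congr 2
      omega
    rw [h1] at h
    have h2 := (Z ^ i).injective h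
    exact hu (hfpf (j - i) (by omega) (by omega) u h2.symm)
  intro a b h
  cases a with
  | none =>
    cases b with
    | none => rfl
    | some j =>
      exfalso
      simp only [orbMap] at h
      apply hu
      have : (Z ^ (j : ℕ)) u = (Z ^ (j : ℕ)) 1 := by rw [map_one, ← h]
      exact (Z ^ (j : ℕ)).injective this
  | some i =>
    cases b with
    | none =>
      exfalso
      simp only [orbMap] at h
      apply hu
      have : (Z ^ (i : ℕ)) u = (Z ^ (i : ℕ)) 1 := by rw [map_one, h]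
      exact (Z ^ (i : ℕ)).injective this
    | some j =>
      simp only [orbMap] at h
      congr 1
      apply Fin.ext
      by_contra hne
      rcases lt_or_gt_of_ne hne with h' | h'
      · exact key i j h' j.2 h
      · exact key j i h' i.2 h.symm

theorem orbMap_mem {H : Subgroup U} (hH : ∀ u ∈ H, Z u ∈ H) {u : U} (hu : u ∈ H)
    (a : Option (Fin p)) : orbMap p Z u a ∈ H := by
  cases a with
  | none => exact H.one_mem
  | some i => exact pow_mem_of_inv hH i u hu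

theorem succ_le_card [Finite U]
    (hfpf : ∀ j, 0 < j → j < p → ∀ u : U, (Z ^ j) u = u → u = 1) {H : Subgroup U}
    (hH : ∀ u ∈ H, Z u ∈ H) (hne : H ≠ ⊥) : p + 1 ≤ Nat.card H := by
  obtain ⟨u, hu, hu1⟩ := (Subgroup.ne_bot_iff_exists_ne_one).1 hne |>.imp
    (fun u h => h) |> fun ⟨u, h⟩ => (⟨(u : U), u.2, fun h1 => h (Subtype.ext h1)⟩ :
      ∃ u : U, u ∈ H ∧ u ≠ 1)
  have h1 : Nat.card (Option (Fin p)) = p + 1 := by
    rw [Nat.card_eq_fintype_card, Fintype.card_option, Fintype.card_fin]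
  rw [← h1]
  let f : Option (Fin p) → H := fun a => ⟨orbMap p Z u a, orbMap_mem hH hu a⟩
  apply Nat.card_le_card_of_injective f
  intro a b h
  exact orbMap_injective hfpf hu1 (congrArg Subtype.val h)

theorem exists_pow_of_card [Finite U]
    (hfpf : ∀ j, 0 < j → j < p → ∀ u : U, (Z ^ j) u = u → u = 1) {H : Subgroup U}
    (hH : ∀ u ∈ H, Z u ∈ H) (hcard : Nat.card H = p + 1) {X : MulAut U}
    (hXH : ∀ u ∈ H, X u ∈ H) : ∀ u ∈ H, ∃ i : ℕ, X u = (Z ^ i) u := by
  intro u hu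
  by_cases hu1 : u = 1
  · exact ⟨0, by rw [hu1]; simp⟩
  have h1 : Nat.card (Option (Fin p)) = p + 1 := by
    rw [Nat.card_eq_fintype_card, Fintype.card_option, Fintype.card_fin]
  let f : Option (Fin p) → H := fun a => ⟨orbMap p Z u a, orbMap_mem hH hu a⟩
  have hinj : Function.Injective f := by
    intro a b h
    exact orbMap_injective hfpf hu1 (congrArg Subtype.val h)
  have hbij : Function.Bijective f :=
    (Nat.bijective_iff_injective_and_card f).2 ⟨hinj, by rw [h1, hcard]⟩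
  obtain ⟨a, ha⟩ := hbij.2 ⟨X u, hXH u hu⟩
  have ha' : orbMap p Z u a = X u := congrArg Subtype.val ha
  cases a with
  | none =>
    exfalso
    simp only [orbMap] at ha'
    apply hu1
    have : X u = X 1 := by rw [map_one, ← ha']
    exact X.injective this
  | some i => exact ⟨(i : ℕ), ha'.symm⟩

theorem commute_on_of_card [Finite U]
    (hfpf : ∀ j, 0 < j → j < p → ∀ u : U, (Z ^ j) u = u → u = 1) {H : Subgroup U}
    (hH : ∀ u ∈ H, Z u ∈ H) (hcard : Nat.card H = p + 1) {A B : MulAut U}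
    (hAH : ∀ u ∈ H, A u ∈ H) (hBH : ∀ u ∈ H, B u ∈ H) (hAZ : Commute A Z) (hBZ : Commute B Z) :
    ∀ u ∈ H, A (B u) = B (A u) := by
  intro u hu
  obtain ⟨i, hi⟩ := exists_pow_of_card hfpf hH hcard hAH u hu
  obtain ⟨j, hj⟩ := exists_pow_of_card hfpf hH hcard hBH u hu
  have h1 : A ((Z ^ j) u) = (Z ^ j) (A u) := by
    calc A ((Z ^ j) u) = (A * Z ^ j) u := rfl
      _ = (Z ^ j * A) u := by rw [(hAZ.pow_right j).eq]
      _ = (Z ^ j) (A u) := rfl
  have h2 : B ((Z ^ i) u) = (Z ^ i) (B u) := by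
    calc B ((Z ^ i) u) = (B * Z ^ i) u := rfl
      _ = (Z ^ i * B) u := by rw [(hBZ.pow_right i).eq]
      _ = (Z ^ i) (B u) := rfl
  rw [hj, h1, hi, h2, hj, ← MulAut.mul_apply, ← MulAut.mul_apply, ← pow_add, ← pow_add, add_comm]

end orbit

end Cfsg.Agent.Lib.Helper49.HHM
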