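import Cfsg.Agent.Lib.Helper49.HHLemmaM3

/-! # Lemma M, part 4: free cyclic actions, arithmetic, coprime powers -/

set_option autoImplicit false

namespace Cfsg.Agent.Lib.Helper49.HHM

open Finset

variable {U : Type*} [CommGroup U]

/-- `p`-th powers are injective in a group of exponent `q ≠ p` -/
theorem pow_inj_of_exp {p q : ℕ} (hp : p.Prime) (hq : q.Prime) (hqp : q ≠ p)
    (hUq : ∀ a : U, a ^ q = 1) (u : U) (h : u ^ p = 1) : u = 1 := by
  have h1 : orderOf u ∣ p := orderOf_dvd_of_pow_eq_one h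
  have h2 : orderOf u ∣ q := orderOf_dvd_of_pow_eq_one (hUq u)
  have h3 : orderOf u ∣ Nat.gcd p q := Nat.dvd_gcd h1 h2
  have h4 : Nat.gcd p q = 1 := (Nat.coprime_primes hp hq).2 (Ne.symm hqp)
  rw [h4, Nat.dvd_one, orderOf_eq_one_iff] at h3
  exact h3

/-- `p`-th powers are surjective in a group of exponent `q ≠ p` -/
theorem pow_surj_of_exp {p q : ℕ} (hp : p.Prime) (hq : q.Prime) (hqp : q ≠ p)
    (hUq : ∀ a : U, a ^ q = 1) (u : U) : ∃ v : U, v ^ p = u := by
  have hcop : Nat.Coprime p q := (Nat.coprime_primes hp hq).2 (Ne.symm hqp)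
  obtain ⟨m, -, hm⟩ := Nat.exists_mul_mod_eq_one_of_coprime hcop hq.one_lt
  refine ⟨u ^ m, ?_⟩
  rw [← pow_mul, mul_comm, pow_eq_pow_mod (p * m) (hUq u), hm, pow_one]

/-- no element of order `p`: `p` does not divide the order of a subgroup -/
theorem not_dvd_card_sub [Finite U] {p : ℕ} (hp : p.Prime) (hU : ∀ u : U, u ^ p = 1 → u = 1)
    (H : Subgroup U) : ¬ p ∣ Nat.card H := by
  intro h
  have : Fact p.Prime := ⟨hp⟩
  obtain ⟨x, hx⟩ := exists_prime_orderOf_dvd_card' p h
  have h1 : (x : U) ^ p = 1 := by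
    have := pow_orderOf_eq_one x
    rw [hx] at this
    exact_mod_cast congrArg Subtype.val this
  have h2 : (x : U) = 1 := hU _ h1
  have h3 : x = 1 := Subtype.ext h2
  rw [h3, orderOf_one] at hx
  exact hp.one_lt.ne hx

/-- a cyclic group of order `p^(e+1)` acting on a subgroup: the points not fixed by the element
of order `p` come in orbits of full length -/
theorem dvd_card_sub_card [Finite U] {p e : ℕ} (hp : p.Prime) (C : MulAut U)
    (hC : C ^ (p ^ (e + 1)) = 1) (hA1 : C ^ (p ^ e) ≠ 1) (H : Subgroup U)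
    (hCH : ∀ u ∈ H, C u ∈ H) :
    p ^ (e + 1) ∣ Nat.card H - Nat.card ↥(H ⊓ fixSub (C ^ (p ^ e))) := by
  classical
  have : Fact p.Prime := ⟨hp⟩
  set A := C ^ (p ^ e) with hA
  have hord : orderOf C = p ^ (e + 1) := orderOf_eq_prime_pow hA1 hC
  let S : Set U := {u | u ∈ H ∧ A u ≠ u}
  have hmem : ∀ k : Subgroup.zpowers C, ∃ i : ℕ, (k : MulAut U) = C ^ i := by
    intro k
    have := k.2
    rw [mem_zpowers_iff_mem_range_orderOf] at this
    obtain ⟨i, _, hi⟩ := Finset.mem_image.1 this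
    exact ⟨i, hi.symm⟩
  have hinv : ∀ k : Subgroup.zpowers C, ∀ x ∈ S, k • x ∈ S := by
    intro k x hx
    obtain ⟨i, hi⟩ := hmem k
    have h1 : k • x = (C ^ i) x := by
      show (k : MulAut U) x = _
      rw [hi]
    rw [h1]
    refine ⟨pow_mem_of_inv hCH i x hx.1, ?_⟩
    intro h2
    apply hx.2
    have hc : Commute A (C ^ i) := by
      rw [hA]
      exact (Commute.refl C).pow_pow _ _
    have h3 : A ((C ^ i) x) = (C ^ i) (A x) := by
      calc A ((C ^ i) x) = (A * C ^ i) x := rfl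
        _ = (C ^ i * A) x := by rw [hc.eq]
        _ = (C ^ i) (A x) := rfl
    rw [h3] at h2
    exact (C ^ i).injective h2
  have hfree : ∀ k : Subgroup.zpowers C, ∀ x ∈ S, k • x = x → k = 1 := by
    intro k x hx hkx
    obtain ⟨i, hi⟩ := hmem k
    have h1 : C ^ i • x = x := by
      have : k • x = C ^ i • x := by
        show (k : MulAut U) • x = _
        rw [hi]
      rw [← this]
      exact hkx
    rw [MulAction.pow_smul_eq_iff_period_dvd] at h1
    have h2 : MulAction.period C x ∣ p ^ (e + 1) := by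
      rw [← MulAction.pow_smul_eq_iff_period_dvd, hC]
      exact one_smul _ x
    obtain ⟨s, hs, hps⟩ := (Nat.dvd_prime_pow hp).1 h2
    have hs' : s = e + 1 := by
      by_contra hne
      have hse : s ≤ e := by omega
      apply hx.2
      have h3 : MulAction.period C x ∣ p ^ e := by
        rw [hps]
        exact pow_dvd_pow p hse
      rw [← MulAction.pow_smul_eq_iff_period_dvd] at h3
      exact h3
    rw [hps, hs', ← hord] at h1
    apply Subtype.ext
    rw [hi]
    exact orderOf_dvd_iff_pow_eq_one.1 h1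
  have hSfin : Finite S := Finite.of_injective (fun s : S => (s : U)) Subtype.val_injective
  have h1 := dvd_card_of_free S hinv hfree
  rw [Nat.card_zpowers, hord] at h1
  have h2 : Nat.card S = Nat.card H - Nat.card ↥(H ⊓ fixSub A) := by
    have hS : S = (H : Set U) \ ((H ⊓ fixSub A : Subgroup U) : Set U) := by
      ext u
      simp only [S, Set.mem_ofPred_eq, Set.mem_sdiff, SetLike.mem_coe, Subgroup.mem_inf,
        mem_fixSub, not_and]
      constructor
      · rintro ⟨h1, h2⟩
        exact ⟨h1, fun _ => h2⟩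
      · rintro ⟨h1, h2⟩
        exact ⟨h1, h2 h1⟩
    rw [hS, Nat.card_coe_set_eq, Set.ncard_sdiff (by
      intro u hu
      exact hu.1) (Set.toFinite _), ← Nat.card_coe_set_eq, ← Nat.card_coe_set_eq]
    rfl
  rw [← h2]
  exact h1

/-- the arithmetic at the heart of Lemma M -/
theorem arith {p n ω : ℕ} (hp : p.Prime) (hp2 : p ≠ 2) (hn : 2 ≤ n) (hω : p ^ (n - 1) ∣ ω - 1)
    (hω2 : 2 ≤ ω) (hle : ω ^ p ≤ (p ^ n - 1) ^ 2) : p = 3 ∧ n = 2 ∧ ω = 4 := by
  obtain ⟨m, rfl⟩ : ∃ m, n = m + 2 := ⟨n - 2, by omega⟩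
  have hp3 : 3 ≤ p := by
    have := hp.two_le
    omega
  set s := p ^ (m + 1) with hs
  have hsp : p ≤ s := by
    rw [hs, pow_succ]
    exact Nat.le_mul_of_pos_left _ (pow_pos hp.pos m)
  have hpn : p ^ (m + 2) = p * s := by rw [hs]; ring
  have hωs : s + 1 ≤ ω := by
    have h1 : m + 2 - 1 = m + 1 := by omega
    rw [h1] at hω
    have := Nat.le_of_dvd (by omega) hω
    omega
  have hle1 : (s + 1) ^ p ≤ (p * s - 1) ^ 2 := by
    rw [← hpn]
    exact le_trans (Nat.pow_le_pow_left hωs p) hle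
  have hlt : (p * s - 1) ^ 2 < (p * s) ^ 2 := by
    apply Nat.pow_lt_pow_left _ (by norm_num)
    have : 0 < p * s := Nat.mul_pos hp.pos (by omega)
    omega
  by_cases hp5 : 5 ≤ p
  · exfalso
    have h1 : (s + 1) ^ 5 ≤ (s + 1) ^ p := Nat.pow_le_pow_right (by omega) hp5
    have h2 : (p * s) ^ 2 ≤ (s * s) ^ 2 := Nat.pow_le_pow_left (Nat.mul_le_mul_right s hsp) 2
    have h3 : (s * s) ^ 2 < (s + 1) ^ 5 := by
      have : 0 < s := by omega
      nlinarith [pow_pos this 2, pow_pos this 3, pow_pos this 4, pow_pos this 5]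
    omega
  · have hp' : p = 3 := by
      have h4 : p ≠ 4 := by
        intro h
        rw [h] at hp
        exact absurd hp (by norm_num)
      omega
    subst hp'
    have h1 : (s + 1) ^ 3 ≤ (3 * s - 1) ^ 2 := hle1
    have hs3 : 3 ≤ s := hsp
    have hs9 : s < 9 := by
      by_contra hge
      push Not at hge
      have h5 : (3 * s - 1) ^ 2 ≤ (3 * s) ^ 2 := Nat.pow_le_pow_left (by omega) 2
      have h6 : (3 * s) ^ 2 < (s + 1) ^ 3 := by nlinarith
      omega
    have hm : m = 0 := by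
      by_contra hm0
      have : 3 ^ 2 ≤ 3 ^ (m + 1) := Nat.pow_le_pow_right (by norm_num) (by omega)
      omega
    subst hm
    have hs' : s = 3 := by rw [hs]; norm_num
    refine ⟨rfl, rfl, ?_⟩
    have h7 : ω ^ 3 ≤ 64 := by
      have := hle
      norm_num at this
      exact this
    have h8 : 4 ≤ ω := by omega
    by_contra hne
    have h9 : 5 ≤ ω := by omega
    have : 5 ^ 3 ≤ ω ^ 3 := Nat.pow_le_pow_left h9 3
    omega

end Cfsg.Agent.Lib.Helper49.HHM
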