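import Cfsg.Agent.Lib.Helper49.HHLemmaM4
import Cfsg.Agent.Lib.Helper52.NormalRankTwo
import Cfsg.Agent.Lib.Helper53.PUCS

/-! # Lemma M, part 5: the group theoretic set-up (a central `z`, a non-central `w` of order `p`
with all conjugates of `w` in `w⟨z⟩`) -/

set_option autoImplicit false

namespace Cfsg.Agent.Lib.Helper49.HHM

open Finset
open scoped commutatorElement

section general

variable {Γ : Type*} [Group Γ]

theorem conj_pow_gen {g w z : Γ} {c : ℕ} (hz : ∀ h : Γ, Commute h z)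
    (hg : g * w * g⁻¹ = w * z ^ c) (i : ℕ) : g ^ i * w * (g ^ i)⁻¹ = w * z ^ (i * c) := by
  induction i with
  | zero => simp
  | succ i ih =>
    have h1 : g ^ (i + 1) * w * (g ^ (i + 1))⁻¹ = g * (g ^ i * w * (g ^ i)⁻¹) * g⁻¹ := by
      rw [pow_succ']
      group
    rw [h1, ih]
    have h2 : g * (w * z ^ (i * c)) * g⁻¹ = (g * w * g⁻¹) * (g * z ^ (i * c) * g⁻¹) := by group
    have h3 : g * z ^ (i * c) * g⁻¹ = z ^ (i * c) := by
      rw [((hz g).pow_right _).eq, mul_assoc, mul_inv_cancel, mul_one]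
    rw [h2, hg, h3, mul_assoc, ← pow_add]
    congr 2
    ring

theorem commute_pow_p {g w z : Γ} {c p : ℕ} (hz : ∀ h : Γ, Commute h z) (hzp : z ^ p = 1)
    (hg : g * w * g⁻¹ = w * z ^ c) : Commute (g ^ p) w := by
  have h := conj_pow_gen hz hg p
  rw [pow_mul, hzp, one_pow, mul_one] at h
  have : g ^ p * w = w * g ^ p := by
    calc g ^ p * w = (g ^ p * w * (g ^ p)⁻¹) * g ^ p := by group
      _ = w * g ^ p := by rw [h]
  exact this

end general

variable {U : Type*} [CommGroup U]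

section setup

variable {p : ℕ} {P : Type*} [Group P] (ψ : P →* MulAut U)

theorem center_fpf (hψ : Function.Injective ψ)
    (hirr : ∀ W : Subgroup U, (∀ g : P, ∀ w ∈ W, ψ g w ∈ W) → W = ⊥ ∨ W = ⊤)
    {z : P} (hz : z ∈ Subgroup.center P) (hz1 : z ≠ 1) (u : U) (hu : ψ z u = u) : u = 1 := by
  have hinv : ∀ g : P, ∀ w ∈ fixSub (ψ z), ψ g w ∈ fixSub (ψ z) := by
    intro g w hw
    show ψ z (ψ g w) = ψ g w
    have h1 : ψ z (ψ g w) = (ψ (z * g)) w := by rw [map_mul]; rfl
    have h2 : z * g = g * z := ((Subgroup.mem_center_iff.1 hz) g).symm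
    rw [h1, h2, map_mul, MulAut.mul_apply]
    have : ψ z w = w := hw
    rw [this]
  rcases hirr _ hinv with h | h
  · have : u ∈ fixSub (ψ z) := hu
    rw [h, Subgroup.mem_bot] at this
    exact this
  · exfalso
    apply hz1
    apply hψ
    rw [map_one]
    apply MulEquiv.ext
    intro v
    have : v ∈ fixSub (ψ z) := by rw [h]; exact Subgroup.mem_top v
    exact this

theorem fpf_pow (hψ : Function.Injective ψ)
    (hirr : ∀ W : Subgroup U, (∀ g : P, ∀ w ∈ W, ψ g w ∈ W) → W = ⊥ ∨ W = ⊤)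
    (hp : p.Prime) {z : P} (hz : z ∈ Subgroup.center P) (hz1 : z ≠ 1) (hzp : z ^ p = 1)
    (j : ℕ) (hj0 : 0 < j) (hjp : j < p) (u : U) (hu : ((ψ z) ^ j) u = u) : u = 1 := by
  have : Fact p.Prime := ⟨hp⟩
  have hord : orderOf z = p := orderOf_eq_prime hzp hz1
  have h1 : z ^ j ≠ 1 := by
    intro h
    have := orderOf_dvd_of_pow_eq_one h
    rw [hord] at this
    exact absurd (Nat.le_of_dvd hj0 this) (by omega)
  have h2 : z ^ j ∈ Subgroup.center P := Subgroup.pow_mem _ hz j
  apply center_fpf ψ hψ hirr h2 h1 u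
  rw [map_pow]
  exact hu

theorem exists_setup [Finite U] [Finite P] [hpF : Fact p.Prime] (hp2 : p ≠ 2) (hP : IsPGroup p P)
    (hψ : Function.Injective ψ)
    (hirr : ∀ W : Subgroup U, (∀ g : P, ∀ w ∈ W, ψ g w ∈ W) → W = ⊥ ∨ W = ⊤)
    (hnc : ∃ a b : P, a * b ≠ b * a) (hU : ∀ u : U, u ^ p = 1 → u = 1) :
    ∃ z w : P, z ∈ Subgroup.center P ∧ z ≠ 1 ∧ z ^ p = 1 ∧ w ^ p = 1 ∧ w ∉ Subgroup.center P ∧
      ∀ g : P, ∃ c : ℕ, c < p ∧ g * w * g⁻¹ = w * z ^ c := by
  classical
  have hp := hpF.out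
  have hncyc : ¬ IsCyclic P := by
    intro hc
    obtain ⟨a, b, hab⟩ := hnc
    obtain ⟨g, hg⟩ := hc.exists_generator
    obtain ⟨i, rfl⟩ := Subgroup.mem_zpowers_iff.1 (hg a)
    obtain ⟨j, rfl⟩ := Subgroup.mem_zpowers_iff.1 (hg b)
    exact hab ((Commute.refl g).zpow_zpow i j).eq
  obtain ⟨N, hNn, hNcard, hNexp⟩ : ∃ N : Subgroup P, N.Normal ∧ Nat.card N = p ^ 2 ∧
      ∀ x ∈ N, x ^ p = 1 := by
    rcases Cfsg.Agent.Lib.Helper52.normal_rank_two p hP with h | h | h
    · exact h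
    · exact absurd h hncyc
    · exact absurd h.1 hp2
  have hNne : N ≠ ⊥ := by
    intro h
    rw [h, Subgroup.card_bot] at hNcard
    have := hp.one_lt
    have h2 : 1 < p ^ 2 := Nat.one_lt_pow (by norm_num) this
    omega
  obtain ⟨z, hzN, hz1, hzc⟩ := Cfsg.Agent.Lib.Helper53.normal_meets_center hP N hNne
  have hzp : z ^ p = 1 := hNexp z hzN
  have hord : orderOf z = p := orderOf_eq_prime hzp hz1
  have hcardz : Nat.card (Subgroup.zpowers z) = p := by rw [Nat.card_zpowers, hord]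
  have hfpf := fpf_pow ψ hψ hirr hp hzc hz1 hzp
  have hp0 : 0 < p := hp.pos
  -- `N` is not central
  have hNZ : ¬ N ≤ Subgroup.center P := by
    intro hle
    have hnle : ¬ N ≤ Subgroup.zpowers z := by
      intro h
      have := Subgroup.card_le_of_le h
      rw [hNcard, hcardz] at this
      have h2 : p < p ^ 2 := by
        calc p = p ^ 1 := (pow_one p).symm
          _ < p ^ 2 := Nat.pow_lt_pow_right hp.one_lt (by norm_num)
      omega
    obtain ⟨w0, hw0N, hw0z⟩ := SetLike.not_le_iff_exists.1 hnle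
    have hWZ : Commute (ψ w0) (ψ z) := by
      have : w0 * z = z * w0 := (Subgroup.mem_center_iff.1 hzc) w0
      show ψ w0 * ψ z = ψ z * ψ w0
      rw [← map_mul, ← map_mul, this]
    have hZp : (ψ z) ^ p = 1 := by rw [← map_pow, hzp, map_one]
    have hW0p : (ψ w0) ^ p = 1 := by rw [← map_pow, hNexp w0 hw0N, map_one]
    have htriv : ∀ u : U, u = 1 := by
      intro u
      apply hU
      rw [← prod_nrm_eK hWZ hZp hfpf hp0 u]
      apply Finset.prod_eq_one
      intro k _
      have hmem : w0 * z ^ k ∈ Subgroup.center P :=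
        hle (N.mul_mem hw0N (N.pow_mem hzN k))
      have hne : w0 * z ^ k ≠ 1 := by
        intro h
        apply hw0z
        have : w0 = (z ^ k)⁻¹ := eq_inv_of_mul_eq_one_left h
        rw [this]
        exact (Subgroup.zpowers z).inv_mem ((Subgroup.zpowers z).pow_mem (Subgroup.mem_zpowers z) k)
      apply center_fpf ψ hψ hirr hmem hne
      have h1 : ψ (w0 * z ^ k) = eK (ψ w0) (ψ z) k := by
        unfold eK
        rw [map_mul, map_pow]
      rw [h1]
      exact apply_nrm (eK_pow_p hWZ hW0p hZp k) u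
    obtain ⟨a, b, hab⟩ := hnc
    apply hab
    have h1 : ∀ g : P, g = 1 := by
      intro g
      apply hψ
      rw [map_one]
      apply MulEquiv.ext
      intro v
      rw [htriv v, map_one, MulAut.one_apply]
    rw [h1 a, h1 b]
  obtain ⟨w, hwN, hwc⟩ := SetLike.not_le_iff_exists.1 hNZ
  have hwp : w ^ p = 1 := hNexp w hwN
  -- the central part of `N` is `⟨z⟩`
  set Zc := N ⊓ Subgroup.center P with hZc
  have hZcard : Nat.card Zc = p := by
    have hdvd : Nat.card Zc ∣ p ^ 2 := by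
      rw [← hNcard]
      exact Subgroup.card_dvd_of_le inf_le_left
    obtain ⟨i, hi2, hi⟩ := (Nat.dvd_prime_pow hp).1 hdvd
    have hi0 : i ≠ 0 := by
      intro h0
      rw [h0, pow_zero] at hi
      have : Zc = ⊥ := Subgroup.card_eq_one.1 hi
      apply hz1
      have hz' : z ∈ Zc := ⟨hzN, hzc⟩
      rw [this, Subgroup.mem_bot] at hz'
      exact hz'
    have hi2' : i ≠ 2 := by
      intro h2
      rw [h2] at hi
      have : Zc = N := Subgroup.eq_of_le_of_card_ge inf_le_left (by rw [hi, hNcard])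
      apply hwc
      have hw' : w ∈ Zc := by rw [this]; exact hwN
      exact hw'.2
    have : i = 1 := by omega
    rw [hi, this, pow_one]
  have hzZc : Subgroup.zpowers z = Zc := by
    apply Subgroup.eq_of_le_of_card_ge
    · rw [Subgroup.zpowers_le]
      exact ⟨hzN, hzc⟩
    · rw [hZcard, hcardz]
  refine ⟨z, w, hzc, hz1, hzp, hwp, hwc, ?_⟩
  intro g
  have h1 : ⁅g, w⁆ ∈ Zc := by
    constructor
    · have : g * w * g⁻¹ ∈ N := hNn.conj_mem w hwN g
      rw [commutatorElement_def]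
      exact N.mul_mem this (N.inv_mem hwN)
    · have := Cfsg.Agent.Lib.Helper53.comm_mem_center_of_normal_card_sq hP N hNcard hwN g
      rw [← commutatorElement_inv]
      exact (Subgroup.center P).inv_mem this
  rw [← hzZc, mem_zpowers_iff_mem_range_orderOf, hord] at h1
  obtain ⟨c, hc, hcz⟩ := Finset.mem_image.1 h1
  refine ⟨c, Finset.mem_range.1 hc, ?_⟩
  have h2 : g * w * g⁻¹ = ⁅g, w⁆ * w := by
    rw [commutatorElement_def]
    group
  rw [h2, ← hcz]
  exact ((Subgroup.mem_center_iff.1 (Subgroup.pow_mem _ hzc c)) w).symm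

end setup

end Cfsg.Agent.Lib.Helper49.HHM
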