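import Cfsg.Agent.Lib.Helper49.HHLemmaM5

/-! # Lemma M, part 6: the two cases -/

set_option autoImplicit false

namespace Cfsg.Agent.Lib.Helper49.HHM

open Finset

variable {U : Type*} [CommGroup U]

theorem map_fixSub_of_commute {X E : MulAut U} (h : Commute X E) :
    ∀ u ∈ fixSub E, X u ∈ fixSub E := by
  intro u hu
  show E (X u) = X u
  calc E (X u) = (E * X) u := rfl
    _ = (X * E) u := by rw [h.eq]
    _ = X (E u) := rfl
    _ = X u := by rw [hu]

theorem card_inf_fixSub_one (H : Subgroup U) :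
    Nat.card ↥(H ⊓ fixSub (1 : MulAut U)) = Nat.card H := by
  rw [fixSub_one, inf_top_eq]

theorem card_fixSub_one : Nat.card ↥(fixSub (1 : MulAut U)) = Nat.card U := by
  rw [fixSub_one, Subgroup.card_top]

section main

variable {p : ℕ} {P : Type*} [Group P] (ψ : P →* MulAut U)

theorem conj_psi {g w z : P} {c : ℕ} (hc : g * w * g⁻¹ = w * z ^ c) :
    ψ g * ψ w * (ψ g)⁻¹ = ψ w * (ψ z) ^ c := by
  rw [← map_inv, ← map_mul, ← map_mul, hc, map_mul, map_pow]

theorem pos_of_not_commute {g w z : P} {c : ℕ} (hc : g * w * g⁻¹ = w * z ^ c)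
    (h : ¬ Commute g w) : 0 < c := by
  rcases Nat.eq_zero_or_pos c with h0 | h0
  · exfalso
    apply h
    rw [h0, pow_zero, mul_one] at hc
    have : g * w = w * g := by
      calc g * w = (g * w * g⁻¹) * g := by group
        _ = w * g := by rw [hc]
    exact this
  · exact h0

variable [Finite U] (hp : p.Prime) (hψ : Function.Injective ψ)
  (hirr : ∀ W : Subgroup U, (∀ g : P, ∀ w ∈ W, ψ g w ∈ W) → W = ⊥ ∨ W = ⊤)
  (hU : ∀ u : U, u ^ p = 1 → u = 1) (hUs : ∀ u : U, ∃ v : U, v ^ p = u)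
  {z w : P} (hzc : z ∈ Subgroup.center P) (hz1 : z ≠ 1) (hzp : z ^ p = 1) (hwp : w ^ p = 1)

include hp hψ hirr hU hUs hzc hz1 hzp hwp

/-- all directions have the same number of `A`-fixed points, and they multiply up -/
theorem card_dirs {g : P} {c : ℕ} (hc0 : 0 < c) (hcp : c < p) (hc : g * w * g⁻¹ = w * z ^ c)
    (A : MulAut U) (hgA : Commute (ψ g) A) (hAW : Commute A (ψ w)) (hAZ : Commute A (ψ z)) :
    (∀ k < p, Nat.card ↥(fixSub (eK (ψ w) (ψ z) k) ⊓ fixSub A) =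
        Nat.card ↥(fixSub (eK (ψ w) (ψ z) 0) ⊓ fixSub A)) ∧
      Nat.card (fixSub A) = (Nat.card ↥(fixSub (eK (ψ w) (ψ z) 0) ⊓ fixSub A)) ^ p := by
  have hzall : ∀ h : P, Commute h z := fun h => (Subgroup.mem_center_iff.1 hzc) h
  have hWZ : Commute (ψ w) (ψ z) := (hzall w).map ψ
  have hZp : (ψ z) ^ p = 1 := by rw [← map_pow, hzp, map_one]
  have hWp : (ψ w) ^ p = 1 := by rw [← map_pow, hwp, map_one]
  have hfpf := fpf_pow ψ hψ hirr hp hzc hz1 hzp
  have hGZ : Commute (ψ g) (ψ z) := (hzall g).map ψ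
  have h1 : ∀ k < p, Nat.card ↥(fixSub (eK (ψ w) (ψ z) k) ⊓ fixSub A) =
        Nat.card ↥(fixSub (eK (ψ w) (ψ z) 0) ⊓ fixSub A) := by
    intro k hk
    exact card_eq_all hp hc0 hcp hGZ (conj_psi ψ hc) hZp hgA k 0 hk hp.pos
  refine ⟨h1, ?_⟩
  rw [card_fix hWZ hWp hZp hfpf hp.pos hU hUs A hAW hAZ]
  rw [Finset.prod_congr rfl (fun (k : Fin p) _ => h1 (k : ℕ) k.2)]
  rw [Finset.prod_const, Finset.card_univ, Fintype.card_fin]

/-- case (i): `a = x^(p^(n-1))` centralizes `w` -/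
theorem in_T0 (hconj : ∀ g : P, ∃ c : ℕ, c < p ∧ g * w * g⁻¹ = w * z ^ c)
    (x : P) (n : ℕ) (hn : 1 ≤ n) (hx : x ^ p ^ n = 1) (hcardU : 1 < Nat.card U)
    (hI1 : Nat.card U ≤ Nat.card ↥(fixSub (ψ (x ^ p ^ (n - 1)))) * (p ^ n - 1) ^ 2)
    (hp2 : p ≠ 2) :
    Commute (x ^ p ^ (n - 1)) w := by
  by_contra hnc
  have hzall : ∀ h : P, Commute h z := fun h => (Subgroup.mem_center_iff.1 hzc) h
  have hn1 : n = 1 := by
    by_contra hne
    obtain ⟨e, rfl⟩ : ∃ e, n = e + 2 := ⟨n - 2, by omega⟩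
    apply hnc
    obtain ⟨c, -, hc⟩ := hconj x
    have h1 : Commute (x ^ p) w := commute_pow_p hzall hzp hc
    have h2 : x ^ p ^ (e + 2 - 1) = (x ^ p) ^ p ^ e := by
      rw [← pow_mul]
      congr 1
      rw [show e + 2 - 1 = e + 1 by omega, pow_succ]
      ring
    rw [h2]
    exact h1.pow_left _
  subst hn1
  simp only [Nat.sub_self, pow_zero, pow_one] at hnc hI1 hx
  obtain ⟨c, hcp, hc⟩ := hconj x
  have hc0 : 0 < c := pos_of_not_commute hc hnc
  have hWZ : Commute (ψ w) (ψ z) := (hzall w).map ψ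
  have hZp : (ψ z) ^ p = 1 := by rw [← map_pow, hzp, map_one]
  have hWp : (ψ w) ^ p = 1 := by rw [← map_pow, hwp, map_one]
  have hfpf := fpf_pow ψ hψ hirr hp hzc hz1 hzp
  have hAZ : Commute (ψ x) (ψ z) := (hzall x).map ψ
  have hA := conj_psi ψ hc
  have hp0 : 0 < p := hp.pos
  set Z := ψ z with hZdef
  set W := ψ w with hWdef
  set A := ψ x with hAdef
  set m := Nat.card ↥(fixSub (eK W Z 0)) with hm
  -- cardinalities
  obtain ⟨hall, hUm⟩ := card_dirs ψ hp hψ hirr hU hUs hzc hz1 hzp hwp hc0 hcp hc 1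
    (Commute.one_right _) (Commute.one_left _) (Commute.one_left _)
  rw [card_fixSub_one, card_inf_fixSub_one] at hUm
  change Nat.card U = m ^ p at hUm
  -- injectivity of the norm on the fixed points of `A`
  have hinj : ∀ u ∈ fixSub A, nrm p (eK W Z 0) u = 1 → u = 1 := by
    intro u hu h1
    apply hU
    rw [← prod_nrm_eK hWZ hZp hfpf hp0 u]
    apply Finset.prod_eq_one
    intro k hk
    have hk' := Finset.mem_range.1 hk
    obtain ⟨i, hi⟩ := exists_mul_add_mod hp hc0 hcp (k := 0) hk'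
    have hconj_i : A ^ i * eK W Z 0 * (A ^ i)⁻¹ = eK W Z ((0 + i * c) % p) :=
      conj_eK (hAZ.pow_left i) (conj_W_pow hAZ hA i) hZp 0
    rw [← hi, ← hconj_i, nrm_conj]
    have h2 : (A ^ i) u = u := pow_apply_of_fixed hu i
    have h3 : (A ^ i)⁻¹ u = u := by
      conv_lhs => rw [← h2]
      exact MulAut.inv_apply_self _ _ _
    rw [h3, h1, map_one]
  have hle : Nat.card ↥(fixSub A) ≤ m := by
    let f : ↥(fixSub A) → ↥(fixSub (eK W Z 0)) :=
      fun u => ⟨nrm p (eK W Z 0) (u : U), nrm_mem_fixSub (eK_pow_p hWZ hWp hZp 0) _⟩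
    apply Nat.card_le_card_of_injective f
    intro u v huv
    have h1 : nrm p (eK W Z 0) (u : U) = nrm p (eK W Z 0) (v : U) := congrArg Subtype.val huv
    have h2 : nrm p (eK W Z 0) ((u : U) * (v : U)⁻¹) = 1 := by
      rw [map_mul, map_inv, h1, mul_inv_cancel]
    have h3 := hinj _ ((fixSub A).mul_mem u.2 ((fixSub A).inv_mem v.2)) h2
    apply Subtype.ext
    exact mul_inv_eq_one.1 h3
  -- lower bound for m
  have hZinv : ∀ u ∈ fixSub (eK W Z 0), Z u ∈ fixSub (eK W Z 0) :=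
    map_fixSub_of_commute (commute_eK_of hWZ.symm (Commute.refl Z) 0)
  have hmne : fixSub (eK W Z 0) ≠ ⊥ := by
    intro h
    have : m = 1 := by rw [hm, h, Subgroup.card_bot]
    rw [this, one_pow] at hUm
    omega
  have hmp : p + 1 ≤ m := succ_le_card hfpf hZinv hmne
  -- arithmetic
  have hp3 : 3 ≤ p := by
    have := hp.two_le
    omega
  have h1 : m ^ p ≤ m * (p - 1) ^ 2 := by
    calc m ^ p = Nat.card U := hUm.symm
      _ ≤ Nat.card ↥(fixSub A) * (p - 1) ^ 2 := hI1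
      _ ≤ m * (p - 1) ^ 2 := Nat.mul_le_mul_right _ hle
  have h2 : m ^ p = m * m ^ (p - 1) := by
    rw [← pow_succ']
    congr 1
    omega
  have h3 : m ^ 2 ≤ m ^ (p - 1) := Nat.pow_le_pow_right (by omega) (by omega)
  have h4 : (p - 1) ^ 2 < m ^ 2 := Nat.pow_lt_pow_left (by omega) (by norm_num)
  have h5 : m * (p - 1) ^ 2 < m * m ^ (p - 1) :=
    Nat.mul_lt_mul_of_pos_left (lt_of_lt_of_le h4 h3) (by omega)
  omega

end main

end Cfsg.Agent.Lib.Helper49.HHM
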