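import Cfsg.Agent.Lib.Helper49.HHLemmaM6

/-! # Lemma M, part 7: case (ii) -/

set_option autoImplicit false

namespace Cfsg.Agent.Lib.Helper49.HHM

open Finset

variable {U : Type*} [CommGroup U]

section main

variable {p : ℕ} {P : Type*} [Group P] (ψ : P →* MulAut U)

variable [Finite U] (hp : p.Prime) (hψ : Function.Injective ψ)
  (hirr : ∀ W : Subgroup U, (∀ g : P, ∀ w ∈ W, ψ g w ∈ W) → W = ⊥ ∨ W = ⊤)
  (hU : ∀ u : U, u ^ p = 1 → u = 1) (hUs : ∀ u : U, ∃ v : U, v ^ p = u)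
  {z w : P} (hzc : z ∈ Subgroup.center P) (hz1 : z ≠ 1) (hzp : z ^ p = 1) (hwp : w ^ p = 1)

include hp hψ hirr hU hUs hzc hz1 hzp hwp

/-- case (ii) -/
theorem case_ii (hconj : ∀ g : P, ∃ c : ℕ, c < p ∧ g * w * g⁻¹ = w * z ^ c)
    (x b : P) (n : ℕ) (hx : x ^ p ^ n = 1)
    (hI1 : Nat.card U ≤ Nat.card ↥(fixSub (ψ (x ^ p ^ (n - 1)))) * (p ^ n - 1) ^ 2)
    (hI2 : Nat.card U = Nat.card ↥(fixSub (ψ (x ^ p ^ (n - 1)))) * (p ^ n - 1) ^ 2 →
      ∀ u : U, ψ (x ^ p ^ (n - 1)) u = u → ψ x u = u)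
    (hp2 : p ≠ 2) (hxw : ¬ Commute x w) (haw : Commute (x ^ p ^ (n - 1)) w)
    (hbw : Commute b w) :
    Commute (ψ (x ^ p ^ (n - 1))) (ψ b) := by
  by_cases hA1 : ψ (x ^ p ^ (n - 1)) = 1
  · rw [hA1]
    exact Commute.one_left _
  have hzall : ∀ h : P, Commute h z := fun h => (Subgroup.mem_center_iff.1 hzc) h
  -- n ≥ 2
  have hn2 : 2 ≤ n := by
    by_contra hlt
    apply hxw
    have h1 : n - 1 = 0 := by omega
    rw [h1, pow_zero, pow_one] at haw
    exact haw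
  obtain ⟨e, rfl⟩ : ∃ e, n = e + 2 := ⟨n - 2, by omega⟩
  have he1 : e + 2 - 1 = e + 1 := by omega
  rw [he1] at hI1 hI2 haw hA1 ⊢
  obtain ⟨c, hcp, hc⟩ := hconj x
  have hc0 : 0 < c := pos_of_not_commute hc hxw
  have hWZ : Commute (ψ w) (ψ z) := (hzall w).map ψ
  have hZp : (ψ z) ^ p = 1 := by rw [← map_pow, hzp, map_one]
  have hWp : (ψ w) ^ p = 1 := by rw [← map_pow, hwp, map_one]
  have hfpf := fpf_pow ψ hψ hirr hp hzc hz1 hzp
  have hGZ : Commute (ψ x) (ψ z) := (hzall x).map ψ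
  have hG := conj_psi ψ hc
  have hp0 : 0 < p := hp.pos
  have hGA : Commute (ψ x) (ψ (x ^ p ^ (e + 1))) :=
    ((Commute.refl x).pow_right _).map ψ
  have hAZ : Commute (ψ (x ^ p ^ (e + 1))) (ψ z) := (hzall _).map ψ
  have hAW : Commute (ψ (x ^ p ^ (e + 1))) (ψ w) := haw.map ψ
  have hBZ : Commute (ψ b) (ψ z) := (hzall b).map ψ
  have hBW : Commute (ψ b) (ψ w) := hbw.map ψ
  have hCW : Commute (ψ (x ^ p)) (ψ w) := (commute_pow_p hzall hzp hc).map ψ
  have hCZ : Commute (ψ (x ^ p)) (ψ z) := (hzall _).map ψ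
  have hCpow : (ψ (x ^ p)) ^ p ^ (e + 1) = 1 := by
    rw [← map_pow, ← pow_mul, ← pow_succ', hx, map_one]
  have hCA : (ψ (x ^ p)) ^ p ^ e = ψ (x ^ p ^ (e + 1)) := by
    rw [← map_pow, ← pow_mul, ← pow_succ']
  set Z := ψ z with hZdef
  set W := ψ w with hWdef
  set G := ψ x with hGdef
  set A := ψ (x ^ p ^ (e + 1)) with hAdef
  set B := ψ b with hBdef
  set C := ψ (x ^ p) with hCdef
  set m := Nat.card ↥(fixSub (eK W Z 0)) with hm
  set γ := Nat.card ↥(fixSub (eK W Z 0) ⊓ fixSub A) with hγ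
  -- cardinalities
  obtain ⟨hall1, hUm⟩ := card_dirs ψ hp hψ hirr hU hUs hzc hz1 hzp hwp hc0 hcp hc 1
    (Commute.one_right _) (Commute.one_left _) (Commute.one_left _)
  rw [card_fixSub_one, card_inf_fixSub_one] at hUm
  change Nat.card U = m ^ p at hUm
  have hall1' : ∀ k < p, Nat.card ↥(fixSub (eK W Z k)) = m := by
    intro k hk
    have := hall1 k hk
    rw [card_inf_fixSub_one, card_inf_fixSub_one] at this
    exact this
  obtain ⟨hallA, hAγ⟩ := card_dirs ψ hp hψ hirr hU hUs hzc hz1 hzp hwp hc0 hcp hc A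
    hGA hAW hAZ
  change Nat.card ↥(fixSub A) = γ ^ p at hAγ
  -- the divisibility
  have hCinv : ∀ u ∈ fixSub (eK W Z 0), C u ∈ fixSub (eK W Z 0) :=
    map_fixSub_of_commute (commute_eK_of hCW hCZ 0)
  have hdvd : p ^ (e + 1) ∣ m - γ := by
    have := dvd_card_sub_card hp C hCpow (by rw [hCA]; exact hA1) (fixSub (eK W Z 0)) hCinv
    rw [hCA] at this
    exact this
  have hγm : γ ∣ m := Subgroup.card_dvd_of_le inf_le_left
  obtain ⟨ω, hω⟩ := hγm
  have hγpos : 0 < γ := Nat.card_pos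
  have hmpos : 0 < m := Nat.card_pos
  have hω2 : 2 ≤ ω := by
    by_contra hlt
    have hω1 : ω = 1 := by
      rcases Nat.lt_or_ge ω 1 with h | h
      · have : ω = 0 := by omega
        rw [this, mul_zero] at hω
        omega
      · omega
    rw [hω1, mul_one] at hω
    apply hA1
    have h1 : Nat.card ↥(fixSub A) = Nat.card U := by rw [hAγ, hUm, hω]
    have h2 : fixSub A = ⊤ := (Subgroup.card_eq_iff_eq_top _).1 h1
    apply MulEquiv.ext
    intro u
    have : u ∈ fixSub A := by rw [h2]; exact Subgroup.mem_top u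
    exact this
  have hcop : Nat.Coprime (p ^ (e + 1)) γ := by
    apply Nat.Coprime.pow_left
    exact (Nat.Prime.coprime_iff_not_dvd hp).2 (not_dvd_card_sub hp hU _)
  have hdvdω : p ^ (e + 1) ∣ ω - 1 := by
    have h1 : m - γ = (ω - 1) * γ := by
      rw [hω, Nat.sub_mul, one_mul, mul_comm]
    rw [h1] at hdvd
    exact hcop.dvd_of_dvd_mul_right hdvd
  have hle : ω ^ p ≤ (p ^ (e + 2) - 1) ^ 2 := by
    have h1 : γ ^ p * ω ^ p ≤ γ ^ p * (p ^ (e + 2) - 1) ^ 2 := by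
      rw [← mul_pow, ← hω, ← hUm, ← hAγ]
      exact hI1
    exact Nat.le_of_mul_le_mul_left h1 (pow_pos hγpos p)
  obtain ⟨hp3, he, hω4⟩ := arith hp hp2 (n := e + 2) (by omega) (by rw [he1]; exact hdvdω) hω2 hle
  have he0 : e = 0 := by omega
  subst he0
  subst hω4
  -- equality in (I1)
  have heq : Nat.card U = Nat.card ↥(fixSub A) * (p ^ (0 + 2) - 1) ^ 2 := by
    rw [hUm, hAγ, hω, mul_pow, hp3]
    norm_num
  have hfix : ∀ u : U, A u = u → G u = u := hI2 heq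
  -- γ = 1
  have hcmod : (0 + c) % p = c := by rw [zero_add, Nat.mod_eq_of_lt hcp]
  have hbot : fixSub (eK W Z 0) ⊓ fixSub A = ⊥ := by
    rw [eq_bot_iff]
    intro u hu
    rw [Subgroup.mem_bot]
    have h1 : G u = u := hfix u hu.2
    have h2 : G u ∈ fixSub (eK W Z ((0 + c) % p)) := map_mem_fixSub_eK hGZ hG hZp hu.1
    rw [h1, hcmod] at h2
    have h3 : nrm p (eK W Z c) u = 1 :=
      nrm_eK_of_mem hWZ hWp hZp hfpf hU hp0 hcp (by omega) hu.1
    rw [nrm_of_fixed h2] at h3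
    exact hU u h3
  have hγ1 : γ = 1 := by rw [hγ, hbot, Subgroup.card_bot]
  have hm4 : m = p + 1 := by rw [hω, hγ1, hp3]
  -- the endgame
  apply MulEquiv.ext
  intro u
  obtain ⟨v, hv, rfl⟩ := span hWZ hWp hZp hfpf hp0 hUs u
  show A (B (∏ k : Fin p, v k)) = B (A (∏ k : Fin p, v k))
  rw [map_prod, map_prod, map_prod, map_prod]
  apply Finset.prod_congr rfl
  intro k _
  have hcard : Nat.card ↥(fixSub (eK W Z k)) = p + 1 := by rw [hall1' k k.2, hm4]
  exact commute_on_of_card hfpf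
    (map_fixSub_of_commute (commute_eK_of hWZ.symm (Commute.refl Z) k)) hcard
    (map_fixSub_of_commute (commute_eK_of hAW hAZ k))
    (map_fixSub_of_commute (commute_eK_of hBW hBZ k)) hAZ hBZ (v k) (hv k)

end main

end Cfsg.Agent.Lib.Helper49.HHM
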