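import Mathlib
import Cfsg.Prelude.Def_IsolatedElements
import Cfsg.Agent.Lib.Helper55.Cores
import Cfsg.Agent.Lib.Helper55.InvolSylow
import Cfsg.Agent.Lib.Helper50.Basic
import Cfsg.Agent.Lib.Helper49.Isolated
import Cfsg.Agent.Lib.Helper49.FunctorRegular

set_option autoImplicit false
set_option linter.style.haveILetI false
set_option linter.unusedSectionVars false
set_option linter.unusedVariables false

namespace Cfsg.Agent.Lib.Helper49

open Cfsg

/-- coprime action by an element of order `p`: an invariant Sylow `q`-subgroup. -/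
theorem exists_invariant_sylow {A : Type*} [Group A] [Finite A] {p q : ℕ} [Fact p.Prime]
    [Fact q.Prime] (W : Subgroup A) [hWn : W.Normal] (hW : ¬ p ∣ Nat.card ↥W) (x : A)
    (hx : orderOf x = p) (hcard : Nat.card A ∣ Nat.card ↥W * p) :
    ∃ R : Subgroup A, R ≤ W ∧ IsPGroup q ↥R ∧ Nat.card ↥R = q ^ (Nat.card ↥W).factorization q ∧
      x ∈ Subgroup.normalizer (R : Set A) := by
  have hpp : p.Prime := Fact.out
  obtain ⟨R₀⟩ : Nonempty (Sylow q ↥W) := inferInstance
  have hfrat : Subgroup.normalizer ((((R₀ : Subgroup ↥W).map W.subtype : Subgroup A)) : Set A) ⊔ W = ⊤ :=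
    Sylow.normalizer_sup_eq_top R₀
  have hpA : p ∣ Nat.card A := hx ▸ orderOf_dvd_natCard x
  have hpM : p ∣ Nat.card ↥(Subgroup.normalizer ((((R₀ : Subgroup ↥W).map W.subtype : Subgroup A)) : Set A)) := by
    have h1 : Nat.card A ∣ Nat.card ↥(Subgroup.normalizer
        ((((R₀ : Subgroup ↥W).map W.subtype : Subgroup A)) : Set A)) * Nat.card ↥W := by
      have := Helper55.card_sup_dvd_mul (Subgroup.normalizer
        ((((R₀ : Subgroup ↥W).map W.subtype : Subgroup A)) : Set A)) W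
      rwa [hfrat, Subgroup.card_top] at this
    have h2 := dvd_trans hpA h1
    exact (hpp.dvd_mul.mp h2).resolve_right hW
  obtain ⟨y, hy⟩ := exists_prime_orderOf_dvd_card' (G := ↥(Subgroup.normalizer
    ((((R₀ : Subgroup ↥W).map W.subtype : Subgroup A)) : Set A))) p hpM
  have hvp : (Nat.card A).factorization p = 1 := by
    have hle : (Nat.card A).factorization p ≤ (Nat.card ↥W * p).factorization p :=
      (Nat.factorization_le_iff_dvd Nat.card_pos.ne'
        (Nat.mul_ne_zero Nat.card_pos.ne' hpp.ne_zero)).mpr hcard p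
    rw [Nat.factorization_mul Nat.card_pos.ne' hpp.ne_zero, Finsupp.add_apply,
      Nat.factorization_eq_zero_of_not_dvd hW, hpp.factorization_self, zero_add] at hle
    have hge : 0 < (Nat.card A).factorization p :=
      hpp.factorization_pos_of_dvd Nat.card_pos.ne' hpA
    omega
  have hcx : Nat.card ↥(Subgroup.zpowers x) = p ^ (Nat.card A).factorization p := by
    rw [hvp, pow_one, Nat.card_zpowers, hx]
  have hcy : Nat.card ↥(Subgroup.zpowers (y : A)) = p ^ (Nat.card A).factorization p := by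
    rw [hvp, pow_one, Nat.card_zpowers, Subgroup.orderOf_coe, hy]
  obtain ⟨l, hl⟩ := MulAction.exists_smul_eq A (Sylow.ofCard _ hcy) (Sylow.ofCard _ hcx)
  refine ⟨((R₀ : Subgroup ↥W).map W.subtype).map (MulAut.conj l).toMonoidHom, ?_, ?_, ?_, ?_⟩
  · rintro _ ⟨z, hz, rfl⟩
    have hzW : z ∈ W := Subgroup.map_subtype_le _ hz
    exact hWn.conj_mem z hzW l
  · exact (R₀.isPGroup'.map _).map _
  · rw [Subgroup.card_map_of_injective (MulAut.conj l).injective,
      Subgroup.card_map_of_injective W.subtype_injective, Sylow.card_eq_multiplicity]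
  · rw [← Subgroup.map_equiv_normalizer_eq]
    have hxS : x ∈ ((Sylow.ofCard _ hcx : Sylow p A) : Subgroup A) := Subgroup.mem_zpowers x
    rw [← hl, coe_smul_sylow] at hxS
    obtain ⟨s, hs, rfl⟩ := hxS
    refine ⟨s, ?_, rfl⟩
    have hle : Subgroup.zpowers (y : A) ≤ Subgroup.normalizer
        ((((R₀ : Subgroup ↥W).map W.subtype : Subgroup A)) : Set A) := by
      rw [Subgroup.zpowers_le]; exact y.2
    exact hle hs

/-- If `x` of order `p` is central modulo `O_{p'}(H)`, then for `q ≠ p` some Sylow `q`-subgroup of `H`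
is normalized by `x`. -/
theorem exists_invariant_sylow_of_inZStar {H : Type*} [Group H] [Finite H] {p q : ℕ}
    [Fact p.Prime] [Fact q.Prime] (hpq : q ≠ p) (x : H) (hx : orderOf x = p)
    (hz : Cfsg.InZStar p x) :
    ∃ R : Subgroup H, IsPGroup q ↥R ∧ Nat.card ↥R = q ^ (Nat.card H).factorization q ∧
      x ∈ Subgroup.normalizer (R : Set H) := by
  have hpp : p.Prime := Fact.out
  have hqq : q.Prime := Fact.out
  haveI hKn : (Cfsg.pPrimeCore p H).Normal := Helper55.pPrimeCore_normal' p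
  obtain ⟨Rbar⟩ : Nonempty (Sylow q (H ⧸ Cfsg.pPrimeCore p H)) := inferInstance
  set W : Subgroup H :=
    (Rbar : Subgroup (H ⧸ Cfsg.pPrimeCore p H)).comap (QuotientGroup.mk' (Cfsg.pPrimeCore p H)) with hW
  have hcentral : ∀ h : H, (h : H ⧸ Cfsg.pPrimeCore p H) * (x : H ⧸ Cfsg.pPrimeCore p H) =
      (x : H ⧸ Cfsg.pPrimeCore p H) * (h : H ⧸ Cfsg.pPrimeCore p H) := by
    intro h
    have h1 := hz h
    have h2 : ((h * x * h⁻¹ * x⁻¹ : H) : H ⧸ Cfsg.pPrimeCore p H) = 1 :=
      (QuotientGroup.eq_one_iff _).mpr h1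
    simp only [QuotientGroup.mk_mul, QuotientGroup.mk_inv] at h2
    calc (h : H ⧸ Cfsg.pPrimeCore p H) * x
        = ((h : H ⧸ Cfsg.pPrimeCore p H) * x * (h : H ⧸ Cfsg.pPrimeCore p H)⁻¹ *
            (x : H ⧸ Cfsg.pPrimeCore p H)⁻¹) * (x * h) := by group
      _ = x * h := by rw [h2, one_mul]
  have hxW : x ∈ Subgroup.normalizer (W : Set H) := by
    apply Helper50.mem_normalizer_of_conj_mem
    intro w hw
    rw [hW, Subgroup.mem_comap] at hw ⊢
    simp only [QuotientGroup.mk'_apply, QuotientGroup.mk_mul, QuotientGroup.mk_inv] at hw ⊢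
    rw [← hcentral w, mul_inv_cancel_right]
    exact hw
  have hcardW : Nat.card ↥W = Nat.card ↥(Cfsg.pPrimeCore p H) *
      Nat.card ↥(Rbar : Subgroup (H ⧸ Cfsg.pPrimeCore p H)) := Helper55.card_comap_mk' _ _
  have hRbar : Nat.card ↥(Rbar : Subgroup (H ⧸ Cfsg.pPrimeCore p H)) =
      q ^ (Nat.card (H ⧸ Cfsg.pPrimeCore p H)).factorization q := Rbar.card_eq_multiplicity
  have hpW : ¬ p ∣ Nat.card ↥W := by
    rw [hcardW, hRbar]
    intro h
    rcases hpp.dvd_mul.mp h with h1 | h1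
    · exact (Nat.Prime.coprime_iff_not_dvd hpp).mp (Helper55.pPrimeCore_card_coprime p).symm h1
    · have h3 := hpp.dvd_of_dvd_pow h1
      exact hpq ((Nat.prime_dvd_prime_iff_eq hpp hqq).mp h3).symm
  have hWL : W ≤ W ⊔ Subgroup.zpowers x := le_sup_left
  have hxL : x ∈ W ⊔ Subgroup.zpowers x :=
    (le_sup_right : Subgroup.zpowers x ≤ _) (Subgroup.mem_zpowers x)
  have hzN : Subgroup.zpowers x ≤ Subgroup.normalizer (W : Set H) := by
    rw [Subgroup.zpowers_le]; exact hxW
  have hLN : W ⊔ Subgroup.zpowers x ≤ Subgroup.normalizer (W : Set H) :=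
    sup_le Subgroup.le_normalizer hzN
  haveI hWLn : (W.subgroupOf (W ⊔ Subgroup.zpowers x)).Normal :=
    (Subgroup.normal_subgroupOf_iff_le_normalizer hWL).mpr hLN
  have hcardWL : Nat.card ↥(W.subgroupOf (W ⊔ Subgroup.zpowers x)) = Nat.card ↥W :=
    Nat.card_congr (Subgroup.subgroupOfEquivOfLe hWL).toEquiv
  have hcardL : Nat.card ↥(W ⊔ Subgroup.zpowers x) ∣
      Nat.card ↥(W.subgroupOf (W ⊔ Subgroup.zpowers x)) * p := by
    rw [hcardWL]
    have h4 := Helper55.card_sup_dvd_mul_of_le_normalizer (Subgroup.zpowers x) W hzN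
    rw [sup_comm, Nat.card_zpowers, hx, mul_comm] at h4
    exact h4
  obtain ⟨R_A, hR1, hR2, hR3, hR4⟩ := exists_invariant_sylow (q := q)
    (W.subgroupOf (W ⊔ Subgroup.zpowers x)) (by rw [hcardWL]; exact hpW)
    (⟨x, hxL⟩ : ↥(W ⊔ Subgroup.zpowers x)) (by rw [Subgroup.orderOf_mk]; exact hx) hcardL
  refine ⟨R_A.map (W ⊔ Subgroup.zpowers x).subtype, hR2.map _, ?_, ?_⟩
  · rw [Subgroup.card_map_of_injective (Subgroup.subtype_injective _), hR3, hcardWL, hcardW, hRbar]
    congr 1
    have hH : Nat.card H = Nat.card (H ⧸ Cfsg.pPrimeCore p H) * Nat.card ↥(Cfsg.pPrimeCore p H) :=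
      Subgroup.card_eq_card_quotient_mul_card_subgroup _
    rw [hH, Nat.factorization_mul Nat.card_pos.ne' (pow_ne_zero _ hqq.ne_zero),
      Nat.factorization_mul Nat.card_pos.ne' Nat.card_pos.ne', Finsupp.add_apply, Finsupp.add_apply,
      Nat.Prime.factorization_pow hqq, Finsupp.single_eq_same, add_comm]
  · apply Helper50.mem_normalizer_of_conj_mem
    rintro _ ⟨z, hz', rfl⟩
    have h5 := (Subgroup.mem_normalizer_iff.mp hR4 z).mp hz'
    exact ⟨_, h5, by simp⟩

end Cfsg.Agent.Lib.Helper49
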