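import Mathlib
import Cfsg.Agent.Lib.Helper17.MiscTools
import Cfsg.Agent.Lib.Helper17.CosetTools
import Cfsg.Agent.Lib.Helper17.SylowTools
import Cfsg.Agent.Lib.Helper17.InvolTools
import Cfsg.Agent.Lib.Helper17.ElementCount
import Cfsg.Agent.Lib.Helper17.Ord720a

/-!
# The element orders of a group "of type `J₁`" (helper49)

Abstract hypotheses (`Hyp`): `G` simple of order `175560`, every element commuting with an
involution has order in `{1,2,3,5,6,10}`, the elements of order divisible by `19` have order `19`,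
and there are elements of orders `6` and `10`.  Then the set of element orders of `G` is
`{1,2,3,5,6,7,10,11,15,19}` (Sylow numerics at the primes `3, 5, 7, 11`).
-/

set_option autoImplicit false

namespace Cfsg.Agent.Lib.Helper49.J1Spec

open Subgroup Cfsg.Agent.Lib.Helper17

variable {G : Type*} [Group G] [Finite G]

/-- abstract hypotheses satisfied by `J₁` -/
structure Hyp (G : Type*) [Group G] [Finite G] : Prop where
  simple : IsSimpleGroup G
  card : Nat.card G = 175560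
  inv : ∀ t g : G, orderOf t = 2 → g * t = t * g →
    orderOf g ∈ ({1, 2, 3, 5, 6, 10} : Finset ℕ)
  n19 : ∀ g : G, 19 ∣ orderOf g → orderOf g = 19
  ex6 : ∃ g : G, orderOf g = 6
  ex10 : ∃ g : G, orderOf g = 10

/-- a power of `g` of any order dividing the order of `g` -/
theorem exists_orderOf_of_dvd (g : G) {d : ℕ} (hd : d ∣ orderOf g) : ∃ k : ℕ, orderOf (g ^ k) = d := by
  have hpos : 0 < orderOf g := orderOf_pos g
  obtain ⟨k, hk⟩ := hd
  have hk0 : k ≠ 0 := by rintro rfl; omega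
  refine ⟨k, ?_⟩
  rw [orderOf_pow_of_dvd hk0 ⟨d, by rw [hk]; ring⟩, hk]
  exact Nat.mul_div_cancel _ (Nat.pos_of_ne_zero hk0)

/-- elements of even order have order `2`, `6` or `10` -/
theorem Hyp.even (h : Hyp G) (g : G) (h2 : 2 ∣ orderOf g) :
    orderOf g = 2 ∨ orderOf g = 6 ∨ orderOf g = 10 := by
  obtain ⟨k, hk⟩ := exists_orderOf_of_dvd g h2
  have hc : g * g ^ k = g ^ k * g := by rw [← pow_succ', ← pow_succ]
  have := h.inv (g ^ k) g hk hc
  simp only [Finset.mem_insert, Finset.mem_singleton] at this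
  omega

/-- Sylow data at a prime dividing the order exactly once -/
theorem sylow_data [IsSimpleGroup G] {p m : ℕ} [hp : Fact p.Prime]
    (hcard : Nat.card G = p ^ 1 * m) (hpm : ¬ p ∣ m) (hm : 1 < m) (P : Sylow p G) :
    Nat.card ↥(P : Subgroup G) = p ∧ ∃ r n : ℕ,
      Nat.card ↥(centralizer ((P : Subgroup G) : Set G)) * r * n = Nat.card G ∧ n % p = 1 ∧
      r ∣ p - 1 ∧ r ≠ 1 ∧ p ∣ Nat.card ↥(centralizer ((P : Subgroup G) : Set G)) ∧
      Nat.card ↥(normalizer ((P : Subgroup G) : Set G)) =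
        Nat.card ↥(centralizer ((P : Subgroup G) : Set G)) * r ∧
      (P : Subgroup G) ≤ centralizer ((P : Subgroup G) : Set G) := by
  have hP : Nat.card ↥(P : Subgroup G) = p := by
    simpa using card_sylow_of_card_eq P hcard hpm
  refine ⟨hP, ?_⟩
  have hPN : (P : Subgroup G) ≤ normalizer ((P : Subgroup G) : Set G) := le_normalizer
  have hdvd : p ∣ Nat.card ↥(normalizer ((P : Subgroup G) : Set G)) := by
    have := Subgroup.card_dvd_of_le hPN
    rwa [hP] at this
  obtain ⟨e, he⟩ := hdvd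
  have hp1 : 1 < p := hp.out.one_lt
  have hG : p < Nat.card G := by
    rw [hcard, pow_one]
    nlinarith [hp1, hm]
  obtain ⟨r, hr1, _, hr3, hr4, hr5, _⟩ := card_centralizer_sylow_mul P hP hG he
  refine ⟨r, Nat.card (Sylow p G), ?_, ?_, hr1, hr3, ?_, ?_, hr5⟩
  · rw [hr4, ← he]
    exact card_normalizer_mul_card_sylow P
  · have := card_sylow_modEq_one p G
    rw [Nat.ModEq, Nat.mod_eq_of_lt hp1] at this
    exact this
  · have := Subgroup.card_dvd_of_le hr5
    rwa [hP] at this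
  · rw [hr4, he]


omit [Finite G] in
theorem orderOf_conj_eq (c g : G) : orderOf (c * g * c⁻¹) = orderOf g := by
  rw [← MulAut.conj_apply, MulEquiv.orderOf_eq]

/-- a generator of a Sylow subgroup of prime order -/
theorem exists_gen {p : ℕ} [hp : Fact p.Prime] (P : Sylow p G)
    (hP : Nat.card ↥(P : Subgroup G) = p) : ∃ x ∈ (P : Subgroup G), orderOf x = p := by
  have hne : (P : Subgroup G) ≠ ⊥ := by
    intro h
    rw [h, Subgroup.card_bot] at hP
    exact hp.out.one_lt.ne hP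
  obtain ⟨⟨x, hx⟩, hx1⟩ := (Subgroup.ne_bot_iff_exists_ne_one).mp hne
  refine ⟨x, hx, orderOf_eq_of_mem_of_card_prime _ hP x hx ?_⟩
  intro h
  exact hx1 (Subtype.ext h)

/-- a prime `q ≠ p` dividing `|C(P)|` gives an element of order `p * q` -/
theorem exists_orderOf_mul {p q : ℕ} [hp : Fact p.Prime] [hq : Fact q.Prime] (hpq : p ≠ q)
    (P : Sylow p G) (hP : Nat.card ↥(P : Subgroup G) = p)
    (hdvd : q ∣ Nat.card ↥(centralizer ((P : Subgroup G) : Set G))) :
    ∃ g : G, orderOf g = p * q := by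
  obtain ⟨x, hxP, hx⟩ := exists_gen P hP
  obtain ⟨y, hyC, hy⟩ := exists_mem_orderOf_eq (centralizer ((P : Subgroup G) : Set G)) hdvd
  have hc : Commute x y := by
    rw [mem_centralizer_iff] at hyC
    exact hyC x hxP
  have hcop : (orderOf x).Coprime (orderOf y) := by
    rw [hx, hy]
    exact (Nat.coprime_primes hp.out hq.out).mpr hpq
  refine ⟨x * y, ?_⟩
  rw [hc.orderOf_mul_eq_mul_orderOf_of_coprime hcop, hx, hy]

/-- an element some power of which has order `p` is conjugate into `C(P)` -/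
theorem exists_conj_mem_centralizer {p : ℕ} [hp : Fact p.Prime] (P : Sylow p G)
    (hP : Nat.card ↥(P : Subgroup G) = p) (g : G) (k : ℕ) (hk : orderOf (g ^ k) = p) :
    ∃ c : G, c * g * c⁻¹ ∈ centralizer ((P : Subgroup G) : Set G) := by
  have hfac : p ^ (Nat.card G).factorization p = p := by rw [← P.card_eq_multiplicity, hP]
  have hcardS : Nat.card ↥(zpowers (g ^ k)) = p ^ (Nat.card G).factorization p := by
    rw [Nat.card_zpowers, hk, hfac]
  obtain ⟨c, hc⟩ := MulAction.exists_smul_eq G (Sylow.ofCard (zpowers (g ^ k)) hcardS) P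
  refine ⟨c, ?_⟩
  rw [mem_centralizer_iff]
  intro y hy
  have hy' : y ∈ ((c • (Sylow.ofCard (zpowers (g ^ k)) hcardS) : Sylow p G) : Subgroup G) := by
    rw [hc]; exact hy
  rw [Sylow.coe_subgroup_smul, Subgroup.mem_smul_pointwise_iff_exists] at hy'
  obtain ⟨s, hs, rfl⟩ := hy'
  have hs' : s ∈ zpowers (g ^ k) := hs
  obtain ⟨n, rfl⟩ := mem_zpowers_iff.mp hs'
  have hcomm : Commute ((g ^ k) ^ n) g := ((Commute.refl g).pow_left k).zpow_left n
  simp only [MulAut.smul_def, MulAut.conj_apply]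
  calc c * (g ^ k) ^ n * c⁻¹ * (c * g * c⁻¹) = c * ((g ^ k) ^ n * g) * c⁻¹ := by group
    _ = c * (g * (g ^ k) ^ n) * c⁻¹ := by rw [hcomm.eq]
    _ = c * g * c⁻¹ * (c * (g ^ k) ^ n * c⁻¹) := by group

/-- an element of order `p * q` forces `p * q ∣ |C(P)|` -/
theorem dvd_card_centralizer {p q : ℕ} [hp : Fact p.Prime] (P : Sylow p G)
    (hP : Nat.card ↥(P : Subgroup G) = p) (g : G) (hg : orderOf g = p * q) :
    p * q ∣ Nat.card ↥(centralizer ((P : Subgroup G) : Set G)) := by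
  obtain ⟨k, hk⟩ := exists_orderOf_of_dvd g (d := p) (by rw [hg]; exact dvd_mul_right p q)
  obtain ⟨c, hc⟩ := exists_conj_mem_centralizer P hP g k hk
  have := orderOf_dvd_card_of_mem _ hc
  rwa [orderOf_conj_eq, hg] at this

/-! ### numerics -/

theorem dvd_1155 {c : ℕ} (hc : c ∣ 175560) (h2 : ¬ 2 ∣ c) (h19 : ¬ 19 ∣ c) : c ∣ 1155 := by
  have e : (175560 : ℕ) = 1155 * 19 * 2 ^ 3 := by norm_num
  rw [e] at hc
  have c2 : Nat.Coprime c (2 ^ 3) :=
    Nat.Coprime.pow_right 3 (Nat.Coprime.symm ((Nat.Prime.coprime_iff_not_dvd Nat.prime_two).mpr h2))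
  have h1 := c2.dvd_of_dvd_mul_right hc
  have c19 : Nat.Coprime c 19 :=
    Nat.Coprime.symm ((Nat.Prime.coprime_iff_not_dvd (by norm_num)).mpr h19)
  exact c19.dvd_of_dvd_mul_right h1

theorem dvd_9240 {c : ℕ} (hc : c ∣ 175560) (h19 : ¬ 19 ∣ c) : c ∣ 9240 := by
  have e : (175560 : ℕ) = 9240 * 19 := by norm_num
  rw [e] at hc
  have c19 : Nat.Coprime c 19 :=
    Nat.Coprime.symm ((Nat.Prime.coprime_iff_not_dvd (by norm_num)).mpr h19)
  exact c19.dvd_of_dvd_mul_right hc

theorem num_n {c r n : ℕ} (h : c * r * n = 175560) : c * r ∣ 175560 ∧ 175560 / (c * r) = n ∧ c ∣ 175560 := by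
  have hpos : 0 < c * r := by
    rcases Nat.eq_zero_or_pos (c * r) with h0 | h0
    · rw [h0, zero_mul] at h; omega
    · exact h0
  refine ⟨Dvd.intro n h, Nat.div_eq_of_eq_mul_right hpos h.symm, ?_⟩
  exact Dvd.intro (r * n) (by rw [← mul_assoc]; exact h)

/-- bounded universal quantifier as a Boolean -/
def allB (k : ℕ) (f : ℕ → Bool) : Bool := (List.range k).all f

theorem allB_spec {k : ℕ} {f : ℕ → Bool} : allB k f = true ↔ ∀ i, i < k → f i = true := by
  simp [allB, List.all_eq_true, List.mem_range]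

/-- the numerical test: `c = m * c'`, `|N| = c * r`, `n_p = 175560 / (c * r)` -/
def chk (m B p : ℕ) (extra : ℕ → Bool) (good : ℕ → ℕ → Bool) (c r : ℕ) : Bool :=
  !(decide (c ∣ B) && decide (r ∣ p - 1) && decide (r ≠ 1) && extra c &&
    decide (m * c * r ∣ 175560) && decide ((175560 / (m * c * r)) % p = 1)) || good c r

theorem chk_sound {m B p : ℕ} {extra : ℕ → Bool} {good : ℕ → ℕ → Bool}
    (hall : allB (B + 1) (fun c => allB p (fun r => chk m B p extra good c r)) = true)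
    {c r : ℕ} (hB : 0 < B) (hp : 1 < p)
    (h1 : c ∣ B) (h2 : r ∣ p - 1) (h3 : r ≠ 1) (h5 : extra c = true)
    (h6 : m * c * r ∣ 175560) (h7 : (175560 / (m * c * r)) % p = 1) : good c r = true := by
  have hc : c < B + 1 := Nat.lt_succ_of_le (Nat.le_of_dvd hB h1)
  have hr : r < p := by
    have := Nat.le_of_dvd (by omega) h2
    omega
  have h := allB_spec.mp (allB_spec.mp hall c hc) r hr
  unfold chk at h
  rw [decide_eq_true h1, decide_eq_true h2, decide_eq_true h3, h5,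
    decide_eq_true h6, decide_eq_true h7] at h
  simpa using h

theorem all7 : allB (165 + 1) (fun c => allB 7 (fun r => chk 7 165 7 (fun _ => true)
    (fun c r => (decide (c = 1) && decide (r = 6)) || (decide (c = 3) && decide (r = 2))) c r))
    = true := by decide +kernel

theorem all11 : allB (105 + 1) (fun c => allB 11 (fun r => chk 11 105 11
    (fun c => decide (¬ 7 ∣ c))
    (fun c r => (decide (c = 1) && decide (r = 10)) || (decide (c = 5) && decide (r = 2))) c r))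
    = true := by decide +kernel

theorem all5 : allB (924 + 1) (fun c => allB 5 (fun r => chk 10 924 5 (fun _ => true)
    (fun c r => (decide (c = 3) || decide (c = 33)) && decide (r = 2)) c r))
    = true := by decide +kernel

theorem all3 : allB (308 + 1) (fun c => allB 3 (fun r => chk 30 308 3
    (fun c => decide (¬ 11 ∣ c))
    (fun c r => (decide (c = 1) || decide (c = 7)) && decide (r = 2)) c r))
    = true := by decide +kernel

theorem num7 (c r n : ℕ) (h : c * r * n = 175560) (hn : n % 7 = 1) (hr : r ∣ 6) (hr1 : r ≠ 1)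
    (h7 : 7 ∣ c) (h2 : ¬ 2 ∣ c) (h19 : ¬ 19 ∣ c) : (c = 7 ∧ r = 6) ∨ (c = 21 ∧ r = 2) := by
  obtain ⟨h1, h3, h4⟩ := num_n h
  have hc := dvd_1155 h4 h2 h19
  obtain ⟨c', rfl⟩ := h7
  have hc' : c' ∣ 165 := Nat.dvd_of_mul_dvd_mul_left (by norm_num : 0 < 7) (by simpa using hc)
  have := chk_sound all7 (by norm_num) (by norm_num) hc' hr hr1 rfl h1 (by rw [h3]; exact hn)
  simp only [Bool.or_eq_true, Bool.and_eq_true, decide_eq_true_eq] at this
  omega

theorem num11 (c r n : ℕ) (h : c * r * n = 175560) (hn : n % 11 = 1) (hr : r ∣ 10) (hr1 : r ≠ 1)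
    (h11 : 11 ∣ c) (h2 : ¬ 2 ∣ c) (h19 : ¬ 19 ∣ c) (h7 : ¬ 7 ∣ c) :
    (c = 11 ∧ r = 10) ∨ (c = 55 ∧ r = 2) := by
  obtain ⟨h1, h3, h4⟩ := num_n h
  have hc := dvd_1155 h4 h2 h19
  obtain ⟨c', rfl⟩ := h11
  have hc' : c' ∣ 105 := Nat.dvd_of_mul_dvd_mul_left (by norm_num : 0 < 11) (by simpa using hc)
  have h7' : ¬ 7 ∣ c' := fun hh => h7 (Dvd.dvd.mul_left hh 11)
  have := chk_sound all11 (by norm_num) (by norm_num) hc' hr hr1 (decide_eq_true h7') h1
    (by rw [h3]; exact hn)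
  simp only [Bool.or_eq_true, Bool.and_eq_true, decide_eq_true_eq] at this
  omega

theorem num5 (c r n : ℕ) (h : c * r * n = 175560) (hn : n % 5 = 1) (hr : r ∣ 4) (hr1 : r ≠ 1)
    (h5 : 5 ∣ c) (h2 : 2 ∣ c) (h19 : ¬ 19 ∣ c) : (c = 30 ∨ c = 330) ∧ r = 2 := by
  obtain ⟨h1, h3, h4⟩ := num_n h
  have hc := dvd_9240 h4 h19
  have h10 : 10 ∣ c := by
    have : (2 * 5 : ℕ) ∣ c := Nat.Coprime.mul_dvd_of_dvd_of_dvd (by norm_num) h2 h5
    simpa using this
  obtain ⟨c', rfl⟩ := h10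
  have hc' : c' ∣ 924 := Nat.dvd_of_mul_dvd_mul_left (by norm_num : 0 < 10) (by simpa using hc)
  have := chk_sound all5 (by norm_num) (by norm_num) hc' hr hr1 rfl h1 (by rw [h3]; exact hn)
  simp only [Bool.or_eq_true, Bool.and_eq_true, decide_eq_true_eq] at this
  omega

theorem num3 (c r n : ℕ) (h : c * r * n = 175560) (hn : n % 3 = 1) (hr : r ∣ 2) (hr1 : r ≠ 1)
    (h3' : 3 ∣ c) (h2 : 2 ∣ c) (h5 : 5 ∣ c) (h19 : ¬ 19 ∣ c) (h11 : ¬ 11 ∣ c) :
    (c = 30 ∨ c = 210) ∧ r = 2 := by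
  obtain ⟨h1, h3, h4⟩ := num_n h
  have hc := dvd_9240 h4 h19
  have h30 : 30 ∣ c := by
    have h6 : (2 * 3 : ℕ) ∣ c := Nat.Coprime.mul_dvd_of_dvd_of_dvd (by norm_num) h2 h3'
    have : (2 * 3 * 5 : ℕ) ∣ c := Nat.Coprime.mul_dvd_of_dvd_of_dvd (by norm_num) h6 h5
    simpa using this
  obtain ⟨c', rfl⟩ := h30
  have hc' : c' ∣ 308 := Nat.dvd_of_mul_dvd_mul_left (by norm_num : 0 < 30) (by simpa using hc)
  have h11' : ¬ 11 ∣ c' := fun hh => h11 (Dvd.dvd.mul_left hh 30)
  have := chk_sound all3 (by norm_num) (by norm_num) hc' hr hr1 (decide_eq_true h11') h1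
    (by rw [h3]; exact hn)
  simp only [Bool.or_eq_true, Bool.and_eq_true, decide_eq_true_eq] at this
  omega

end Cfsg.Agent.Lib.Helper49.J1Spec
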