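import Mathlib
import Cfsg.Agent.Lib.Helper49.J1SpecA

/-!
# The element orders of a group "of type `J₁`": the Sylow analysis (helper49)
-/

set_option autoImplicit false

namespace Cfsg.Agent.Lib.Helper49.J1Spec

open Subgroup Cfsg.Agent.Lib.Helper17

variable {G : Type*} [Group G] [Finite G]

theorem fact2 : Fact (Nat.Prime 2) := ⟨Nat.prime_two⟩
theorem fact3 : Fact (Nat.Prime 3) := ⟨by norm_num⟩
theorem fact5 : Fact (Nat.Prime 5) := ⟨by norm_num⟩
theorem fact7 : Fact (Nat.Prime 7) := ⟨by norm_num⟩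
theorem fact11 : Fact (Nat.Prime 11) := ⟨by norm_num⟩
theorem fact19 : Fact (Nat.Prime 19) := ⟨by norm_num⟩

/-- no element of order `2 * q`, `q ∈ {7, 11, 19}`; no element of order `19 * q` -/
theorem Hyp.not_two_dvd (h : Hyp G) {p : ℕ} [hp : Fact p.Prime] (hp7 : 7 ≤ p) (P : Sylow p G)
    (hP : Nat.card ↥(P : Subgroup G) = p) :
    ¬ 2 ∣ Nat.card ↥(centralizer ((P : Subgroup G) : Set G)) := by
  intro h2
  have := fact2
  obtain ⟨g, hg⟩ := exists_orderOf_mul (p := p) (q := 2) (by omega) P hP h2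
  have := h.even g (by rw [hg]; exact dvd_mul_left 2 p)
  omega

theorem Hyp.not_nineteen_dvd (h : Hyp G) {p : ℕ} [hp : Fact p.Prime] (hp19 : p < 19) (P : Sylow p G)
    (hP : Nat.card ↥(P : Subgroup G) = p) :
    ¬ 19 ∣ Nat.card ↥(centralizer ((P : Subgroup G) : Set G)) := by
  intro h19
  have := fact19
  obtain ⟨g, hg⟩ := exists_orderOf_mul (p := p) (q := 19) (by omega) P hP h19
  have := h.n19 g (by rw [hg]; exact dvd_mul_left 19 p)
  have hp2 : 2 ≤ p := hp.out.two_le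
  rw [hg] at this
  nlinarith

/-- the Sylow `7`-subgroups -/
theorem Hyp.syl7 (h : Hyp G) (P : Sylow 7 G) :
    (Nat.card ↥(centralizer ((P : Subgroup G) : Set G)) = 7 ∨
      Nat.card ↥(centralizer ((P : Subgroup G) : Set G)) = 21) ∧
    Nat.card ↥(normalizer ((P : Subgroup G) : Set G)) = 42 ∧
    Nat.card ↥(P : Subgroup G) = 7 := by
  have := fact7
  have := h.simple
  obtain ⟨hP, r, n, h1, h2, h3, h4, h5, h6, _⟩ :=
    sylow_data (p := 7) (m := 25080) (by rw [h.card]; norm_num) (by norm_num) (by norm_num) P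
  rw [h.card] at h1
  have := num7 _ r n h1 h2 (by simpa using h3) h4 h5 (h.not_two_dvd (by norm_num) P hP)
    (h.not_nineteen_dvd (by norm_num) P hP)
  rcases this with ⟨hc, hr⟩ | ⟨hc, hr⟩
  · exact ⟨Or.inl hc, by rw [h6, hc, hr], hP⟩
  · exact ⟨Or.inr hc, by rw [h6, hc, hr], hP⟩

/-- no element of order `7 * q` for `q ∈ {5, 11}` -/
theorem Hyp.not_seven_mul (h : Hyp G) (g : G) {q : ℕ} (hq : 3 < q) : orderOf g ≠ 7 * q := by
  intro hg
  have := fact7
  obtain ⟨P⟩ : Nonempty (Sylow 7 G) := inferInstance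
  obtain ⟨hc, _, hP⟩ := h.syl7 P
  have hd := dvd_card_centralizer P hP g hg
  rcases hc with hc | hc <;> rw [hc] at hd <;> have := Nat.le_of_dvd (by norm_num) hd <;> omega

/-- the Sylow `11`-subgroups -/
theorem Hyp.syl11 (h : Hyp G) (P : Sylow 11 G) :
    (Nat.card ↥(centralizer ((P : Subgroup G) : Set G)) = 11 ∨
      Nat.card ↥(centralizer ((P : Subgroup G) : Set G)) = 55) ∧
    Nat.card ↥(normalizer ((P : Subgroup G) : Set G)) = 110 ∧
    Nat.card ↥(P : Subgroup G) = 11 := by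
  have := fact11
  have := h.simple
  obtain ⟨hP, r, n, h1, h2, h3, h4, h5, h6, _⟩ :=
    sylow_data (p := 11) (m := 15960) (by rw [h.card]; norm_num) (by norm_num) (by norm_num) P
  rw [h.card] at h1
  have h7 : ¬ 7 ∣ Nat.card ↥(centralizer ((P : Subgroup G) : Set G)) := by
    intro h7
    have := fact7
    obtain ⟨g, hg⟩ := exists_orderOf_mul (p := 11) (q := 7) (by norm_num) P hP h7
    exact h.not_seven_mul g (q := 11) (by norm_num) (by rw [hg])
  have := num11 _ r n h1 h2 (by simpa using h3) h4 h5 (h.not_two_dvd (by norm_num) P hP)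
    (h.not_nineteen_dvd (by norm_num) P hP) h7
  rcases this with ⟨hc, hr⟩ | ⟨hc, hr⟩
  · exact ⟨Or.inl hc, by rw [h6, hc, hr], hP⟩
  · exact ⟨Or.inr hc, by rw [h6, hc, hr], hP⟩

/-- no element of order `33` -/
theorem Hyp.not_33 (h : Hyp G) (g : G) : orderOf g ≠ 33 := by
  intro hg
  have := fact11
  obtain ⟨P⟩ : Nonempty (Sylow 11 G) := inferInstance
  obtain ⟨hc, _, hP⟩ := h.syl11 P
  have hd := dvd_card_centralizer (q := 3) P hP g (by rw [hg])
  rcases hc with hc | hc <;> rw [hc] at hd <;> omega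

/-- the Sylow `5`-subgroups -/
theorem Hyp.syl5 (h : Hyp G) (P : Sylow 5 G) :
    ((Nat.card ↥(centralizer ((P : Subgroup G) : Set G)) = 30 ∧
        Nat.card ↥(normalizer ((P : Subgroup G) : Set G)) = 60) ∨
      (Nat.card ↥(centralizer ((P : Subgroup G) : Set G)) = 330 ∧
        Nat.card ↥(normalizer ((P : Subgroup G) : Set G)) = 660)) ∧
    Nat.card ↥(P : Subgroup G) = 5 ∧
    (P : Subgroup G) ≤ centralizer ((P : Subgroup G) : Set G) := by
  have := fact5
  have := h.simple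
  obtain ⟨hP, r, n, h1, h2, h3, h4, h5, h6, h7⟩ :=
    sylow_data (p := 5) (m := 35112) (by rw [h.card]; norm_num) (by norm_num) (by norm_num) P
  rw [h.card] at h1
  have h2' : 2 ∣ Nat.card ↥(centralizer ((P : Subgroup G) : Set G)) := by
    obtain ⟨g, hg⟩ := h.ex10
    exact (Dvd.intro_left 5 rfl).trans (dvd_card_centralizer (q := 2) P hP g (by rw [hg]))
  have := num5 _ r n h1 h2 (by simpa using h3) h4 h5 h2' (h.not_nineteen_dvd (by norm_num) P hP)
  obtain ⟨hc | hc, hr⟩ := this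
  · exact ⟨Or.inl ⟨hc, by rw [h6, hc, hr]⟩, hP, h7⟩
  · exact ⟨Or.inr ⟨hc, by rw [h6, hc, hr]⟩, hP, h7⟩

/-- there is an element of order `15` -/
theorem Hyp.ex15 (h : Hyp G) : ∃ g : G, orderOf g = 15 := by
  have := fact5
  have := fact3
  obtain ⟨P⟩ : Nonempty (Sylow 5 G) := inferInstance
  obtain ⟨hc, hP, _⟩ := h.syl5 P
  have h3 : 3 ∣ Nat.card ↥(centralizer ((P : Subgroup G) : Set G)) := by
    rcases hc with ⟨hc, _⟩ | ⟨hc, _⟩ <;> rw [hc] <;> norm_num
  obtain ⟨g, hg⟩ := exists_orderOf_mul (p := 5) (q := 3) (by norm_num) P hP h3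
  exact ⟨g, by rw [hg]⟩

/-- the Sylow `3`-subgroups -/
theorem Hyp.syl3 (h : Hyp G) (P : Sylow 3 G) :
    (Nat.card ↥(centralizer ((P : Subgroup G) : Set G)) = 30 ∨
      Nat.card ↥(centralizer ((P : Subgroup G) : Set G)) = 210) ∧
    Nat.card ↥(P : Subgroup G) = 3 ∧
    (P : Subgroup G) ≤ centralizer ((P : Subgroup G) : Set G) := by
  have := fact3
  have := h.simple
  obtain ⟨hP, r, n, h1, h2, h3, h4, h5, h6, h7⟩ :=
    sylow_data (p := 3) (m := 58520) (by rw [h.card]; norm_num) (by norm_num) (by norm_num) P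
  rw [h.card] at h1
  have h2' : 2 ∣ Nat.card ↥(centralizer ((P : Subgroup G) : Set G)) := by
    obtain ⟨g, hg⟩ := h.ex6
    exact (Dvd.intro_left 3 rfl).trans (dvd_card_centralizer (q := 2) P hP g (by rw [hg]))
  have h5' : 5 ∣ Nat.card ↥(centralizer ((P : Subgroup G) : Set G)) := by
    obtain ⟨g, hg⟩ := h.ex15
    exact (Dvd.intro_left 3 rfl).trans (dvd_card_centralizer (q := 5) P hP g (by rw [hg]))
  have h11 : ¬ 11 ∣ Nat.card ↥(centralizer ((P : Subgroup G) : Set G)) := by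
    intro h11
    have := fact11
    obtain ⟨g, hg⟩ := exists_orderOf_mul (p := 3) (q := 11) (by norm_num) P hP h11
    exact h.not_33 g (by rw [hg])
  have := num3 _ r n h1 h2 (by simpa using h3) h4 h5 h2' h5'
    (h.not_nineteen_dvd (by norm_num) P hP) h11
  obtain ⟨hc, _⟩ := this
  exact ⟨hc, hP, h7⟩

end Cfsg.Agent.Lib.Helper49.J1Spec
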