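import Mathlib
import Cfsg.Agent.Lib.Helper49.J1SpecB

/-!
# The element orders of a group "of type `J₁`": conclusion (helper49)
-/

set_option autoImplicit false

namespace Cfsg.Agent.Lib.Helper49.J1Spec

open Subgroup Cfsg.Agent.Lib.Helper17

variable {G : Type*} [Group G] [Finite G]

/-- Sylow's theorem inside `C(P)`: if `q` divides `|C(P)| = c`, the Sylow `q`-subgroups of `G` have
order `q` and normalizers of order `nq`, then a numerical configuration occurs. -/
theorem sub_sylow {p q : ℕ} [hp : Fact p.Prime] [hq : Fact q.Prime]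
    (hpq : Nat.Coprime p q) (P : Sylow p G) (hP : Nat.card ↥(P : Subgroup G) = p)
    (hPC : (P : Subgroup G) ≤ centralizer ((P : Subgroup G) : Set G))
    (hq1 : q ^ (Nat.card G).factorization q = q) (nq : ℕ)
    (hNq : ∀ Q : Sylow q G, Nat.card ↥(normalizer ((Q : Subgroup G) : Set G)) = nq)
    (hqc : q ∣ Nat.card ↥(centralizer ((P : Subgroup G) : Set G))) :
    ∃ i ri : ℕ, i * ri = Nat.card ↥(centralizer ((P : Subgroup G) : Set G)) ∧ i ∣ nq ∧
      p * q ∣ i ∧ ri % q = 1 := by
  set L := centralizer ((P : Subgroup G) : Set G) with hL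
  obtain ⟨x, hxL, hx⟩ := exists_mem_orderOf_eq L (p := q) hqc
  have hcardS : Nat.card ↥(zpowers x) = q ^ (Nat.card G).factorization q := by
    rw [Nat.card_zpowers, hx, hq1]
  have hQz : ((Sylow.ofCard (zpowers x) hcardS : Sylow q G) : Subgroup G) = zpowers x := rfl
  have hN := hNq (Sylow.ofCard (zpowers x) hcardS)
  have hQL : ((Sylow.ofCard (zpowers x) hcardS : Sylow q G) : Subgroup G) ≤ L := by
    rw [hQz, zpowers_le]; exact hxL
  have hmod := relIndex_normalizer_modEq_one (Sylow.ofCard (zpowers x) hcardS) L hQL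
  have hmul := card_inf_mul_relIndex
    (normalizer (((Sylow.ofCard (zpowers x) hcardS : Sylow q G) : Subgroup G) : Set G)) L
  rw [hQz] at hN hmod hmul
  refine ⟨_, _, hmul, ?_, ?_, ?_⟩
  · rw [← hN]; exact Subgroup.card_dvd_of_le inf_le_left
  · have hxI : zpowers x ≤ normalizer ((zpowers x : Subgroup G) : Set G) ⊓ L := by
      rw [zpowers_le]; exact ⟨le_normalizer (mem_zpowers x), hxL⟩
    have hqI : q ∣ Nat.card ↥(normalizer ((zpowers x : Subgroup G) : Set G) ⊓ L : Subgroup G) := by
      have := Subgroup.card_dvd_of_le hxI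
      rwa [Nat.card_zpowers, hx] at this
    obtain ⟨z, hzP, hz⟩ := exists_gen P hP
    have hzx : Commute x z := by
      rw [hL, mem_centralizer_iff] at hxL
      exact (hxL z hzP).symm
    have hzN : z ∈ normalizer ((zpowers x : Subgroup G) : Set G) := by
      apply mem_normalizer_of_commute
      intro a ha
      obtain ⟨n, rfl⟩ := mem_zpowers_iff.mp ha
      exact (hzx.zpow_left n).eq
    have hzI : zpowers z ≤ normalizer ((zpowers x : Subgroup G) : Set G) ⊓ L := by
      rw [zpowers_le]; exact ⟨hzN, hPC hzP⟩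
    have hpI : p ∣ Nat.card ↥(normalizer ((zpowers x : Subgroup G) : Set G) ⊓ L : Subgroup G) := by
      have := Subgroup.card_dvd_of_le hzI
      rwa [Nat.card_zpowers, hz] at this
    exact Nat.Coprime.mul_dvd_of_dvd_of_dvd hpq hpI hqI
  · have hq1' : 1 < q := hq.out.one_lt
    rw [Nat.ModEq, Nat.mod_eq_of_lt hq1'] at hmod
    exact hmod

/-- the centralizer of a Sylow `3`-subgroup has order `30` -/
theorem Hyp.c3 (h : Hyp G) (P : Sylow 3 G) :
    Nat.card ↥(centralizer ((P : Subgroup G) : Set G)) = 30 := by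
  have := fact3
  have := fact7
  obtain ⟨hc, hP, hPC⟩ := h.syl3 P
  rcases hc with hc | hc
  · exact hc
  exfalso
  obtain ⟨P7⟩ : Nonempty (Sylow 7 G) := inferInstance
  have hP7 := (h.syl7 P7).2.2
  have hfac : 7 ^ (Nat.card G).factorization 7 = 7 := by rw [← P7.card_eq_multiplicity, hP7]
  obtain ⟨i, ri, h1, h2, h3, h4⟩ := sub_sylow (p := 3) (q := 7) (by norm_num) P hP hPC hfac 42
    (fun Q => (h.syl7 Q).2.1) (by rw [hc]; norm_num)
  rw [hc] at h1
  have hi : i ≤ 42 := Nat.le_of_dvd (by norm_num) h2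
  interval_cases i <;> omega

/-- no element of order `21` -/
theorem Hyp.not_21 (h : Hyp G) (g : G) : orderOf g ≠ 21 := by
  intro hg
  have := fact3
  obtain ⟨P⟩ : Nonempty (Sylow 3 G) := inferInstance
  obtain ⟨_, hP, _⟩ := h.syl3 P
  have hd := dvd_card_centralizer (q := 7) P hP g (by rw [hg])
  rw [h.c3 P] at hd
  omega

/-- no element of order `55` -/
theorem Hyp.not_55 (h : Hyp G) (g : G) : orderOf g ≠ 55 := by
  intro hg
  have := fact5
  have := fact11
  obtain ⟨P⟩ : Nonempty (Sylow 5 G) := inferInstance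
  obtain ⟨hc, hP, hPC⟩ := h.syl5 P
  have hd := dvd_card_centralizer (q := 11) P hP g (by rw [hg])
  rcases hc with ⟨hc, _⟩ | ⟨hc, _⟩
  · rw [hc] at hd; omega
  obtain ⟨P11⟩ : Nonempty (Sylow 11 G) := inferInstance
  have hP11 := (h.syl11 P11).2.2
  have hfac : 11 ^ (Nat.card G).factorization 11 = 11 := by
    rw [← P11.card_eq_multiplicity, hP11]
  obtain ⟨i, ri, h1, h2, h3, h4⟩ := sub_sylow (p := 5) (q := 11) (by norm_num) P hP hPC hfac 110
    (fun Q => (h.syl11 Q).2.1) (by rw [hc]; norm_num)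
  rw [hc] at h1
  have hi : i ≤ 110 := Nat.le_of_dvd (by norm_num) h2
  interval_cases i <;> omega

theorem oddcheck : allB 1156 (fun n => !(decide (n ∣ 1155)) || decide (21 ∣ n) || decide (33 ∣ n) ||
    decide (35 ∣ n) || decide (55 ∣ n) || decide (77 ∣ n) || decide (n = 1) || decide (n = 3) ||
    decide (n = 5) || decide (n = 7) || decide (n = 11) || decide (n = 15)) = true := by
  decide +kernel

/-- **The element orders.** -/
theorem Hyp.spec (h : Hyp G) :
    Set.range (orderOf : G → ℕ) = {1, 2, 3, 5, 6, 7, 10, 11, 15, 19} := by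
  ext n
  simp only [Set.mem_range, Set.mem_insert_iff, Set.mem_singleton_iff]
  constructor
  · rintro ⟨g, rfl⟩
    by_cases h2 : 2 ∣ orderOf g
    · have := h.even g h2; omega
    by_cases h19 : 19 ∣ orderOf g
    · have := h.n19 g h19; omega
    have hd : orderOf g ∣ 175560 := h.card ▸ orderOf_dvd_natCard g
    have hd' : orderOf g ∣ 1155 := dvd_1155 hd h2 h19
    have hlt : orderOf g < 1156 := Nat.lt_succ_of_le (Nat.le_of_dvd (by norm_num) hd')
    have n21 : ¬ 21 ∣ orderOf g := fun hh => by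
      obtain ⟨k, hk⟩ := exists_orderOf_of_dvd g hh
      exact h.not_21 (g ^ k) hk
    have n33 : ¬ 33 ∣ orderOf g := fun hh => by
      obtain ⟨k, hk⟩ := exists_orderOf_of_dvd g hh
      exact h.not_33 (g ^ k) hk
    have n35 : ¬ 35 ∣ orderOf g := fun hh => by
      obtain ⟨k, hk⟩ := exists_orderOf_of_dvd g hh
      exact h.not_seven_mul (g ^ k) (q := 5) (by norm_num) (by rw [hk])
    have n55 : ¬ 55 ∣ orderOf g := fun hh => by
      obtain ⟨k, hk⟩ := exists_orderOf_of_dvd g hh
      exact h.not_55 (g ^ k) hk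
    have n77 : ¬ 77 ∣ orderOf g := fun hh => by
      obtain ⟨k, hk⟩ := exists_orderOf_of_dvd g hh
      exact h.not_seven_mul (g ^ k) (q := 11) (by norm_num) (by rw [hk])
    have key := allB_spec.mp oddcheck (orderOf g) hlt
    simp only [Bool.or_eq_true, Bool.not_eq_true', decide_eq_false_iff_not, decide_eq_true_eq]
      at key
    tauto
  · have hcard := h.card
    have ex : ∀ p : ℕ, p.Prime → p ∣ 175560 → ∃ g : G, orderOf g = p := by
      intro p hp hd
      have : Fact p.Prime := ⟨hp⟩
      exact exists_prime_orderOf_dvd_card' p (by rw [hcard]; exact hd)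
    rintro (rfl | rfl | rfl | rfl | rfl | rfl | rfl | rfl | rfl | rfl)
    · exact ⟨1, orderOf_one⟩
    · exact ex 2 (by norm_num) (by norm_num)
    · exact ex 3 (by norm_num) (by norm_num)
    · exact ex 5 (by norm_num) (by norm_num)
    · exact h.ex6
    · exact ex 7 (by norm_num) (by norm_num)
    · exact h.ex10
    · exact ex 11 (by norm_num) (by norm_num)
    · exact h.ex15
    · exact ex 19 (by norm_num) (by norm_num)

end Cfsg.Agent.Lib.Helper49.J1Spec
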