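import Mathlib
import Cfsg.Agent.Lib.Helper49.J1SpecC
import Cfsg.Agent.Lib.Helper57.J1Out4
import Cfsg.Agent.Lib.Helper57.J1Cent
import Cfsg.Agent.Lib.Helper57.J1Mult
import Cfsg.Agent.Lib.Helper57.A5Spec

/-!
# The element orders of `J₁` (helper49)

`Set.range orderOf = {1, 2, 3, 5, 6, 7, 10, 11, 15, 19}` for `Cfsg.Spor.J1`, from helper57's
library (order, simplicity, involution centralizer, the normalizer of a Sylow 19-subgroup) and
the abstract Sylow analysis of `J1SpecA/B/C`.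
-/

set_option autoImplicit false

namespace Cfsg.Agent.Lib.Helper49.J1Spec

open Subgroup Cfsg.Spor Cfsg.Agent.Lib.Helper57 Cfsg.Agent.Lib.Helper57.J1

/-- every involution is conjugate to the fixed involution `tt` of `E` -/
theorem conj_tt (t : ↥J1) (ht : orderOf t = 2) : ∃ c : ↥J1, c * t * c⁻¹ = eG [3,0,1,0] := by
  obtain ⟨c, w, hw, _, e⟩ := exists_conj_mem_E t ht
  have hE : eG w ∈ E := (mem_E _).2 ⟨w, hw, rfl⟩
  rcases E_orbit _ hE with h1 | ⟨k, hk⟩
  · exfalso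
    rw [h1] at e
    have h2 : t = 1 := by
      have := congrArg (fun z => c⁻¹ * z * c) e
      simpa [mul_assoc] using this
    rw [h2, orderOf_one] at ht
    norm_num at ht
  · refine ⟨(eG [0] ^ k)⁻¹ * c, ?_⟩
    have h3 : ((eG [0] ^ k)⁻¹ * c) * t * ((eG [0] ^ k)⁻¹ * c)⁻¹ =
        (eG [0] ^ k)⁻¹ * (c * t * c⁻¹) * (eG [0] ^ k) := by group
    rw [h3, e, hk]
    unfold StemSeven.e
    group

/-- every involution is conjugate to `tG` -/
theorem conj_tG (t : ↥J1) (ht : orderOf t = 2) : ∃ d : ↥J1, d * t * d⁻¹ = tG := by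
  obtain ⟨c1, h1⟩ := conj_tt t ht
  obtain ⟨c2, h2⟩ := conj_tt tG order_tG
  refine ⟨c2⁻¹ * c1, ?_⟩
  have h3 : (c2⁻¹ * c1) * t * (c2⁻¹ * c1)⁻¹ = c2⁻¹ * (c1 * t * c1⁻¹) * c2 := by group
  rw [h3, h1, ← h2]
  group

theorem inv_J1 (t g : ↥J1) (ht : orderOf t = 2) (hc : g * t = t * g) :
    orderOf g ∈ ({1, 2, 3, 5, 6, 10} : Finset ℕ) := by
  obtain ⟨d, hd⟩ := conj_tG t ht
  have hg' : d * g * d⁻¹ ∈ centralizer ({tG} : Set ↥J1) := by
    rw [mem_centralizer_singleton_iff, ← hd]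
    calc d * g * d⁻¹ * (d * t * d⁻¹) = d * (g * t) * d⁻¹ := by group
      _ = d * (t * g) * d⁻¹ := by rw [hc]
      _ = d * t * d⁻¹ * (d * g * d⁻¹) := by group
  obtain ⟨φ⟩ := cent_iso
  have h1 : orderOf g = orderOf (φ ⟨d * g * d⁻¹, hg'⟩) := by
    rw [MulEquiv.orderOf_eq, ← orderOf_conj_eq d g]
    exact (Subgroup.orderOf_mk (d * g * d⁻¹) hg').symm
  rw [h1, Prod.orderOf]
  have ha : orderOf (φ ⟨d * g * d⁻¹, hg'⟩).1 ∣ 2 := by
    have := orderOf_dvd_natCard (φ ⟨d * g * d⁻¹, hg'⟩).1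
    rwa [Nat.card_eq_fintype_card, Fintype.card_multiplicative, ZMod.card] at this
  have hb : orderOf (φ ⟨d * g * d⁻¹, hg'⟩).2 ∈
      Set.range (orderOf : alternatingGroup (Fin 5) → ℕ) := ⟨_, rfl⟩
  rw [spectrum_A5] at hb
  simp only [Set.mem_insert_iff, Set.mem_singleton_iff] at hb
  have ha' : orderOf (φ ⟨d * g * d⁻¹, hg'⟩).1 = 1 ∨ orderOf (φ ⟨d * g * d⁻¹, hg'⟩).1 = 2 := by
    have := Nat.le_of_dvd (by norm_num) ha
    have hpos := orderOf_pos (φ ⟨d * g * d⁻¹, hg'⟩).1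
    omega
  rcases ha' with ha' | ha' <;> rcases hb with hb | hb | hb | hb <;> rw [ha', hb] <;> decide

theorem card_cent : Nat.card ↥(centralizer ({tG} : Set ↥J1)) = 120 := by
  obtain ⟨φ⟩ := cent_iso
  rw [Nat.card_congr φ.toEquiv, Nat.card_prod, card_A5, Nat.card_eq_fintype_card,
    Fintype.card_multiplicative, ZMod.card]

theorem ex_J1 (q : ℕ) [hq : Fact q.Prime] (hq2 : q ≠ 2) (hd : q ∣ 120) :
    ∃ g : ↥J1, orderOf g = 2 * q := by
  obtain ⟨y, hyC, hy⟩ := Cfsg.Agent.Lib.Helper17.exists_mem_orderOf_eq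
    (centralizer ({tG} : Set ↥J1)) (p := q) (by rw [card_cent]; exact hd)
  rw [mem_centralizer_singleton_iff] at hyC
  have hcomm : Commute tG y := hyC.symm
  have hcop : (orderOf tG).Coprime (orderOf y) := by
    rw [order_tG, hy]
    exact (Nat.coprime_primes Nat.prime_two hq.out).mpr (Ne.symm hq2)
  refine ⟨tG * y, ?_⟩
  rw [hcomm.orderOf_mul_eq_mul_orderOf_of_coprime hcop, order_tG, hy]

theorem n19_J1 (g : ↥J1) (h19 : 19 ∣ orderOf g) : orderOf g = 19 := by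
  have := fact19
  obtain ⟨k, hk⟩ := exists_orderOf_of_dvd g h19
  obtain ⟨P0⟩ : Nonempty (Sylow 19 ↥J1) := inferInstance
  have hP0 : Nat.card ↥(P0 : Subgroup ↥J1) = 19 := by
    simpa using Cfsg.Agent.Lib.Helper17.card_sylow_of_card_eq (k := 1) (m := 9240) P0
      (by rw [card_J1]; norm_num) (by norm_num)
  have hfac : 19 ^ (Nat.card ↥J1).factorization 19 = 19 := by
    rw [← P0.card_eq_multiplicity, hP0]
  have hcardS : Nat.card ↥(zpowers a') = 19 ^ (Nat.card ↥J1).factorization 19 := by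
    rw [Nat.card_zpowers, order_a', hfac]
  have hPz : ((Sylow.ofCard (zpowers a') hcardS : Sylow 19 ↥J1) : Subgroup ↥J1) = zpowers a' := rfl
  obtain ⟨c, hc⟩ := exists_conj_mem_centralizer (Sylow.ofCard (zpowers a') hcardS)
    (by rw [hPz, Nat.card_zpowers, order_a']) g k hk
  rw [hPz] at hc
  have hN : c * g * c⁻¹ ∈ normalizer ((zpowers a' : Subgroup ↥J1) : Set ↥J1) :=
    centralizer_le_normalizer _ hc
  obtain ⟨i, j, hj, hg'⟩ := norm_a' _ hN
  have hcomm : a' * (c * g * c⁻¹) = (c * g * c⁻¹) * a' := by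
    rw [mem_centralizer_iff] at hc
    exact hc a' (mem_zpowers a')
  have hrel : b' * a' = a' ^ 8 * b' := by
    have := rel_ba'
    calc b' * a' = b' * a' * b'⁻¹ * b' := by group
      _ = a' ^ 8 * b' := by rw [this]
  have h1 := conj_pow_pow hrel j 1
  rw [pow_one, mul_one] at h1
  rw [hg'] at hcomm
  have h2 : a' ^ (i + 1) * b' ^ j = a' ^ (i + 8 ^ j) * b' ^ j := by
    calc a' ^ (i + 1) * b' ^ j = a' * (a' ^ i * b' ^ j) := by rw [pow_succ']; group
      _ = a' ^ i * b' ^ j * a' := hcomm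
      _ = a' ^ i * (b' ^ j * a') := by group
      _ = a' ^ i * (a' ^ 8 ^ j * b' ^ j) := by rw [h1]
      _ = a' ^ (i + 8 ^ j) * b' ^ j := by rw [pow_add]; group
  have h3 : a' ^ (i + 1) = a' ^ (i + 8 ^ j) := mul_right_cancel h2
  rw [pow_eq_pow_iff_modEq, order_a'] at h3
  have hj0 : j = 0 := by
    interval_cases j
    · rfl
    all_goals (exfalso; revert h3; unfold Nat.ModEq; omega)
  rw [hj0, pow_zero, mul_one] at hg'
  have h4 : orderOf (c * g * c⁻¹) ∣ 19 := by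
    rw [hg', ← order_a']
    exact orderOf_pow_dvd i
  rw [orderOf_conj_eq] at h4
  exact Nat.dvd_antisymm h4 h19

theorem hyp_J1 : Hyp ↥J1 where
  simple := simple_J1
  card := card_J1
  inv := inv_J1
  n19 := n19_J1
  ex6 := by
    have := fact3
    exact ex_J1 3 (by norm_num) (by norm_num)
  ex10 := by
    have := fact5
    exact ex_J1 5 (by norm_num) (by norm_num)

/-- **The element orders of `J₁`.** -/
theorem spec_J1 : Set.range (orderOf : ↥J1 → ℕ) = {1, 2, 3, 5, 6, 7, 10, 11, 15, 19} :=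
  hyp_J1.spec

end Cfsg.Agent.Lib.Helper49.J1Spec
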