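import Mathlib
import Cfsg.Agent.Lib.Helper49.J1SpecJ
import Cfsg.Agent.Lib.Helper41.AffGroup

/-!
# Groups with the element orders of `J₁ × J₁ × J₁ × J₁` (helper49)

The element orders of `J₁⁴` are the proper divisors of `43890 = 2·3·5·7·11·19`.  The same set is the
spectrum of a direct product of five Frobenius groups `K_p ⋊ C_p` (`p = 2,3,5,7,19`) over fields of
characteristic `11`, and the first field may be taken arbitrarily large.
-/

set_option autoImplicit false

namespace Cfsg.Agent.Lib.Helper49.J1Pow4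

open Cfsg.Agent.Lib.Helper41 Cfsg.Agent.Lib.Helper49.J1Spec

/-- the proper divisors of `43890` -/
def L : Finset ℕ := {1, 2, 3, 5, 6, 7, 10, 11, 14, 15, 19, 21, 22, 30, 33, 35, 38, 42, 55, 57, 66,
  70, 77, 95, 105, 110, 114, 133, 154, 165, 190, 209, 210, 231, 266, 285, 330, 385, 399, 418, 462,
  570, 627, 665, 770, 798, 1045, 1155, 1254, 1330, 1463, 1995, 2090, 2310, 2926, 3135, 3990, 4389,
  6270, 7315, 8778, 14630, 21945}

/-- the element orders of `J₁` -/
def T : Finset ℕ := {1, 2, 3, 5, 6, 7, 10, 11, 15, 19}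

theorem range_orderOf_prod {A B : Type*} [Monoid A] [Monoid B] :
    Set.range (orderOf : A × B → ℕ) =
      Set.image2 Nat.lcm (Set.range (orderOf : A → ℕ)) (Set.range (orderOf : B → ℕ)) := by
  ext n
  constructor
  · rintro ⟨x, rfl⟩
    exact ⟨orderOf x.1, ⟨x.1, rfl⟩, orderOf x.2, ⟨x.2, rfl⟩, (Prod.orderOf x).symm⟩
  · rintro ⟨a, ⟨x, rfl⟩, b, ⟨y, rfl⟩, rfl⟩
    exact ⟨(x, y), Prod.orderOf (x, y)⟩

theorem range_prod_finset {A B : Type*} [Monoid A] [Monoid B] (S U : Finset ℕ)
    (hA : Set.range (orderOf : A → ℕ) = ↑S) (hB : Set.range (orderOf : B → ℕ) = ↑U) :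
    Set.range (orderOf : A × B → ℕ) = ↑(Finset.image₂ Nat.lcm S U) := by
  rw [range_orderOf_prod, hA, hB, Finset.coe_image₂]

theorem lcm_T : Finset.image₂ Nat.lcm T (Finset.image₂ Nat.lcm T (Finset.image₂ Nat.lcm T T)) = L := by
  decide +kernel

theorem lcm_S : Finset.image₂ Nat.lcm ({1, 11, 2} : Finset ℕ)
    (Finset.image₂ Nat.lcm ({1, 11, 3} : Finset ℕ)
      (Finset.image₂ Nat.lcm ({1, 11, 5} : Finset ℕ)
        (Finset.image₂ Nat.lcm ({1, 11, 7} : Finset ℕ) ({1, 11, 19} : Finset ℕ)))) = L := by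
  decide +kernel

theorem spec_J1_T : Set.range (orderOf : ↥Cfsg.Spor.J1 → ℕ) = ↑T := by
  rw [spec_J1, T]
  ext n
  simp

/-- the element orders of `J₁⁴` -/
theorem spec_J1_pow4 : Set.range (orderOf :
    ↥Cfsg.Spor.J1 × ↥Cfsg.Spor.J1 × ↥Cfsg.Spor.J1 × ↥Cfsg.Spor.J1 → ℕ) = ↑L := by
  rw [← lcm_T]
  exact range_prod_finset _ _ spec_J1_T (range_prod_finset _ _ spec_J1_T
    (range_prod_finset _ _ spec_J1_T spec_J1_T))

theorem finite_aff (K : Type) [Field K] [Finite K] (m : ℕ) : Finite (Aff K m) := by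
  have : Fintype K := Fintype.ofFinite K
  infer_instance

/-- the spectrum of the Frobenius group `K ⋊ C_p` in characteristic `11` -/
theorem aff_spec (K : Type) [Field K] [Finite K] [CharP K 11] (p : ℕ) (hp : p.Prime)
    (hm : p ∣ Nat.card K - 1) :
    Set.range (orderOf : Aff K p → ℕ) = ↑({1, 11, p} : Finset ℕ) := by
  have : Fintype K := Fintype.ofFinite K
  have := fact11
  rw [Aff.range_orderOf (K := K) (m := p) 11 (by rwa [← Nat.card_eq_fintype_card])]
  ext n
  simp only [Set.mem_ofPred_eq, Finset.coe_insert, Finset.coe_singleton, Set.mem_insert_iff,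
    Set.mem_singleton_iff]
  rw [Nat.dvd_prime (by norm_num : (11 : ℕ).Prime), Nat.dvd_prime hp]
  tauto

theorem main (N : ℕ) : ∃ (H : Type) (_ : Group H) (_ : Finite H), N < Nat.card H ∧
    Set.range (orderOf : H → ℕ) = ↑L := by
  have := fact11
  have hK2 : Nat.card (GaloisField 11 (N + 1)) = 11 ^ (N + 1) := GaloisField.card 11 (N + 1) (by omega)
  have hK3 : Nat.card (GaloisField 11 2) = 11 ^ 2 := GaloisField.card 11 2 (by norm_num)
  have hK7 : Nat.card (GaloisField 11 3) = 11 ^ 3 := GaloisField.card 11 3 (by norm_num)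
  have hK5 : Nat.card (ZMod 11) = 11 := Nat.card_zmod 11
  have h2 : 2 ∣ Nat.card (GaloisField 11 (N + 1)) - 1 := by
    rw [hK2]
    have : 11 ^ (N + 1) % 2 = 1 := by rw [Nat.pow_mod]; norm_num
    omega
  have h3 : 3 ∣ Nat.card (GaloisField 11 2) - 1 := by rw [hK3]; norm_num
  have h5 : 5 ∣ Nat.card (ZMod 11) - 1 := by rw [hK5]; norm_num
  have h7 : 7 ∣ Nat.card (GaloisField 11 3) - 1 := by rw [hK7]; norm_num
  have h19 : 19 ∣ Nat.card (GaloisField 11 3) - 1 := by rw [hK7]; norm_num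
  have f2 := finite_aff (GaloisField 11 (N + 1)) 2
  have f3 := finite_aff (GaloisField 11 2) 3
  have f5 := finite_aff (ZMod 11) 5
  have f7 := finite_aff (GaloisField 11 3) 7
  have f19 := finite_aff (GaloisField 11 3) 19
  refine ⟨Aff (GaloisField 11 (N + 1)) 2 × Aff (GaloisField 11 2) 3 × Aff (ZMod 11) 5 ×
    Aff (GaloisField 11 3) 7 × Aff (GaloisField 11 3) 19, inferInstance, inferInstance, ?_, ?_⟩
  · have hinj : Function.Injective (fun c : GaloisField 11 (N + 1) =>
        ((⟨1, c, one_pow _⟩, 1) : Aff (GaloisField 11 (N + 1)) 2 × Aff (GaloisField 11 2) 3 ×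
          Aff (ZMod 11) 5 × Aff (GaloisField 11 3) 7 × Aff (GaloisField 11 3) 19)) := by
      intro a b hab
      have := congrArg (fun z => z.1.c) hab
      exact this
    have h1 := Nat.card_le_card_of_injective _ hinj
    rw [hK2] at h1
    have h4 : N + 1 < 11 ^ (N + 1) := Nat.lt_pow_self (by norm_num)
    omega
  · rw [← lcm_S]
    exact range_prod_finset _ _ (aff_spec _ 2 (by norm_num) h2)
      (range_prod_finset _ _ (aff_spec _ 3 (by norm_num) h3)
        (range_prod_finset _ _ (aff_spec _ 5 (by norm_num) h5)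
          (range_prod_finset _ _ (aff_spec _ 7 (by norm_num) h7)
            (aff_spec _ 19 (by norm_num) h19))))

end Cfsg.Agent.Lib.Helper49.J1Pow4
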