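import Mathlib
import Cfsg.Prelude.Def_Balance
import Cfsg.Agent.Lib.Helper18.McDiag

/-! # S1305 hive (MC, architect helper18): leaf MC-DSET `diag_set` (helper49)

`K = [K,K] ≤ C_{J J^a}(a)` with `[J, J^a] = 1`: every element of `K` is `x x^a`.  `k = u v^a`; `a`-fixed gives `w := u⁻¹ v = w^a`,
so `w ∈ J ⊓ J^a` is central in `J J^a`, and `k = φ(u) w`; commutators of such elements are `φ([u,u'])`. -/

set_option autoImplicit false

open Cfsg

namespace Cfsg.Agent.Lib.Helper18.Mc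

open Subgroup

/-- elementwise commuting subgroups: the join is the set of products -/
theorem mcdset_mem_sup {G : Type*} [Group G] (K1 K2 : Subgroup G)
    (hcomm : ∀ x ∈ K1, ∀ y ∈ K2, x * y = y * x) (x : G) (hx : x ∈ K1 ⊔ K2) :
    ∃ a ∈ K1, ∃ b ∈ K2, x = a * b := by
  rw [Subgroup.sup_eq_closure] at hx
  induction hx using Subgroup.closure_induction with
  | mem x hx =>
    rcases hx with h | h
    · exact ⟨x, h, 1, one_mem _, (mul_one x).symm⟩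
    · exact ⟨1, one_mem _, x, h, (one_mul x).symm⟩
  | one => exact ⟨1, one_mem _, 1, one_mem _, (mul_one 1).symm⟩
  | mul x y _ _ hx hy =>
    obtain ⟨a, ha, b, hb, rfl⟩ := hx
    obtain ⟨c, hc, d, hd, rfl⟩ := hy
    refine ⟨a * c, mul_mem ha hc, b * d, mul_mem hb hd, ?_⟩
    have h := hcomm c hc b hb
    calc a * b * (c * d) = a * (b * c) * d := by group
      _ = a * (c * b) * d := by rw [h]
      _ = a * c * (b * d) := by group
  | inv x _ hx =>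
    obtain ⟨a, ha, b, hb, rfl⟩ := hx
    refine ⟨a⁻¹, inv_mem ha, b⁻¹, inv_mem hb, ?_⟩
    have h := hcomm a⁻¹ (inv_mem ha) b⁻¹ (inv_mem hb)
    rw [mul_inv_rev, h]

/-- the commutator of `p w` and `p' w'` with `w, w'` commuting with everything is `[p, p']` -/
theorem mcdset_comm {G : Type*} [Group G] (p p' w w' : G) (h1 : w * p' = p' * w) (h2 : w * w' = w' * w)
    (h3 : w' * p = p * w') :
    (p * w) * (p' * w') * (p * w)⁻¹ * (p' * w')⁻¹ = p * p' * p⁻¹ * p'⁻¹ := by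
  have h3' : w' * p⁻¹ = p⁻¹ * w' := by
    calc w' * p⁻¹ = p⁻¹ * (p * w') * p⁻¹ := by group
      _ = p⁻¹ * (w' * p) * p⁻¹ := by rw [h3]
      _ = p⁻¹ * w' := by group
  calc (p * w) * (p' * w') * (p * w)⁻¹ * (p' * w')⁻¹
      = p * (w * p') * w' * (w⁻¹ * p⁻¹) * (w'⁻¹ * p'⁻¹) := by group
    _ = p * (p' * w) * w' * (w⁻¹ * p⁻¹) * (w'⁻¹ * p'⁻¹) := by rw [h1]
    _ = p * p' * (w * w') * w⁻¹ * p⁻¹ * w'⁻¹ * p'⁻¹ := by group
    _ = p * p' * (w' * w) * w⁻¹ * p⁻¹ * w'⁻¹ * p'⁻¹ := by rw [h2]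
    _ = p * p' * (w' * p⁻¹) * w'⁻¹ * p'⁻¹ := by group
    _ = p * p' * (p⁻¹ * w') * w'⁻¹ * p'⁻¹ := by rw [h3']
    _ = p * p' * p⁻¹ * p'⁻¹ := by group

/-- MC-DSET -/
theorem diag_set {G : Type*} [Group G] (a : G) (ha : a * a = 1) (J K : Subgroup G)
    (hJa : ∀ x ∈ J, ∀ y ∈ J, x * (a * y * a⁻¹) = (a * y * a⁻¹) * x)
    (hKa : K ≤ centralizer ({a} : Set G)) (hKJ : K ≤ J ⊔ J.map (MulAut.conj a).toMonoidHom)
    (hperf : ⁅K, K⁆ = K) :
    ∀ k ∈ K, ∃ x ∈ J, k = x * (a * x * a⁻¹) := by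
  have hainv : a⁻¹ = a := inv_eq_of_mul_eq_one_left ha
  -- decomposition of the elements of `K`
  have hdec : ∀ k ∈ K, ∃ u ∈ J, ∃ w ∈ J, a * w * a⁻¹ = w ∧ k = u * (a * u * a⁻¹) * w := by
    intro k hk
    have hcomm : ∀ x ∈ J, ∀ y ∈ J.map (MulAut.conj a).toMonoidHom, x * y = y * x := by
      intro x hx y hy
      obtain ⟨y0, hy0, rfl⟩ := Subgroup.mem_map.1 hy
      exact hJa x hx y0 hy0
    obtain ⟨u, hu, v', hv', rfl⟩ := mcdset_mem_sup J _ hcomm k (hKJ hk)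
    obtain ⟨v, hv, rfl⟩ := Subgroup.mem_map.1 hv'
    have hv'eq : (MulAut.conj a).toMonoidHom v = a * v * a⁻¹ := rfl
    rw [hv'eq] at hk ⊢
    have hfix : a * (u * (a * v * a⁻¹)) = (u * (a * v * a⁻¹)) * a :=
      Subgroup.mem_centralizer_iff.1 (hKa hk) a (Set.mem_singleton a)
    -- `u^a v = u v^a`
    have e1 : (a * u * a⁻¹) * v = u * (a * v * a⁻¹) := by
      calc (a * u * a⁻¹) * v = (a * u * a⁻¹) * ((a * a) * v * (a * a)⁻¹) := by rw [ha]; group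
        _ = a * (u * (a * v * a⁻¹)) * a⁻¹ := by group
        _ = (u * (a * v * a⁻¹)) * a * a⁻¹ := by rw [hfix]
        _ = u * (a * v * a⁻¹) := by group
    have hwJ : u⁻¹ * v ∈ J := J.mul_mem (J.inv_mem hu) hv
    have hc1 : u⁻¹ * (a * u * a⁻¹) = (a * u * a⁻¹) * u⁻¹ := hJa _ (J.inv_mem hu) u hu
    have hwfix : a * (u⁻¹ * v) * a⁻¹ = u⁻¹ * v := by
      have h2 : (a * u * a⁻¹) * (u⁻¹ * v) = a * v * a⁻¹ := by
        calc (a * u * a⁻¹) * (u⁻¹ * v) = ((a * u * a⁻¹) * u⁻¹) * v := by group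
          _ = (u⁻¹ * (a * u * a⁻¹)) * v := by rw [hc1]
          _ = u⁻¹ * ((a * u * a⁻¹) * v) := by group
          _ = u⁻¹ * (u * (a * v * a⁻¹)) := by rw [e1]
          _ = a * v * a⁻¹ := by group
      calc a * (u⁻¹ * v) * a⁻¹ = (a * u * a⁻¹)⁻¹ * (a * v * a⁻¹) := by group
        _ = (a * u * a⁻¹)⁻¹ * ((a * u * a⁻¹) * (u⁻¹ * v)) := by rw [h2]
        _ = u⁻¹ * v := by group
    refine ⟨u, hu, u⁻¹ * v, hwJ, hwfix, ?_⟩
    calc u * (a * v * a⁻¹) = u * (a * u * a⁻¹) * (a * (u⁻¹ * v) * a⁻¹) := by group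
      _ = u * (a * u * a⁻¹) * (u⁻¹ * v) := by rw [hwfix]
  -- `K ≤ φ(J)`
  have hle : K ≤ (mcdiagPhi a J hJa).range := by
    rw [← hperf, Subgroup.commutator_le]
    intro k hk k' hk'
    obtain ⟨u, hu, w, hw, hwfix, rfl⟩ := hdec k hk
    obtain ⟨u', hu', w', hw', hw'fix, rfl⟩ := hdec k' hk'
    -- `w`, `w'` commute with `J` and `J^a`
    have hwJ : ∀ y ∈ J, w * y = y * w := by
      intro y hy
      have := hJa y hy w hw
      rw [hwfix] at this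
      exact this.symm
    have hwJa : ∀ y ∈ J, w * (a * y * a⁻¹) = (a * y * a⁻¹) * w := fun y hy => hJa w hw y hy
    have hw'J : ∀ y ∈ J, w' * y = y * w' := by
      intro y hy
      have := hJa y hy w' hw'
      rw [hw'fix] at this
      exact this.symm
    have hw'Ja : ∀ y ∈ J, w' * (a * y * a⁻¹) = (a * y * a⁻¹) * w' := fun y hy => hJa w' hw' y hy
    have h1 : w * (u' * (a * u' * a⁻¹)) = (u' * (a * u' * a⁻¹)) * w := by
      calc w * (u' * (a * u' * a⁻¹)) = (w * u') * (a * u' * a⁻¹) := by group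
        _ = (u' * w) * (a * u' * a⁻¹) := by rw [hwJ u' hu']
        _ = u' * (w * (a * u' * a⁻¹)) := by group
        _ = u' * ((a * u' * a⁻¹) * w) := by rw [hwJa u' hu']
        _ = (u' * (a * u' * a⁻¹)) * w := by group
    have h3 : w' * (u * (a * u * a⁻¹)) = (u * (a * u * a⁻¹)) * w' := by
      calc w' * (u * (a * u * a⁻¹)) = (w' * u) * (a * u * a⁻¹) := by group
        _ = (u * w') * (a * u * a⁻¹) := by rw [hw'J u hu]
        _ = u * (w' * (a * u * a⁻¹)) := by group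
        _ = u * ((a * u * a⁻¹) * w') := by rw [hw'Ja u hu]
        _ = (u * (a * u * a⁻¹)) * w' := by group
    have h2 : w * w' = w' * w := hwJ w' hw'
    rw [commutatorElement_def, mcdset_comm _ _ _ _ h1 h2 h3]
    refine ⟨(⟨u, hu⟩ : ↥J) * ⟨u', hu'⟩ * (⟨u, hu⟩ : ↥J)⁻¹ * (⟨u', hu'⟩ : ↥J)⁻¹, ?_⟩
    rw [map_mul, map_mul, map_mul, map_inv, map_inv]
    rfl
  intro k hk
  obtain ⟨x, hx⟩ := hle hk
  exact ⟨x, x.2, hx.symm⟩

end Cfsg.Agent.Lib.Helper18.Mc
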