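import Mathlib
import Cfsg.Agent.Lib.Helper17.FixedPoints
import Cfsg.Agent.Lib.Helper17.ActionCounts
import Cfsg.Agent.Lib.Helper17.NormCent
import Cfsg.Agent.Lib.Helper17.SylowTools
import Cfsg.Agent.Lib.Helper17.InvolTools
import Cfsg.Agent.Lib.Helper17.ElementCount

set_option autoImplicit false
set_option linter.style.haveILetI false
set_option linter.unusedSectionVars false

/-!
# Simple groups with 22 Sylow 3-subgroups: the Sylow 11-subgroup

Tools for the proof that no group has exactly 22 Sylow 3-subgroups.  `G` is a simple group with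
22 Sylow 3-subgroups, acting on them by conjugation.
-/

namespace Cfsg.Agent.Lib.Helper49.N322

open MulAction Subgroup

universe u

theorem fact_three : Fact (Nat.Prime 3) := ⟨by norm_num⟩
theorem fact_eleven : Fact (Nat.Prime 11) := ⟨by norm_num⟩
theorem fact_two : Fact (Nat.Prime 2) := ⟨by norm_num⟩

section general

/-- Fixed points of an element of prime order. -/
theorem card_modEq_card_fixedBy {G X : Type*} [Group G] [MulAction G X] [Finite X] {q : ℕ}
    [Fact q.Prime] (c : G) (hc : orderOf c = q) :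
    Nat.card X ≡ Nat.card ↥(fixedBy X c) [MOD q] := by
  have hz : IsPGroup q ↥(Subgroup.zpowers c) := by
    apply IsPGroup.of_card (n := 1)
    rw [Nat.card_zpowers, hc, pow_one]
  have h := hz.card_modEq_card_fixedPoints X
  rwa [Cfsg.Agent.Lib.Helper17.fixedPoints_zpowers_eq] at h

/-- Let `R` have prime order `p`, act freely on the `R`-invariant set `Y`, and let `t` normalize
but not centralize `R`.  Then the `R`-translates of the fixed points of `t` in `Y` are disjoint. -/
theorem prime_mul_card_inter_fixedBy_le {G Z : Type*} [Group G] [MulAction G Z] [Finite Z]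
    {p : ℕ} [Fact p.Prime] (R : Subgroup G) (hR : Nat.card ↥R = p) (t : G)
    (htN : t ∈ normalizer (R : Set G)) (htC : t ∉ centralizer (R : Set G))
    (Y : Set Z) (hYinv : ∀ ρ ∈ R, ∀ z ∈ Y, ρ • z ∈ Y)
    (hYfree : ∀ ρ ∈ R, ∀ z ∈ Y, ρ • z = z → ρ = 1) :
    p * Nat.card ↥(Y ∩ fixedBy Z t) ≤ Nat.card ↥Y := by
  have key : ∀ σ ∈ R, ∀ z ∈ Y, t • z = z → t • (σ • z) = σ • z → σ = 1 := by
    intro σ hσ z hz h1 h2
    by_contra hne
    apply htC
    have hσ' : t * σ * t⁻¹ ∈ R := (mem_normalizer_iff.mp htN σ).mp hσ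
    have h3 : (t * σ * t⁻¹) • z = σ • z := by
      calc (t * σ * t⁻¹) • z = (t * σ * t⁻¹) • (t • z) := by rw [h1]
        _ = t • (σ • z) := by
          rw [← mul_smul, ← mul_smul]
          congr 1
          group
        _ = σ • z := h2
    have h4 : (σ⁻¹ * (t * σ * t⁻¹)) • z = z := by
      rw [mul_smul, h3, inv_smul_smul]
    have h5 := hYfree _ (R.mul_mem (R.inv_mem hσ) hσ') z hz h4
    have h6 : t * σ = σ * t := by
      have : t * σ * t⁻¹ = σ := by
        have := congrArg (fun w => σ * w) h5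
        simpa [mul_assoc] using this
      calc t * σ = t * σ * t⁻¹ * t := by group
        _ = σ * t := by rw [this]
    rw [mem_centralizer_iff]
    intro ρ hρ
    have hσ1 : (⟨σ, hσ⟩ : ↥R) ≠ 1 := by
      intro h
      exact hne (congrArg Subtype.val h)
    have hmem : (⟨ρ, hρ⟩ : ↥R) ∈ Subgroup.zpowers (⟨σ, hσ⟩ : ↥R) :=
      mem_zpowers_of_prime_card hR hσ1
    obtain ⟨k, hk⟩ := Subgroup.mem_zpowers_iff.mp hmem
    have hk' : σ ^ k = ρ := by
      have := congrArg Subtype.val hk
      simpa using this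
    rw [← hk']
    exact ((Commute.zpow_right (show Commute t σ from h6) k).eq).symm
  let f : ↥R × ↥(Y ∩ fixedBy Z t) → ↥Y :=
    fun a => ⟨(a.1 : G) • (a.2 : Z), hYinv _ a.1.2 _ a.2.2.1⟩
  have hf : Function.Injective f := by
    rintro ⟨ρ, z⟩ ⟨ρ', z'⟩ h
    have h0 : (ρ : G) • (z : Z) = (ρ' : G) • (z' : Z) := congrArg Subtype.val h
    have h1 : (z' : Z) = ((ρ' : G)⁻¹ * (ρ : G)) • (z : Z) := by
      rw [mul_smul, h0, inv_smul_smul]
    have hz : t • (z : Z) = z := z.2.2
    have hz' : t • (z' : Z) = z' := z'.2.2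
    have h2 := key _ (R.mul_mem (R.inv_mem ρ'.2) ρ.2) z z.2.1 hz (by rw [← h1]; exact hz')
    have h3 : (ρ : G) = ρ' := by
      have := congrArg (fun w => (ρ' : G) * w) h2
      simpa [mul_assoc] using this
    have h4 : (z : Z) = z' := by
      rw [h1, h2, one_smul]
    exact Prod.ext (Subtype.ext h3) (Subtype.ext h4)
  have := Nat.card_le_card_of_injective f hf
  rwa [Nat.card_prod, hR] at this

end general

section sylow11

variable {G : Type u} [Group G] [Finite G] [IsSimpleGroup G]

theorem not_comm (h22 : Nat.card (Sylow 3 G) = 22) : ¬ IsMulCommutative G := by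
  haveI := fact_three
  intro hc
  obtain ⟨P⟩ : Nonempty (Sylow 3 G) := inferInstance
  have h1 : Nat.card (Sylow 3 G) = (normalizer ((P : Subgroup G) : Set G)).index :=
    P.card_eq_index_normalizer
  have h2 : normalizer ((P : Subgroup G) : Set G) = ⊤ := by
    rw [eq_top_iff]
    intro g _
    rw [mem_normalizer_iff]
    intro n
    have : g * n * g⁻¹ = n := by
      rw [hc.is_comm.comm g n, mul_inv_cancel_right]
    rw [this]
  rw [h2, index_top] at h1
  omega

/-- The action on the 22 Sylow 3-subgroups is faithful. -/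
theorem eq_one_of_forall_smul_eq (h22 : Nat.card (Sylow 3 G) = 22) (g : G)
    (hg : ∀ S : Sylow 3 G, g • S = S) : g = 1 := by
  haveI := fact_three
  apply Cfsg.Agent.Lib.Helper17.eq_one_of_forall_smul_eq (X := Sylow 3 G) _ g hg
  by_contra hno
  push Not at hno
  obtain ⟨P⟩ : Nonempty (Sylow 3 G) := inferInstance
  have hall : ∀ Q : Sylow 3 G, Q = P := fun Q => by
    obtain ⟨g, rfl⟩ := MulAction.exists_smul_eq G P Q
    exact hno g P
  have hsub : Subsingleton (Sylow 3 G) := ⟨fun A B => (hall A).trans (hall B).symm⟩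
  have := Finite.card_le_one_iff_subsingleton.mpr hsub
  omega

theorem card_eq (h22 : Nat.card (Sylow 3 G) = 22) (P : Sylow 3 G) :
    Nat.card G = 22 * Nat.card ↥(normalizer ((P : Subgroup G) : Set G)) := by
  haveI := fact_three
  have h1 : Nat.card (Sylow 3 G) = (normalizer ((P : Subgroup G) : Set G)).index :=
    P.card_eq_index_normalizer
  rw [← h22, h1, Subgroup.index_mul_card]

/-- A nontrivial element fixes fewer than 22 Sylow 3-subgroups. -/
theorem card_fixedBy_lt (h22 : Nat.card (Sylow 3 G) = 22) (c : G) (hc : c ≠ 1) :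
    Nat.card ↥(fixedBy (Sylow 3 G) c) < 22 := by
  haveI := fact_three
  have hle : Nat.card ↥(fixedBy (Sylow 3 G) c) ≤ 22 := by
    rw [← h22]
    exact Nat.card_le_card_of_injective (fun x : ↥(fixedBy (Sylow 3 G) c) => (x : Sylow 3 G))
      Subtype.val_injective
  refine lt_of_le_of_ne hle ?_
  intro h
  apply hc
  apply eq_one_of_forall_smul_eq h22
  have huniv : fixedBy (Sylow 3 G) c = Set.univ := by
    rw [Set.eq_univ_iff_ncard, ← Nat.card_coe_set_eq, h, h22]
  intro S
  have : S ∈ fixedBy (Sylow 3 G) c := huniv ▸ Set.mem_univ S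
  exact this

/-- Fixed points of an involution: `≡ 2 mod 4`. -/
theorem card_fixedBy_invol (h22 : Nat.card (Sylow 3 G) = 22) (t : G) (ht : t * t = 1) :
    Nat.card ↥(fixedBy (Sylow 3 G) t) % 4 = 2 := by
  have h := Cfsg.Agent.Lib.Helper17.card_fixedBy_modEq_four (X := Sylow 3 G) (not_comm h22) t ht
  rw [h22] at h
  exact h

theorem eq_eleven_of_pow {m n k : ℕ} (hm : m = 11 ^ k) (h1 : 11 ∣ m) (h2 : m ∣ 22 * n)
    (hn : ¬ 11 ∣ n) : m = 11 := by
  rcases k with _ | _ | k
  · rw [hm] at h1
    norm_num at h1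
  · rw [hm]
    norm_num
  · exfalso
    apply hn
    have h3 : 121 ∣ 22 * n := by
      refine dvd_trans ?_ h2
      rw [hm, pow_succ, pow_succ]
      exact ⟨11 ^ k, by ring⟩
    omega

/-- The Sylow 11-subgroup `R`: it has order 11, is self-centralizing, its normalizer has order
22, and an involution of the normalizer fixes exactly two Sylow 3-subgroups. -/
theorem exists_sylow_eleven (h22 : Nat.card (Sylow 3 G) = 22) (h5 : ¬ 5 ∣ Nat.card G)
    (h11 : ∀ g : G, orderOf g = 11 → ∀ S : Sylow 3 G, g • S ≠ S) :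
    ∃ R : Sylow 11 G, Nat.card ↥(R : Subgroup G) = 11 ∧
      centralizer ((R : Subgroup G) : Set G) = (R : Subgroup G) ∧
      Nat.card ↥(normalizer ((R : Subgroup G) : Set G)) = 22 ∧
      ∃ t ∈ normalizer ((R : Subgroup G) : Set G), orderOf t = 2 ∧
        t ∉ centralizer ((R : Subgroup G) : Set G) ∧
        Nat.card ↥(fixedBy (Sylow 3 G) t) = 2 := by
  haveI := fact_three
  haveI := fact_eleven
  haveI := fact_two
  obtain ⟨P⟩ : Nonempty (Sylow 3 G) := inferInstance
  have hG := card_eq h22 P
  obtain ⟨n, hn⟩ : ∃ n, n = Nat.card ↥(normalizer ((P : Subgroup G) : Set G)) := ⟨_, rfl⟩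
  rw [← hn] at hG
  have hn11 : ¬ 11 ∣ n := by
    intro hdvd
    rw [hn] at hdvd
    obtain ⟨g, hg⟩ := exists_prime_orderOf_dvd_card'
      (G := ↥(normalizer ((P : Subgroup G) : Set G))) 11 hdvd
    refine h11 (g : G) ?_ P ?_
    · rw [Subgroup.orderOf_coe]; exact hg
    · exact Sylow.smul_eq_iff_mem_normalizer.mpr g.2
  obtain ⟨R⟩ : Nonempty (Sylow 11 G) := inferInstance
  have hR11 : Nat.card ↥(R : Subgroup G) = 11 := by
    have h1 : 11 ∣ Nat.card ↥(R : Subgroup G) :=
      R.dvd_card_of_dvd_card (by rw [hG]; exact Dvd.intro _ (by ring : 11 * (2 * n) = 22 * n))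
    obtain ⟨k, hk⟩ := IsPGroup.iff_card.mp R.2
    have h2 : Nat.card ↥(R : Subgroup G) ∣ Nat.card G := Subgroup.card_subgroup_dvd_card _
    rw [hG] at h2
    exact eq_eleven_of_pow hk h1 h2 hn11
  have hfree : ∀ ρ ∈ (R : Subgroup G), ∀ S : Sylow 3 G, ρ • S = S → ρ = 1 := by
    intro ρ hρ S hS
    by_contra hne
    have ho : orderOf ρ = 11 :=
      Cfsg.Agent.Lib.Helper17.orderOf_eq_of_mem_of_card_prime (R : Subgroup G) hR11 ρ hρ hne
    exact h11 ρ ho S hS
  haveI : IsCyclic ↥(R : Subgroup G) := isCyclic_of_prime_card hR11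
  have hRle : (R : Subgroup G) ≤ centralizer ((R : Subgroup G) : Set G) := Subgroup.le_centralizer _
  have hCcard : Nat.card ↥(centralizer ((R : Subgroup G) : Set G)) = 11 := by
    obtain ⟨C, hC⟩ : ∃ C : Subgroup G, C = centralizer ((R : Subgroup G) : Set G) := ⟨_, rfl⟩
    rw [← hC]
    have hq : ∀ {q : ℕ}, q.Prime → q ∣ Nat.card ↥C → q = 11 := by
      intro q hqp hqd
      by_contra hq11
      haveI : Fact q.Prime := ⟨hqp⟩
      obtain ⟨c, hc⟩ := exists_prime_orderOf_dvd_card' (G := ↥C) q hqd
      have hcG : orderOf (c : G) = q := by rw [Subgroup.orderOf_coe]; exact hc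
      have hc1 : (c : G) ≠ 1 := by
        intro h
        rw [h, orderOf_one] at hcG
        exact hqp.one_lt.ne hcG
      have hlt := card_fixedBy_lt h22 (c : G) hc1
      have hmodq := card_modEq_card_fixedBy (X := Sylow 3 G) (c : G) hcG
      rw [h22] at hmodq
      have hinv : ∀ a : ↥(R : Subgroup G), ∀ Q ∈ fixedBy (Sylow 3 G) (c : G),
          a • Q ∈ fixedBy (Sylow 3 G) (c : G) := by
        intro a Q hQ
        rw [MulAction.mem_fixedBy] at hQ ⊢
        have hcm : (c : G) ∈ centralizer ((R : Subgroup G) : Set G) := hC ▸ c.2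
        have hcomm : (c : G) * (a : G) = (a : G) * (c : G) :=
          (Subgroup.mem_centralizer_iff.mp hcm (a : G) a.2).symm
        calc (c : G) • (a • Q) = ((c : G) * (a : G)) • Q := by rw [mul_smul]; rfl
          _ = ((a : G) * (c : G)) • Q := by rw [hcomm]
          _ = a • ((c : G) • Q) := by rw [mul_smul]; rfl
          _ = a • Q := by rw [hQ]
      have h11' := Cfsg.Agent.Lib.Helper17.card_invariant_modEq (A := ↥(R : Subgroup G))
        (X := Sylow 3 G) R.2 (fixedBy (Sylow 3 G) (c : G)) hinv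
      have hempty : (fixedBy (Sylow 3 G) (c : G) ∩ fixedPoints ↥(R : Subgroup G) (Sylow 3 G) :
          Set (Sylow 3 G)) = ∅ := by
        obtain ⟨ρ, hρ⟩ : ∃ ρ : ↥(R : Subgroup G), ρ ≠ 1 := by
          by_contra hno
          push Not at hno
          have hsub : Subsingleton ↥(R : Subgroup G) :=
            ⟨fun a b => (hno a).trans (hno b).symm⟩
          have := Finite.card_le_one_iff_subsingleton.mpr hsub
          omega
        ext S
        simp only [Set.mem_inter_iff, Set.mem_empty_iff_false, iff_false, not_and]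
        intro _ hS
        apply hρ
        exact Subtype.ext (hfree (ρ : G) ρ.2 S (hS ρ))
      rw [hempty] at h11'
      have h0 : Nat.card ↥(∅ : Set (Sylow 3 G)) = 0 := by simp
      rw [h0] at h11'
      obtain ⟨F, hF⟩ : ∃ F, F = Nat.card ↥(fixedBy (Sylow 3 G) (c : G)) := ⟨_, rfl⟩
      rw [← hF] at hlt hmodq h11'
      have hF11 : F = 0 ∨ F = 11 := by
        have : F % 11 = 0 := h11'
        omega
      rcases hF11 with hF0 | hF0
      · rw [hF0] at hmodq
        have hd : q ∣ 2 * 11 := (Nat.modEq_zero_iff_dvd).mp hmodq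
        rcases (Nat.Prime.dvd_mul hqp).mp hd with h | h
        · have hq2 : q = 2 := (Nat.prime_dvd_prime_iff_eq hqp Nat.prime_two).mp h
          have hcc : (c : G) * (c : G) = 1 := by
            rw [← pow_two]
            have := pow_orderOf_eq_one (c : G)
            rwa [hcG, hq2] at this
          have := card_fixedBy_invol h22 (c : G) hcc
          omega
        · exact hq11 ((Nat.prime_dvd_prime_iff_eq hqp (by norm_num)).mp h)
      · rw [hF0] at hmodq
        have hd : q ∣ 22 - 11 := (Nat.modEq_iff_dvd' (by norm_num)).mp hmodq.symm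
        exact hq11 ((Nat.prime_dvd_prime_iff_eq hqp (by norm_num)).mp hd)
    have hpow := Nat.eq_prime_pow_of_unique_prime_dvd (Nat.card_pos (α := ↥C)).ne' hq
    have h1 : 11 ∣ Nat.card ↥C := by
      rw [← hR11]
      exact Subgroup.card_dvd_of_le (hC ▸ hRle)
    have h2 : Nat.card ↥C ∣ 22 * n := by
      rw [← hG]
      exact Subgroup.card_subgroup_dvd_card _
    exact eq_eleven_of_pow hpow h1 h2 hn11
  have hCeq : centralizer ((R : Subgroup G) : Set G) = (R : Subgroup G) := by
    symm
    apply Subgroup.eq_of_le_of_card_ge hRle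
    rw [hCcard, hR11]
  have hj := Cfsg.Agent.Lib.Helper17.relIndex_centralizer_normalizer_dvd_pred
    (by norm_num : Nat.Prime 11) (R : Subgroup G) hR11
  obtain ⟨j, hjdef⟩ : ∃ j, j = (centralizer ((R : Subgroup G) : Set G)).relIndex
      (normalizer ((R : Subgroup G) : Set G)) := ⟨_, rfl⟩
  rw [← hjdef] at hj
  have hNcard : Nat.card ↥(normalizer ((R : Subgroup G) : Set G)) = 11 * j := by
    have h1 : Nat.card ↥((centralizer ((R : Subgroup G) : Set G)).subgroupOf
        (normalizer ((R : Subgroup G) : Set G))) *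
        ((centralizer ((R : Subgroup G) : Set G)).subgroupOf
        (normalizer ((R : Subgroup G) : Set G))).index =
        Nat.card ↥(normalizer ((R : Subgroup G) : Set G)) := Subgroup.card_mul_index _
    have h2 : Nat.card ↥((centralizer ((R : Subgroup G) : Set G)).subgroupOf
        (normalizer ((R : Subgroup G) : Set G))) =
        Nat.card ↥(centralizer ((R : Subgroup G) : Set G)) :=
      Nat.card_congr (Subgroup.subgroupOfEquivOfLe (centralizer_le_normalizer _)).toEquiv
    rw [h2, hCcard] at h1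
    rw [hjdef]
    exact h1.symm
  have hj1 : j ≠ 1 := by
    intro h
    rw [hjdef] at h
    have hle : normalizer ((R : Subgroup G) : Set G) ≤ centralizer ((R : Subgroup G) : Set G) :=
      Subgroup.relIndex_eq_one.mp h
    refine Cfsg.Agent.Lib.Helper17.not_normalizer_le_centralizer_of_simple R ?_ ?_ hle
    · intro hbot
      rw [hbot, Subgroup.card_bot] at hR11
      omega
    · intro htop
      have : Nat.card ↥(R : Subgroup G) = Nat.card G := by rw [htop]; exact Subgroup.card_top
      omega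
  have hj5 : ¬ 5 ∣ j := by
    intro h
    apply h5
    have h1 : j ∣ Nat.card ↥(normalizer ((R : Subgroup G) : Set G)) :=
      ⟨11, by rw [hNcard]; ring⟩
    exact dvd_trans h (dvd_trans h1 (Subgroup.card_subgroup_dvd_card _))
  have hj2 : j = 2 := by
    have hle := Nat.le_of_dvd (by norm_num) hj
    have hpos : 0 < j := Nat.pos_of_ne_zero (fun h0 => by rw [h0] at hj; norm_num at hj)
    interval_cases j <;> first | rfl | omega
  obtain ⟨t', ht'⟩ := exists_prime_orderOf_dvd_card'
    (G := ↥(normalizer ((R : Subgroup G) : Set G))) 2 (by rw [hNcard, hj2]; norm_num)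
  have hto : orderOf (t' : G) = 2 := by rw [Subgroup.orderOf_coe]; exact ht'
  have hnotC : (t' : G) ∉ centralizer ((R : Subgroup G) : Set G) := by
    intro hmem
    rw [hCeq] at hmem
    have h1 : orderOf (t' : G) ∣ 11 := by
      have := orderOf_dvd_natCard (⟨(t' : G), hmem⟩ : ↥(R : Subgroup G))
      rwa [Subgroup.orderOf_mk, hR11] at this
    rw [hto] at h1
    omega
  refine ⟨R, hR11, hCeq, by rw [hNcard, hj2], (t' : G), t'.2, hto, hnotC, ?_⟩
  have hle := prime_mul_card_inter_fixedBy_le (Z := Sylow 3 G) (R : Subgroup G) hR11 (t' : G)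
    t'.2 hnotC Set.univ (fun _ _ _ _ => Set.mem_univ _) (fun ρ hρ z _ h => hfree ρ hρ z h)
  rw [Set.univ_inter] at hle
  have hU : Nat.card ↥(Set.univ : Set (Sylow 3 G)) = 22 := by
    rw [Nat.card_congr (Equiv.Set.univ _), h22]
  have hcc : (t' : G) * (t' : G) = 1 := by
    rw [← pow_two]
    have := pow_orderOf_eq_one (t' : G)
    rwa [hto] at this
  have h4 := card_fixedBy_invol h22 (t' : G) hcc
  omega

end sylow11

end Cfsg.Agent.Lib.Helper49.N322
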