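import Mathlib
import Cfsg.Agent.Lib.Helper49.N322R
import Cfsg.Agent.Lib.Helper17.FixSylow
import Cfsg.Agent.Lib.Helper17.Orbits

set_option autoImplicit false
set_option linter.style.haveILetI false
set_option linter.unusedSectionVars false

/-!
# Simple groups with 22 Sylow 3-subgroups of order 3

We show that no simple group has 22 Sylow 3-subgroups of order 3.
-/

namespace Cfsg.Agent.Lib.Helper49.N322

open MulAction Subgroup

universe u

section blocks

variable {G : Type u} [Group G]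

/-- The action of `N_G(P)` on the set of `P`-orbits of Sylow subgroups. -/
@[reducible] def blockAction (P : Sylow 3 G) :
    MulAction ↥(normalizer ((P : Subgroup G) : Set G))
      (orbitRel.Quotient ↥(P : Subgroup G) (Sylow 3 G)) where
  smul n := Quotient.map' (fun S => (n : G) • S) (by
    intro S S' h
    change S ∈ orbit ↥(P : Subgroup G) S' at h
    change (n : G) • S ∈ orbit ↥(P : Subgroup G) ((n : G) • S')
    obtain ⟨a, rfl⟩ := h
    have ha : (n : G) * (a : G) * (n : G)⁻¹ ∈ (P : Subgroup G) :=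
      (mem_normalizer_iff.mp n.2 (a : G)).mp a.2
    refine ⟨⟨_, ha⟩, ?_⟩
    change ((n : G) * (a : G) * (n : G)⁻¹) • ((n : G) • S') = (n : G) • ((a : G) • S')
    rw [← mul_smul, ← mul_smul]
    congr 1
    group)
  one_smul := by
    intro ω
    induction ω using Quotient.inductionOn' with
    | h S =>
      change Quotient.mk'' (((1 : ↥(normalizer ((P : Subgroup G) : Set G))) : G) • S) = _
      rw [Subgroup.coe_one, one_smul]
  mul_smul := by
    intro a b ω
    induction ω using Quotient.inductionOn' with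
    | h S =>
      change Quotient.mk'' (((a * b : ↥(normalizer ((P : Subgroup G) : Set G))) : G) • S) =
        Quotient.mk'' ((a : G) • ((b : G) • S))
      rw [Subgroup.coe_mul, mul_smul]

theorem blockAction_smul_mk (P : Sylow 3 G) (n : ↥(normalizer ((P : Subgroup G) : Set G)))
    (S : Sylow 3 G) :
    (blockAction P).smul n (Quotient.mk'' S) = Quotient.mk'' ((n : G) • S) := rfl

/-- The permutation representation of `N_G(P)` on the `P`-orbits. -/
def blockHom (P : Sylow 3 G) : ↥(normalizer ((P : Subgroup G) : Set G)) →*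
    Equiv.Perm (orbitRel.Quotient ↥(P : Subgroup G) (Sylow 3 G)) :=
  @MulAction.toPermHom _ _ _ (blockAction P)

theorem blockHom_apply_mk (P : Sylow 3 G) (n : ↥(normalizer ((P : Subgroup G) : Set G)))
    (S : Sylow 3 G) :
    blockHom P n (Quotient.mk'' S) = Quotient.mk'' ((n : G) • S) := rfl

theorem smul_mem_orbit_of_mem_ker (P : Sylow 3 G)
    (n : ↥(normalizer ((P : Subgroup G) : Set G))) (hn : n ∈ (blockHom P).ker) (S : Sylow 3 G) :
    (n : G) • S ∈ orbit ↥(P : Subgroup G) S := by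
  have h1 : blockHom P n (Quotient.mk'' S) = Quotient.mk'' S := by
    rw [MonoidHom.mem_ker.mp hn]; rfl
  rw [blockHom_apply_mk] at h1
  exact Quotient.eq''.mp h1

end blocks

section caseA

variable {G : Type u} [Group G] [Finite G] [IsSimpleGroup G]

/-- `P` acts freely on the other Sylow subgroups. -/
theorem eq_one_of_smul_eq (h3 : ∀ P : Sylow 3 G, Nat.card ↥(P : Subgroup G) = 3)
    {P Q : Sylow 3 G} (hPQ : Q ≠ P) {a : G} (ha : a ∈ (P : Subgroup G)) (h : a • Q = Q) :
    a = 1 := by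
  haveI := fact_three
  have h1 : a ∈ ((P : Subgroup G) ⊓ normalizer ((Q : Subgroup G) : Set G) : Subgroup G) :=
    ⟨ha, Sylow.smul_eq_iff_mem_normalizer.mp h⟩
  rw [Cfsg.Agent.Lib.Helper17.inf_normalizer_eq_bot_of_card_prime P Q (h3 P) (Ne.symm hPQ),
    Subgroup.mem_bot] at h1
  exact h1

theorem card_orbit_eq_three (h3 : ∀ P : Sylow 3 G, Nat.card ↥(P : Subgroup G) = 3)
    {P Q : Sylow 3 G} (hPQ : Q ≠ P) : Nat.card ↥(orbit ↥(P : Subgroup G) Q) = 3 := by
  have h1 := MulAction.index_stabilizer ↥(P : Subgroup G) Q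
  have h2 : stabilizer ↥(P : Subgroup G) Q = ⊥ := by
    rw [eq_bot_iff]
    intro a ha
    rw [Subgroup.mem_bot]
    have := eq_one_of_smul_eq h3 hPQ a.2 (MulAction.mem_stabilizer_iff.mp ha)
    exact Subtype.ext this
  rw [h2, Subgroup.index_bot, h3 P] at h1
  rw [Nat.card_coe_set_eq, ← h1]

theorem orbit_self (P : Sylow 3 G) : orbit ↥(P : Subgroup G) P = {P} := by
  ext S
  simp only [mem_orbit_iff, Set.mem_singleton_iff]
  constructor
  · rintro ⟨a, rfl⟩
    exact Sylow.smul_eq_iff_mem_normalizer.mpr (le_normalizer a.2)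
  · rintro rfl
    exact ⟨1, one_smul _ _⟩

/-- There are 8 orbits of `P`. -/
theorem card_blocks (h22 : Nat.card (Sylow 3 G) = 22)
    (h3 : ∀ P : Sylow 3 G, Nat.card ↥(P : Subgroup G) = 3) (P : Sylow 3 G) :
    Nat.card (orbitRel.Quotient ↥(P : Subgroup G) (Sylow 3 G)) = 8 := by
  classical
  haveI := fact_three
  letI : Fintype (orbitRel.Quotient ↥(P : Subgroup G) (Sylow 3 G)) := Fintype.ofFinite _
  have hsum := Cfsg.Agent.Lib.Helper17.card_eq_sum_card_orbits ↥(P : Subgroup G) (Sylow 3 G)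
  rw [h22] at hsum
  obtain ⟨ω₀, hω₀⟩ : ∃ ω₀ : orbitRel.Quotient ↥(P : Subgroup G) (Sylow 3 G),
      ω₀ = Quotient.mk'' P := ⟨_, rfl⟩
  rw [← Finset.add_sum_erase Finset.univ _ (Finset.mem_univ ω₀)] at hsum
  have h1 : Nat.card ω₀.orbit = 1 := by
    rw [hω₀, orbitRel.Quotient.orbit_mk, orbit_self]
    simp
  have h2 : ∀ ω ∈ Finset.univ.erase ω₀, Nat.card ω.orbit = 3 := by
    intro ω hω
    rw [Finset.mem_erase] at hω
    have hne : ω.out ≠ P := by
      intro h
      apply hω.1
      rw [hω₀]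
      exact (Quotient.out_eq' ω).symm.trans (congrArg
        (fun S => (Quotient.mk'' S : orbitRel.Quotient ↥(P : Subgroup G) (Sylow 3 G))) h)
    rw [orbitRel.Quotient.orbit_eq_orbit_out ω Quotient.out_eq']
    exact card_orbit_eq_three h3 hne
  rw [h1, Finset.sum_congr rfl h2, Finset.sum_const, smul_eq_mul,
    Finset.card_erase_of_mem (Finset.mem_univ _), Finset.card_univ] at hsum
  rw [Nat.card_eq_fintype_card]
  omega

/-- The image of `N_G(P)` on the 8 orbits fixes a point, so its order divides `7!`. -/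
theorem card_range_blockHom_dvd (h22 : Nat.card (Sylow 3 G) = 22)
    (h3 : ∀ P : Sylow 3 G, Nat.card ↥(P : Subgroup G) = 3) (P : Sylow 3 G) :
    Nat.card ↥(blockHom P).range ∣ 5040 := by
  classical
  obtain ⟨ω₀, hω₀⟩ : ∃ ω₀ : orbitRel.Quotient ↥(P : Subgroup G) (Sylow 3 G),
      ω₀ = Quotient.mk'' P := ⟨_, rfl⟩
  have hle : (blockHom P).range ≤
      stabilizer (Equiv.Perm (orbitRel.Quotient ↥(P : Subgroup G) (Sylow 3 G))) ω₀ := by
    rintro _ ⟨n, rfl⟩
    rw [MulAction.mem_stabilizer_iff, hω₀]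
    change blockHom P n (Quotient.mk'' P) = Quotient.mk'' P
    rw [blockHom_apply_mk]
    congr 1
    exact Sylow.smul_eq_iff_mem_normalizer.mpr n.2
  have h1 := Subgroup.card_dvd_of_le hle
  have h2 : Nat.card ↥(stabilizer
      (Equiv.Perm (orbitRel.Quotient ↥(P : Subgroup G) (Sylow 3 G))) ω₀) = 5040 := by
    have h3' := MulAction.index_stabilizer_of_transitive
      (Equiv.Perm (orbitRel.Quotient ↥(P : Subgroup G) (Sylow 3 G))) ω₀
    have h4 := Subgroup.card_mul_index (stabilizer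
      (Equiv.Perm (orbitRel.Quotient ↥(P : Subgroup G) (Sylow 3 G))) ω₀)
    rw [h3', Nat.card_perm, card_blocks h22 h3 P] at h4
    have : (8 : ℕ).factorial = 5040 * 8 := by decide
    rw [this] at h4
    exact Nat.eq_of_mul_eq_mul_right (by norm_num) h4
  rwa [h2] at h1

theorem nine_not_dvd (h3 : ∀ P : Sylow 3 G, Nat.card ↥(P : Subgroup G) = 3) :
    ¬ 9 ∣ Nat.card G := by
  haveI := fact_three
  intro h
  obtain ⟨P⟩ : Nonempty (Sylow 3 G) := inferInstance
  have h1 := P.pow_dvd_card_of_pow_dvd_card (n := 2) (by norm_num; exact h)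
  rw [h3 P] at h1
  norm_num at h1

/-- An element of `N_G(P)` of order prime to 3 centralizing `P` and fixing every `P`-orbit is
trivial. -/
theorem eq_one_of_centralizes (h22 : Nat.card (Sylow 3 G) = 22)
    (h3 : ∀ P : Sylow 3 G, Nat.card ↥(P : Subgroup G) = 3) (P : Sylow 3 G) (g : G)
    (hgC : g ∈ centralizer ((P : Subgroup G) : Set G))
    (hcop : Nat.Coprime (orderOf g) 3)
    (hblk : ∀ S : Sylow 3 G, g • S ∈ orbit ↥(P : Subgroup G) S) : g = 1 := by
  apply eq_one_of_forall_smul_eq h22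
  intro S
  by_cases hSP : S = P
  · rw [hSP]
    exact Sylow.smul_eq_iff_mem_normalizer.mpr (centralizer_le_normalizer _ hgC)
  · obtain ⟨a, ha⟩ := hblk S
    have ha' : (a : G) • S = g • S := ha
    have hcomm : ∀ k : ℕ, g * (a : G) ^ k = (a : G) ^ k * g := by
      intro k
      exact (Subgroup.mem_centralizer_iff.mp hgC _ (Subgroup.pow_mem _ a.2 k)).symm
    have hpow : ∀ k : ℕ, g ^ k • S = (a : G) ^ k • S := by
      intro k
      induction k with
      | zero => simp
      | succ k ih =>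
        rw [pow_succ', mul_smul, ih, ← mul_smul, hcomm k, mul_smul, ← ha', ← mul_smul,
          ← pow_succ]
    have h1 := hpow (orderOf g)
    rw [pow_orderOf_eq_one, one_smul] at h1
    have h2 : (a : G) ^ orderOf g = 1 :=
      eq_one_of_smul_eq h3 hSP (Subgroup.pow_mem _ a.2 _) h1.symm
    have h3' : (a : G) ^ 3 = 1 := by
      have := pow_card_eq_one' (G := ↥(P : Subgroup G)) (x := a)
      rw [h3 P] at this
      have := congrArg Subtype.val this
      simpa using this
    have h4 : (a : G) ^ Nat.gcd (orderOf g) 3 = 1 := pow_gcd_eq_one.mpr ⟨h2, h3'⟩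
    rw [Nat.Coprime] at hcop
    rw [hcop, pow_one] at h4
    rw [← ha', h4, one_smul]

theorem pow_three_eq_one (h3 : ∀ P : Sylow 3 G, Nat.card ↥(P : Subgroup G) = 3)
    (P : Sylow 3 G) {a : G} (ha : a ∈ (P : Subgroup G)) : a ^ 3 = 1 := by
  have h := pow_card_eq_one' (G := ↥(P : Subgroup G)) (x := ⟨a, ha⟩)
  rw [h3 P] at h
  have := congrArg Subtype.val h
  simpa using this

/-- An involution of `N_G(P)` not centralizing `P` cannot fix every `P`-orbit. -/
theorem false_of_invol_blocks (h22 : Nat.card (Sylow 3 G) = 22)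
    (h3 : ∀ P : Sylow 3 G, Nat.card ↥(P : Subgroup G) = 3) (P : Sylow 3 G) (g : G)
    (hgN : g ∈ normalizer ((P : Subgroup G) : Set G))
    (hgC : g ∉ centralizer ((P : Subgroup G) : Set G)) (hgg : g * g = 1)
    (hblk : ∀ S : Sylow 3 G, g • S ∈ orbit ↥(P : Subgroup G) S) : False := by
  haveI := fact_three
  haveI : IsCyclic ↥(P : Subgroup G) := isCyclic_of_prime_card (h3 P)
  have hcent : ∀ a ∈ (P : Subgroup G), a * g = g * a → a = 1 := by
    intro a ha hag
    by_contra hne
    apply hgC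
    rw [mem_centralizer_iff]
    intro b hb
    have hmem : (⟨b, hb⟩ : ↥(P : Subgroup G)) ∈ zpowers (⟨a, ha⟩ : ↥(P : Subgroup G)) :=
      mem_zpowers_of_prime_card (h3 P) (fun h => hne (congrArg Subtype.val h))
    obtain ⟨k, hk⟩ := mem_zpowers_iff.mp hmem
    have hk' : a ^ k = b := by
      have := congrArg Subtype.val hk
      simpa using this
    rw [← hk']
    exact (Commute.zpow_left (show Commute a g from hag) k).eq
  have hginv : g⁻¹ = g := inv_eq_of_mul_eq_one_left hgg
  have hinv : ∀ a ∈ (P : Subgroup G), g * a * g⁻¹ = a⁻¹ := by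
    intro a ha
    have hga : g * a * g⁻¹ ∈ (P : Subgroup G) := (mem_normalizer_iff.mp hgN a).mp ha
    have hy : a * (g * a * g⁻¹) ∈ (P : Subgroup G) := mul_mem ha hga
    have hcomm_P : a * (g * a * g⁻¹) = (g * a * g⁻¹) * a := by
      have h := (IsCyclic.isMulCommutative (α := ↥(P : Subgroup G))).is_comm.comm
        ⟨a, ha⟩ ⟨_, hga⟩
      exact congrArg Subtype.val h
    have hyg : (a * (g * a * g⁻¹)) * g = g * (a * (g * a * g⁻¹)) := by
      calc a * (g * a * g⁻¹) * g = a * g * a := by group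
        _ = (g * g) * a * g * a := by rw [hgg, one_mul]
        _ = g * ((g * a * g⁻¹) * a) := by rw [hginv]; simp only [mul_assoc]
        _ = g * (a * (g * a * g⁻¹)) := by rw [hcomm_P]
    have := hcent _ hy hyg
    exact eq_inv_of_mul_eq_one_right this
  have hfix : ∀ S : Sylow 3 G, ∃ T ∈ orbit ↥(P : Subgroup G) S, g • T = T := by
    intro S
    obtain ⟨a, ha⟩ := hblk S
    have ha' : (a : G) • S = g • S := ha
    refine ⟨((a : G) ^ 2) • S, ⟨a ^ 2, rfl⟩, ?_⟩
    have h1 : g * (a : G) ^ 2 * g⁻¹ = ((a : G) ^ 2)⁻¹ := hinv _ (Subgroup.pow_mem _ a.2 2)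
    have h3' : (a : G) ^ 3 = 1 := pow_three_eq_one h3 P a.2
    have h5 : ((a : G) ^ 2)⁻¹ * (a : G) = (a : G) ^ 2 := by
      rw [inv_mul_eq_iff_eq_mul, ← pow_add]
      have : (a : G) ^ (2 + 2) = (a : G) ^ 3 * (a : G) := by rw [← pow_succ]
      rw [this, h3', one_mul]
    calc g • ((a : G) ^ 2 • S) = (g * (a : G) ^ 2 * g⁻¹) • (g • S) := by
          rw [← mul_smul, ← mul_smul]
          congr 1
          group
      _ = (((a : G) ^ 2)⁻¹ * (a : G)) • S := by rw [h1, ← ha', ← mul_smul]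
      _ = (a : G) ^ 2 • S := by rw [h5]
  choose f hf1 hf2 using hfix
  let φ : orbitRel.Quotient ↥(P : Subgroup G) (Sylow 3 G) →
      {Q : Sylow 3 G // g ∈ normalizer ((Q : Subgroup G) : Set G)} :=
    fun ω => ⟨f ω.out, Sylow.smul_eq_iff_mem_normalizer.mp (hf2 ω.out)⟩
  have hφ : Function.Injective φ := by
    intro ω ω' h
    have h1 : f ω.out = f ω'.out := congrArg Subtype.val h
    have h2 : ∀ ω : orbitRel.Quotient ↥(P : Subgroup G) (Sylow 3 G),
        (Quotient.mk'' (f ω.out) : orbitRel.Quotient ↥(P : Subgroup G) (Sylow 3 G)) = ω := by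
      intro ω
      have : (Quotient.mk'' (f ω.out) : orbitRel.Quotient ↥(P : Subgroup G) (Sylow 3 G)) =
          Quotient.mk'' ω.out := Quotient.eq''.mpr (hf1 ω.out)
      rw [this]
      exact Quotient.out_eq' ω
    rw [← h2 ω, ← h2 ω', h1]
  have h8 : 8 ≤ Nat.card {Q : Sylow 3 G // g ∈ normalizer ((Q : Subgroup G) : Set G)} := by
    rw [← card_blocks h22 h3 P]
    exact Nat.card_le_card_of_injective φ hφ
  have hle := Cfsg.Agent.Lib.Helper17.card_fixed_sylow_le P (h3 P) g hgN hcent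
  rw [h22] at hle
  have hF : Nat.card {Q : Sylow 3 G // g ∈ normalizer ((Q : Subgroup G) : Set G)} =
      Nat.card ↥(fixedBy (Sylow 3 G) g) := by
    apply Nat.card_congr
    exact Equiv.subtypeEquivRight
      (fun Q => (Cfsg.Agent.Lib.Helper17.mem_fixedBy_sylow_iff g Q).symm)
  have h4 := card_fixedBy_invol h22 g hgg
  omega

/-- The kernel of the action on the `P`-orbits is a 3-group, of order dividing 3. -/
theorem card_ker_blockHom_dvd (h22 : Nat.card (Sylow 3 G) = 22)
    (h3 : ∀ P : Sylow 3 G, Nat.card ↥(P : Subgroup G) = 3) (P : Sylow 3 G) :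
    Nat.card ↥(blockHom P).ker ∣ 3 := by
  haveI := fact_three
  have hq : ∀ {q : ℕ}, q.Prime → q ∣ Nat.card ↥(blockHom P).ker → q = 3 := by
    intro q hqp hqd
    by_contra hq3
    haveI : Fact q.Prime := ⟨hqp⟩
    obtain ⟨g'', hg''⟩ := exists_prime_orderOf_dvd_card' (G := ↥(blockHom P).ker) q hqd
    obtain ⟨g, hg⟩ : ∃ g : G,
        g = ((g'' : ↥(normalizer ((P : Subgroup G) : Set G))) : G) := ⟨_, rfl⟩
    have hgo : orderOf g = q := by
      rw [hg, Subgroup.orderOf_coe, Subgroup.orderOf_coe]; exact hg''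
    have hgN : g ∈ normalizer ((P : Subgroup G) : Set G) := by
      rw [hg]; exact (g'' : ↥(normalizer ((P : Subgroup G) : Set G))).2
    have hblk : ∀ S : Sylow 3 G, g • S ∈ orbit ↥(P : Subgroup G) S := by
      intro S
      rw [hg]
      exact smul_mem_orbit_of_mem_ker P _ g''.2 S
    have hg1 : g ≠ 1 := by
      intro h
      rw [h, orderOf_one] at hgo
      exact hqp.one_lt.ne hgo
    have hcop : Nat.Coprime (orderOf g) 3 := by
      rw [hgo]
      exact (Nat.coprime_primes hqp (by norm_num)).mpr hq3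
    by_cases hgC : g ∈ centralizer ((P : Subgroup G) : Set G)
    · exact hg1 (eq_one_of_centralizes h22 h3 P g hgC hcop hblk)
    · have hmod := Cfsg.Agent.Lib.Helper17.card_modEq_card_inf_centralizer (P : Subgroup G) g hgN
        (by apply IsPGroup.of_card (n := 1); rw [Nat.card_zpowers, hgo, pow_one])
      rw [h3 P] at hmod
      have hdvd : Nat.card ↥((P : Subgroup G) ⊓ centralizer ({g} : Set G) : Subgroup G) ∣ 3 := by
        have := Subgroup.card_dvd_of_le
          (inf_le_left : (P : Subgroup G) ⊓ centralizer ({g} : Set G) ≤ (P : Subgroup G))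
        rwa [h3 P] at this
      rcases (Nat.dvd_prime (by norm_num : Nat.Prime 3)).mp hdvd with h1 | h1
      · rw [h1] at hmod
        have hd : q ∣ 3 - 1 := (Nat.modEq_iff_dvd' (by norm_num)).mp hmod.symm
        have hq2 : q = 2 := (Nat.prime_dvd_prime_iff_eq hqp Nat.prime_two).mp hd
        have hgg : g * g = 1 := by
          rw [← pow_two]
          have := pow_orderOf_eq_one g
          rwa [hgo, hq2] at this
        exact false_of_invol_blocks h22 h3 P g hgN hgC hgg hblk
      · apply hgC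
        have h2 : (P : Subgroup G) ⊓ centralizer ({g} : Set G) = (P : Subgroup G) :=
          Subgroup.eq_of_le_of_card_ge inf_le_left (by rw [h1, h3 P])
        rw [mem_centralizer_iff]
        intro b hb
        have hb' : b ∈ centralizer ({g} : Set G) := by
          rw [← h2] at hb; exact hb.2
        exact (mem_centralizer_iff.mp hb' g (Set.mem_singleton g)).symm
  have hpow := Nat.eq_prime_pow_of_unique_prime_dvd
    (Nat.card_pos (α := ↥(blockHom P).ker)).ne' hq
  obtain ⟨k, hk⟩ : ∃ k, Nat.card ↥(blockHom P).ker = 3 ^ k := ⟨_, hpow⟩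
  have hdvdG : Nat.card ↥(blockHom P).ker ∣ Nat.card G :=
    (Subgroup.card_subgroup_dvd_card _).trans (Subgroup.card_subgroup_dvd_card _)
  rw [hk] at hdvdG ⊢
  rcases k with _ | _ | k
  · norm_num
  · norm_num
  · exfalso
    apply nine_not_dvd h3
    refine dvd_trans ?_ hdvdG
    rw [pow_succ, pow_succ]
    exact ⟨3 ^ k, by ring⟩

/-- `|N_G(P)|` divides `3 * 7!`. -/
theorem card_normalizer_dvd (h22 : Nat.card (Sylow 3 G) = 22)
    (h3 : ∀ P : Sylow 3 G, Nat.card ↥(P : Subgroup G) = 3) (P : Sylow 3 G) :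
    Nat.card ↥(normalizer ((P : Subgroup G) : Set G)) ∣ 15120 := by
  have h1 := Subgroup.card_mul_index (blockHom P).ker
  rw [Subgroup.index_ker] at h1
  rw [← h1]
  exact Nat.mul_dvd_mul (card_ker_blockHom_dvd h22 h3 P) (card_range_blockHom_dvd h22 h3 P)

/-- An element of odd prime order normalizing `P` centralizes it. -/
theorem mem_centralizer_of_orderOf (h3 : ∀ P : Sylow 3 G, Nat.card ↥(P : Subgroup G) = 3)
    (P : Sylow 3 G) (y : G) {q : ℕ} (hqp : q.Prime) (hq2 : q ≠ 2) (hyo : orderOf y = q)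
    (hyN : y ∈ normalizer ((P : Subgroup G) : Set G)) :
    y ∈ centralizer ((P : Subgroup G) : Set G) := by
  haveI : Fact q.Prime := ⟨hqp⟩
  have hmod := Cfsg.Agent.Lib.Helper17.card_modEq_card_inf_centralizer (P : Subgroup G) y hyN
    (by apply IsPGroup.of_card (n := 1); rw [Nat.card_zpowers, hyo, pow_one])
  rw [h3 P] at hmod
  have hdvd : Nat.card ↥((P : Subgroup G) ⊓ centralizer ({y} : Set G) : Subgroup G) ∣ 3 := by
    have := Subgroup.card_dvd_of_le
      (inf_le_left : (P : Subgroup G) ⊓ centralizer ({y} : Set G) ≤ (P : Subgroup G))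
    rwa [h3 P] at this
  rcases (Nat.dvd_prime (by norm_num : Nat.Prime 3)).mp hdvd with h1 | h1
  · exfalso
    rw [h1] at hmod
    have hd : q ∣ 3 - 1 := (Nat.modEq_iff_dvd' (by norm_num)).mp hmod.symm
    exact hq2 ((Nat.prime_dvd_prime_iff_eq hqp Nat.prime_two).mp hd)
  · have h2 : (P : Subgroup G) ⊓ centralizer ({y} : Set G) = (P : Subgroup G) :=
      Subgroup.eq_of_le_of_card_ge inf_le_left (by rw [h1, h3 P])
    rw [mem_centralizer_iff]
    intro b hb
    have hb' : b ∈ centralizer ({y} : Set G) := by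
      rw [← h2] at hb; exact hb.2
    exact (mem_centralizer_iff.mp hb' y (Set.mem_singleton y)).symm

/-- No element of order 5 normalizes a Sylow 3-subgroup. -/
theorem no_order_five (h22 : Nat.card (Sylow 3 G) = 22)
    (h3 : ∀ P : Sylow 3 G, Nat.card ↥(P : Subgroup G) = 3) (P : Sylow 3 G) (y : G)
    (hyo : orderOf y = 5) (hyN : y ∈ normalizer ((P : Subgroup G) : Set G)) : False := by
  haveI := fact_three
  haveI : Fact (Nat.Prime 5) := ⟨by norm_num⟩
  haveI : Fact (Nat.Prime 7) := ⟨by norm_num⟩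
  have hyC := mem_centralizer_of_orderOf h3 P y (by norm_num) (by norm_num) hyo hyN
  have hy1 : y ≠ 1 := by
    intro h
    rw [h, orderOf_one] at hyo
    omega
  -- the fixed points of `y`
  have hF3 := Cfsg.Agent.Lib.Helper17.card_fixedBy_sylow_modEq_one P y
    (fun a ha => mem_centralizer_iff.mp hyC a ha)
  have hF5 := card_modEq_card_fixedBy (X := Sylow 3 G) y hyo
  rw [h22] at hF5
  have hFlt := card_fixedBy_lt h22 y hy1
  have hF7 : Nat.card ↥(fixedBy (Sylow 3 G) y) = 7 := by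
    have h1 : Nat.card ↥(fixedBy (Sylow 3 G) y) % 3 = 1 := hF3
    have h2 : 22 % 5 = Nat.card ↥(fixedBy (Sylow 3 G) y) % 5 := hF5
    omega
  obtain ⟨Cy, hCy⟩ : ∃ Cy : Subgroup G, Cy = centralizer ({y} : Set G) := ⟨_, rfl⟩
  have hle : ∀ S ∈ fixedBy (Sylow 3 G) y, (S : Subgroup G) ≤ Cy := by
    intro S hS s hs
    have hyS : y ∈ normalizer ((S : Subgroup G) : Set G) :=
      (Cfsg.Agent.Lib.Helper17.mem_fixedBy_sylow_iff y S).mp hS
    have hyCS := mem_centralizer_of_orderOf h3 S y (by norm_num) (by norm_num) hyo hyS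
    rw [hCy, mem_centralizer_iff]
    intro h hh
    rw [Set.mem_singleton_iff.mp hh]
    exact (mem_centralizer_iff.mp hyCS s hs).symm
  have hPF : P ∈ fixedBy (Sylow 3 G) y :=
    (Cfsg.Agent.Lib.Helper17.mem_fixedBy_sylow_iff y P).mpr hyN
  -- the orbit of `P` under `C_G(y)`
  obtain ⟨O, hO⟩ : ∃ O : Set (Sylow 3 G), O = orbit ↥Cy P := ⟨_, rfl⟩
  have hOF : O ⊆ fixedBy (Sylow 3 G) y := by
    rw [hO]
    rintro _ ⟨c, rfl⟩
    rw [MulAction.mem_fixedBy]
    have hcy : y * (c : G) = (c : G) * y := by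
      have hc : (c : G) ∈ centralizer ({y} : Set G) := by
        rw [← hCy]; exact c.2
      exact mem_centralizer_iff.mp hc y (Set.mem_singleton y)
    calc y • (c • P) = (y * (c : G)) • P := by rw [mul_smul]; rfl
      _ = ((c : G) * y) • P := by rw [hcy]
      _ = c • (y • P) := by rw [mul_smul]; rfl
      _ = c • P := by rw [MulAction.mem_fixedBy.mp hPF]
  have hPO : P ∈ O := by rw [hO]; exact mem_orbit_self P
  have hOinv : ∀ S ∈ fixedBy (Sylow 3 G) y, ∀ a : ↥(S : Subgroup G), ∀ T ∈ O, a • T ∈ O := by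
    intro S hS a T hT
    rw [hO] at hT ⊢
    obtain ⟨c, rfl⟩ := hT
    refine ⟨⟨(a : G), hle S hS a.2⟩ * c, ?_⟩
    show ((⟨(a : G), hle S hS a.2⟩ * c : ↥Cy)) • P = a • (c • P)
    rw [mul_smul]
    rfl
  have hOcard : ∀ S ∈ fixedBy (Sylow 3 G) y,
      Nat.card ↥O ≡ Nat.card ↥(O ∩ {S} : Set (Sylow 3 G)) [MOD 3] := by
    intro S hS
    have := Cfsg.Agent.Lib.Helper17.card_invariant_modEq (A := ↥(S : Subgroup G))
      (X := Sylow 3 G) S.2 O (hOinv S hS)
    rwa [Cfsg.Agent.Lib.Helper17.fixedPoints_sylow] at this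
  have hO1 : Nat.card ↥O % 3 = 1 := by
    have h1 := hOcard P hPF
    have h2 : (O ∩ {P} : Set (Sylow 3 G)) = {P} := Set.inter_eq_right.mpr (by simpa using hPO)
    rw [h2] at h1
    have h3' : Nat.card ↥({P} : Set (Sylow 3 G)) = 1 := by simp
    rw [h3'] at h1
    exact h1
  have hOle : Nat.card ↥O ≤ 7 := by
    rw [← hF7]
    exact Nat.card_le_card_of_injective (fun x : ↥O => (⟨x.1, hOF x.2⟩ : ↥(fixedBy (Sylow 3 G) y)))
      (fun a b h => Subtype.ext (congrArg (fun z : ↥(fixedBy (Sylow 3 G) y) => z.1) h))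
  have hO7 : Nat.card ↥O = 7 := by
    by_contra hne
    have hlt : O.ncard < (fixedBy (Sylow 3 G) y).ncard := by
      rw [← Nat.card_coe_set_eq, ← Nat.card_coe_set_eq, hF7]
      omega
    obtain ⟨S, hSF, hSO⟩ := Set.exists_mem_notMem_of_ncard_lt_ncard hlt (Set.toFinite O)
    have h1 := hOcard S hSF
    have h2 : (O ∩ {S} : Set (Sylow 3 G)) = ∅ := by
      ext T
      simp only [Set.mem_inter_iff, Set.mem_singleton_iff, Set.mem_empty_iff_false, iff_false,
        not_and]
      rintro hT rfl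
      exact hSO hT
    rw [h2] at h1
    have h3' : Nat.card ↥(∅ : Set (Sylow 3 G)) = 0 := by simp
    rw [h3'] at h1
    have : Nat.card ↥O % 3 = 0 := h1
    omega
  have h7dvd : 7 ∣ Nat.card ↥Cy := by
    have h1 := MulAction.index_stabilizer ↥Cy P
    rw [← hO, ← Nat.card_coe_set_eq, hO7] at h1
    rw [← h1]
    exact Subgroup.index_dvd_card _
  obtain ⟨y'', hy''⟩ := exists_prime_orderOf_dvd_card' (G := ↥Cy) 7 h7dvd
  obtain ⟨y', hy'⟩ : ∃ y' : G, y' = (y'' : G) := ⟨_, rfl⟩
  have hy'o : orderOf y' = 7 := by rw [hy', Subgroup.orderOf_coe]; exact hy''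
  have hcomm : y * y' = y' * y := by
    have hc : (y'' : G) ∈ centralizer ({y} : Set G) := by
      rw [← hCy]; exact y''.2
    rw [hy']
    exact mem_centralizer_iff.mp hc y (Set.mem_singleton y)
  have hy'1 : y' ≠ 1 := by
    intro h
    rw [h, orderOf_one] at hy'o
    omega
  have hF'7 := card_modEq_card_fixedBy (X := Sylow 3 G) y' hy'o
  rw [h22] at hF'7
  have hF'lt := card_fixedBy_lt h22 y' hy'1
  have hF'pos : 0 < Nat.card ↥(fixedBy (Sylow 3 G) y') := by
    have : 22 % 7 = Nat.card ↥(fixedBy (Sylow 3 G) y') % 7 := hF'7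
    omega
  haveI : Nonempty ↥(fixedBy (Sylow 3 G) y') := (Nat.card_pos_iff.mp hF'pos).1
  obtain ⟨⟨S₀, hS₀⟩⟩ : Nonempty ↥(fixedBy (Sylow 3 G) y') := inferInstance
  have hy'N : y' ∈ normalizer ((S₀ : Subgroup G) : Set G) :=
    (Cfsg.Agent.Lib.Helper17.mem_fixedBy_sylow_iff y' S₀).mp hS₀
  have hy'C := mem_centralizer_of_orderOf h3 S₀ y' (by norm_num) (by norm_num) hy'o hy'N
  have hF'3 := Cfsg.Agent.Lib.Helper17.card_fixedBy_sylow_modEq_one S₀ y'
    (fun a ha => mem_centralizer_iff.mp hy'C a ha)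
  have hF'1 : Nat.card ↥(fixedBy (Sylow 3 G) y') = 1 := by
    have h1 : Nat.card ↥(fixedBy (Sylow 3 G) y') % 3 = 1 := hF'3
    have h2 : 22 % 7 = Nat.card ↥(fixedBy (Sylow 3 G) y') % 7 := hF'7
    omega
  have hsub : Subsingleton ↥(fixedBy (Sylow 3 G) y') :=
    Finite.card_le_one_iff_subsingleton.mp hF'1.le
  -- `y` fixes `S₀`
  have hyS₀ : S₀ ∈ fixedBy (Sylow 3 G) y := by
    have h1 : y • S₀ ∈ fixedBy (Sylow 3 G) y' := by
      rw [MulAction.mem_fixedBy, ← mul_smul, ← hcomm, mul_smul, MulAction.mem_fixedBy.mp hS₀]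
    have := hsub.elim ⟨y • S₀, h1⟩ ⟨S₀, hS₀⟩
    exact congrArg Subtype.val this
  have hmod7 := Cfsg.Agent.Lib.Helper17.card_fixedBy_modEq_card_inter (X := Sylow 3 G)
    (Subgroup.zpowers y') (by apply IsPGroup.of_card (n := 1); rw [Nat.card_zpowers, hy'o, pow_one])
    y (by
      intro a ha
      obtain ⟨k, rfl⟩ := Subgroup.mem_zpowers_iff.mp ha
      exact ((Commute.zpow_right (show Commute y y' from hcomm) k).eq).symm)
  rw [Cfsg.Agent.Lib.Helper17.fixedPoints_zpowers_eq, hF7] at hmod7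
  have hone : Nat.card ↥(fixedBy (Sylow 3 G) y ∩ fixedBy (Sylow 3 G) y' : Set (Sylow 3 G)) = 1 := by
    have h2 : (fixedBy (Sylow 3 G) y ∩ fixedBy (Sylow 3 G) y' : Set (Sylow 3 G)) = {S₀} := by
      ext T
      simp only [Set.mem_inter_iff, Set.mem_singleton_iff]
      constructor
      · rintro ⟨-, hT⟩
        exact congrArg Subtype.val (hsub.elim ⟨T, hT⟩ ⟨S₀, hS₀⟩)
      · rintro rfl
        exact ⟨hyS₀, hS₀⟩
    rw [h2]
    simp
  rw [hone] at hmod7
  have : 7 % 7 = 1 % 7 := hmod7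
  omega

/-- A simple group of order 264 with a Sylow 11-normalizer of order 22: contradiction by the
parity of an involution of that normalizer on the 12 Sylow 11-subgroups. -/
theorem false_of_sylow_eleven (hnc : ¬ IsMulCommutative G) (h12 : Nat.card (Sylow 11 G) = 12)
    (R : Sylow 11 G) (hR11 : Nat.card ↥(R : Subgroup G) = 11) (t : G)
    (htN : t ∈ normalizer ((R : Subgroup G) : Set G))
    (htC : t ∉ centralizer ((R : Subgroup G) : Set G)) (htt : t * t = 1) : False := by
  haveI := fact_eleven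
  have h4 := Cfsg.Agent.Lib.Helper17.card_fixedBy_modEq_four (X := Sylow 11 G) hnc t htt
  rw [h12] at h4
  obtain ⟨Y, hY⟩ : ∃ Y : Set (Sylow 11 G), Y = {R' | R' ≠ R} := ⟨_, rfl⟩
  have hYcard : Nat.card ↥Y = 11 := by
    rw [hY]
    have := Cfsg.Agent.Lib.Helper17.card_subtype_ne R
    rw [h12] at this
    exact this
  have hle := prime_mul_card_inter_fixedBy_le (Z := Sylow 11 G) (R : Subgroup G) hR11 t htN htC Y
    (by
      intro ρ hρ z hz
      rw [hY] at hz ⊢
      intro h
      apply hz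
      have h1 : ρ • R = R := Sylow.smul_eq_iff_mem_normalizer.mpr (le_normalizer hρ)
      rw [← h1] at h
      exact smul_left_cancel ρ h)
    (by
      intro ρ hρ z hz h
      rw [hY] at hz
      have h1 : ρ ∈ ((R : Subgroup G) ⊓ normalizer ((z : Subgroup G) : Set G) : Subgroup G) :=
        ⟨hρ, Sylow.smul_eq_iff_mem_normalizer.mp h⟩
      rw [Cfsg.Agent.Lib.Helper17.inf_normalizer_eq_bot_of_card_prime R z hR11
        (Ne.symm hz), Subgroup.mem_bot] at h1
      exact h1)
  rw [hYcard] at hle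
  have hsub : fixedBy (Sylow 11 G) t ⊆ (Y ∩ fixedBy (Sylow 11 G) t) ∪ {R} := by
    intro S hS
    by_cases hSR : S = R
    · right; exact hSR
    · left
      refine ⟨?_, hS⟩
      rw [hY]; exact hSR
  have h1 := Set.ncard_le_ncard hsub (Set.toFinite _)
  have h2 := Set.ncard_union_le (Y ∩ fixedBy (Sylow 11 G) t) ({R} : Set (Sylow 11 G))
  rw [Set.ncard_singleton] at h2
  have hR : R ∈ fixedBy (Sylow 11 G) t :=
    (Cfsg.Agent.Lib.Helper17.mem_fixedBy_sylow_iff t R).mpr htN
  have hpos : 0 < Nat.card ↥(fixedBy (Sylow 11 G) t) := by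
    haveI : Nonempty ↥(fixedBy (Sylow 11 G) t) := ⟨⟨R, hR⟩⟩
    exact Nat.card_pos
  have h4' : Nat.card ↥(fixedBy (Sylow 11 G) t) % 4 = 12 % 4 := h4
  rw [Nat.card_coe_set_eq] at hle h4' hpos
  omega

theorem eq_four_of_dvd {m : ℕ} (hm : m ∣ 112) (h : (3 * m) % 11 = 1) : m = 4 := by
  have hle := Nat.le_of_dvd (by norm_num) hm
  interval_cases m <;> omega

/-- **Case `|P| = 3`**: no simple group has 22 Sylow 3-subgroups of order 3. -/
theorem false_of_card_three (h22 : Nat.card (Sylow 3 G) = 22)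
    (h3 : ∀ P : Sylow 3 G, Nat.card ↥(P : Subgroup G) = 3) : False := by
  haveI := fact_three
  haveI := fact_eleven
  haveI : Fact (Nat.Prime 5) := ⟨by norm_num⟩
  obtain ⟨P⟩ : Nonempty (Sylow 3 G) := inferInstance
  have hG := card_eq h22 P
  have hNd := card_normalizer_dvd h22 h3 P
  have h9 := nine_not_dvd h3
  obtain ⟨N, hN⟩ : ∃ N, N = Nat.card ↥(normalizer ((P : Subgroup G) : Set G)) := ⟨_, rfl⟩
  rw [← hN] at hG hNd
  have h3N : 3 ∣ N := by
    rw [hN]
    have := Subgroup.card_dvd_of_le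
      (le_normalizer : (P : Subgroup G) ≤ normalizer ((P : Subgroup G) : Set G))
    rwa [h3 P] at this
  obtain ⟨m, hm⟩ := h3N
  have hm3 : ¬ 3 ∣ m := by
    intro h
    apply h9
    rw [hG, hm]
    obtain ⟨c, hc⟩ := h
    exact ⟨22 * c, by rw [hc]; ring⟩
  have hm5 : ¬ 5 ∣ m := by
    intro h
    have h5N : 5 ∣ Nat.card ↥(normalizer ((P : Subgroup G) : Set G)) := by
      rw [← hN, hm]
      exact dvd_mul_of_dvd_right h 3
    obtain ⟨y, hy⟩ := exists_prime_orderOf_dvd_card'
      (G := ↥(normalizer ((P : Subgroup G) : Set G))) 5 h5N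
    exact no_order_five h22 h3 P (y : G) (by rw [Subgroup.orderOf_coe]; exact hy) y.2
  have hm112 : m ∣ 112 := by
    have h1 : m ∣ 112 * 45 := by
      have : 3 * m ∣ 3 * 5040 := by rw [← hm]; exact hNd
      exact (Nat.mul_dvd_mul_iff_left (by norm_num)).mp this
    have hc3 : Nat.Coprime m 3 :=
      ((Nat.Prime.coprime_iff_not_dvd (by norm_num)).mpr hm3).symm
    have hc5 : Nat.Coprime m 5 :=
      ((Nat.Prime.coprime_iff_not_dvd (by norm_num)).mpr hm5).symm
    have hc45 : Nat.Coprime m 45 := by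
      have : (45 : ℕ) = 3 ^ 2 * 5 := by norm_num
      rw [this]
      exact Nat.Coprime.mul_right (Nat.Coprime.pow_right 2 hc3) hc5
    exact hc45.dvd_of_dvd_mul_right h1
  have h5G : ¬ 5 ∣ Nat.card G := by
    rw [hG, hm]
    intro h
    rcases (Nat.Prime.dvd_mul (by norm_num)).mp h with h | h
    · norm_num at h
    · rcases (Nat.Prime.dvd_mul (by norm_num)).mp h with h | h
      · norm_num at h
      · exact hm5 h
  have h11 : ∀ g : G, orderOf g = 11 → ∀ S : Sylow 3 G, g • S ≠ S := by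
    intro g hg S hS
    have hgN : g ∈ normalizer ((S : Subgroup G) : Set G) :=
      Sylow.smul_eq_iff_mem_normalizer.mp hS
    have h1 : orderOf g ∣ Nat.card ↥(normalizer ((S : Subgroup G) : Set G)) := by
      have := orderOf_dvd_natCard (⟨g, hgN⟩ : ↥(normalizer ((S : Subgroup G) : Set G)))
      rwa [Subgroup.orderOf_mk] at this
    rw [hg] at h1
    have h2 := dvd_trans h1 (card_normalizer_dvd h22 h3 S)
    norm_num at h2
  obtain ⟨R, hR11, -, hNR, t, htN, hto, htC, -⟩ := exists_sylow_eleven h22 h5G h11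
  have hn11 : Nat.card (Sylow 11 G) = N := by
    have h1 : Nat.card (Sylow 11 G) = (normalizer ((R : Subgroup G) : Set G)).index :=
      R.card_eq_index_normalizer
    have h2 := Subgroup.index_mul_card (normalizer ((R : Subgroup G) : Set G))
    rw [hNR, hG, ← h1] at h2
    omega
  have hmod : Nat.card (Sylow 11 G) ≡ 1 [MOD 11] := card_sylow_modEq_one 11 G
  rw [hn11, hm] at hmod
  have hm4 : m = 4 := eq_four_of_dvd hm112 hmod
  have htt : t * t = 1 := by
    rw [← pow_two]
    have := pow_orderOf_eq_one t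
    rwa [hto] at this
  exact false_of_sylow_eleven (not_comm h22) (by rw [hn11, hm, hm4]) R hR11 t htN htC htt

end caseA

end Cfsg.Agent.Lib.Helper49.N322
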