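import Mathlib.GroupTheory.Sylow
import Cfsg.Prelude.Def_Solvable

set_option autoImplicit false

namespace Cfsg.Agent.Lib.Helper49

theorem pCore_normal' (p : ℕ) (G : Type*) [Group G] : (Cfsg.pCore p G).Normal :=
  Subgroup.sSup_normal _ (fun _ h => h.1)

theorem pCore_isPGroup' (p : ℕ) [Fact p.Prime] (G : Type*) [Group G] :
    IsPGroup p ↥(Cfsg.pCore p G) :=
  Sylow.sSup_of_normal _ (fun _ h => h.2) (fun _ h => h.1)

theorem le_pCore' {p : ℕ} {G : Type*} [Group G] (N : Subgroup G) (hN : N.Normal)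
    (hp : IsPGroup p ↥N) : N ≤ Cfsg.pCore p G :=
  le_sSup ⟨hN, hp⟩

/-- a finite group all of whose `p'`-elements are trivial is a `p`-group -/
theorem isPGroup_of_coprime_trivial {p : ℕ} [Fact p.Prime] {H : Type*} [Group H] [Finite H]
    (h : ∀ g : H, (orderOf g).Coprime p → g = 1) : IsPGroup p H := by
  intro g
  refine ⟨(orderOf g).factorization p, ?_⟩
  apply h
  have hpos : 0 < orderOf g := orderOf_pos g
  rw [orderOf_pow' g (pow_ne_zero _ (Fact.out : p.Prime).ne_zero)]
  have h1 : Nat.gcd (orderOf g) (p ^ (orderOf g).factorization p) = p ^ (orderOf g).factorization p :=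
    Nat.gcd_eq_right (Nat.ordProj_dvd _ _)
  rw [h1]
  exact (Nat.coprime_ordCompl (Fact.out : p.Prime) hpos.ne').symm

/-- an element of a `p`-group whose order is coprime to `p` is trivial -/
theorem eq_one_of_coprime_of_isPGroup {p : ℕ} [Fact p.Prime] {H : Type*} [Group H]
    (hH : IsPGroup p H) (g : H) (hg : (orderOf g).Coprime p) : g = 1 := by
  obtain ⟨k, hk⟩ := hH g
  have h1 : orderOf g ∣ p ^ k := orderOf_dvd_of_pow_eq_one hk
  have h2 : (orderOf g).Coprime (p ^ k) := Nat.Coprime.pow_right k hg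
  have : orderOf g = 1 := Nat.Coprime.eq_one_of_dvd h2 h1
  exact orderOf_eq_one_iff.mp this

/-- auxiliary form of coprime stability with the commutator named -/
theorem commute_of_coprime_aux {p : ℕ} {G : Type*} [Group G]
    (x u c : G) (hx : (orderOf x).Coprime p)
    (hc : ∃ k : ℕ, c ^ (p ^ k) = 1) (hcdef : x * u * x⁻¹ = c * u)
    (hcomm : Commute x c) : c = 1 := by
  have hpow : ∀ n : ℕ, x ^ n * u * (x ^ n)⁻¹ = c ^ n * u := by
    intro n
    induction n with
    | zero => simp
    | succ n ih =>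
      have h3 : x * c ^ n * x⁻¹ = c ^ n := by
        have := (hcomm.pow_right n).eq
        rw [this]; group
      calc x ^ (n + 1) * u * (x ^ (n + 1))⁻¹ = x * (x ^ n * u * (x ^ n)⁻¹) * x⁻¹ := by
            rw [pow_succ']; group
        _ = x * (c ^ n * u) * x⁻¹ := by rw [ih]
        _ = (x * c ^ n * x⁻¹) * (x * u * x⁻¹) := by group
        _ = c ^ n * (c * u) := by rw [h3, hcdef]
        _ = c ^ (n + 1) * u := by rw [pow_succ, mul_assoc]
  have h5 := hpow (orderOf x)
  rw [pow_orderOf_eq_one] at h5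
  have h6 : c ^ orderOf x = 1 := by
    have : c ^ orderOf x * u = u := by rw [← h5]; group
    exact mul_eq_right.mp this
  obtain ⟨k, hk⟩ := hc
  have h7 : orderOf c ∣ orderOf x := orderOf_dvd_of_pow_eq_one h6
  have h8 : orderOf c ∣ p ^ k := orderOf_dvd_of_pow_eq_one hk
  have h9 : (orderOf x).Coprime (p ^ k) := Nat.Coprime.pow_right k hx
  have h10 : orderOf c = 1 := Nat.eq_one_of_dvd_coprimes h9 h7 h8
  exact orderOf_eq_one_iff.mp h10

/-- coprime stability: if `x` has order coprime to `p`, the commutator `c = x u x⁻¹ u⁻¹` is a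
`p`-element commuting with `x`, then `x` commutes with `u`. -/
theorem commute_of_coprime_of_commutator {p : ℕ} {G : Type*} [Group G]
    (x u : G) (hx : (orderOf x).Coprime p)
    (hc : ∃ k : ℕ, (x * u * x⁻¹ * u⁻¹) ^ (p ^ k) = 1)
    (hcomm : Commute x (x * u * x⁻¹ * u⁻¹)) : x * u = u * x := by
  have h12 : x * u * x⁻¹ * u⁻¹ = 1 :=
    commute_of_coprime_aux x u (x * u * x⁻¹ * u⁻¹) hx hc (by group) hcomm
  calc x * u = (x * u * x⁻¹ * u⁻¹) * u * x := by group
    _ = u * x := by rw [h12, one_mul]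

end Cfsg.Agent.Lib.Helper49
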