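import Mathlib
import Cfsg.Agent.Lib.Helper41.PSLnDefs

set_option autoImplicit false

/-! Leaf T11 of helper41's `PSL_n` hive: the Steinberg commutator relations. -/

namespace Cfsg.Agent.Lib.Helper49.PSLnDup

open Cfsg.Agent.Lib.Helper41.PSLn

open Matrix

variable {n : ℕ} {K : Type*} [Field K] [Fintype K]

/-- T11. Steinberg relations. -/
theorem tv_conj_left {i j k : Fin n} (hij : i ≠ j) (hki : k ≠ i) (hkj : k ≠ j) (s c : K) :
    tv hki s * tv hij c * (tv hki s)⁻¹ = tv hij c * tv hkj (s * c) := by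
  rw [Matrix.SpecialLinearGroup.transvection_inv]
  apply Subtype.ext
  simp only [Matrix.SpecialLinearGroup.coe_mul, Matrix.SpecialLinearGroup.transvection_coe]
  simp [mul_add, add_mul, Matrix.single_mul_single_of_ne, hij, hki, hkj, hij.symm, hki.symm,
    hkj.symm, ← Matrix.single_neg]
  abel

theorem tv_conj_right {i j l : Fin n} (hij : i ≠ j) (hjl : j ≠ l) (hil : i ≠ l) (s c : K) :
    tv hjl s * tv hij c * (tv hjl s)⁻¹ = tv hij c * tv hil (-(c * s)) := by
  rw [Matrix.SpecialLinearGroup.transvection_inv]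
  apply Subtype.ext
  simp only [Matrix.SpecialLinearGroup.coe_mul, Matrix.SpecialLinearGroup.transvection_coe]
  simp [mul_add, add_mul, Matrix.single_mul_single_of_ne, hij, hjl, hil, hij.symm, hjl.symm,
    hil.symm, ← Matrix.single_neg]
  abel

end Cfsg.Agent.Lib.Helper49.PSLnDup
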