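import Mathlib
import Cfsg.Agent.Lib.Helper41.PSLnDefs

set_option autoImplicit false

/-! Leaf T8 of helper41's `PSL_n` hive: elementary facts on the transvections `tv hij c`. -/

namespace Cfsg.Agent.Lib.Helper49.PSLnDup

open Cfsg.Agent.Lib.Helper41.PSLn

open Matrix

variable {n : ℕ} {K : Type*} [Field K] [Fintype K]

theorem h49_tv_coe_apply {i j : Fin n} (hij : i ≠ j) (c : K) (a b : Fin n) :
    (tv hij c).1 a b = (1 : Matrix (Fin n) (Fin n) K) a b + Matrix.single i j c a b := rfl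

/-- T8. -/
theorem tv_mem_PRow {i j : Fin n} (hij : i ≠ j) (c : K) (a : Fin n) (hja : j ≠ a) :
    tv hij c ∈ PRow n K a := by
  rw [mem_PRow]
  intro k hk
  rw [h49_tv_coe_apply, Matrix.one_apply_ne hk, Matrix.single_apply_of_ne, add_zero]
  exact fun h => hja h.2

theorem tv_mem_PCol {i j : Fin n} (hij : i ≠ j) (c : K) (b : Fin n) (hib : i ≠ b) :
    tv hij c ∈ PCol n K b := by
  rw [mem_PCol]
  intro k hk
  rw [h49_tv_coe_apply, Matrix.one_apply_ne hk.symm, Matrix.single_apply_of_ne, add_zero]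
  exact fun h => hib h.1

theorem h49_tv_pow {i j : Fin n} (hij : i ≠ j) (c : K) (m : ℕ) :
    tv hij c ^ m = tv hij ((m : K) * c) := by
  induction m with
  | zero =>
    rw [pow_zero, Nat.cast_zero, zero_mul]
    exact (Matrix.SpecialLinearGroup.transvection_coeff_zero hij).symm
  | succ m ih =>
    rw [pow_succ, ih, Nat.cast_succ, add_mul, one_mul]
    exact (Matrix.SpecialLinearGroup.transvection_add hij _ _).symm

theorem orderOf_tv (p : ℕ) [Fact p.Prime] [CharP K p] {i j : Fin n} (hij : i ≠ j) (c : K) :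
    ∃ k : ℕ, orderOf (tv hij c) = p ^ k := by
  have h1 : tv hij c ^ p = 1 := by
    rw [h49_tv_pow, CharP.cast_eq_zero K p, zero_mul]
    exact Matrix.SpecialLinearGroup.transvection_coeff_zero hij
  have h2 : orderOf (tv hij c) ∣ p ^ 1 := by
    rw [pow_one]
    exact orderOf_dvd_of_pow_eq_one h1
  obtain ⟨k, _, hk⟩ := (Nat.dvd_prime_pow (Fact.out : p.Prime)).1 h2
  exact ⟨k, hk⟩

theorem tv_mem_UU {i j : Fin n} (hij : i < j) (c : K) : tv (ne_of_lt hij) c ∈ UU n K := by
  rw [mem_UU]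
  refine ⟨?_, ?_⟩
  · intro a b hba
    rw [h49_tv_coe_apply, Matrix.one_apply_ne (ne_of_gt hba), Matrix.single_apply_of_ne, add_zero]
    rintro ⟨rfl, rfl⟩
    exact absurd hij (not_lt.mpr (le_of_lt hba))
  · intro a
    rw [h49_tv_coe_apply, Matrix.one_apply_eq, Matrix.single_apply_of_ne, add_zero]
    rintro ⟨rfl, h⟩
    exact (ne_of_lt hij) h.symm

end Cfsg.Agent.Lib.Helper49.PSLnDup
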