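import Mathlib
import Cfsg.Agent.Lib.Helper85.PSpDefs

set_option autoImplicit false
set_option linter.unusedSectionVars false

/-! Leaves L10, L11 of helper85's S5171 project. -/

namespace Cfsg.Agent.Lib.Helper49.PSpDup

open Cfsg.Agent.Lib.Helper85.PSp

open Matrix Cfsg.Agent.Lib.Helper45.SpAut Cfsg.Agent.Lib.Helper41.PSLn

variable {F : Type*} [Field F] [Fintype F] {m : ℕ}

/-- L10. if a transvection `T v 1` lies in `US` then `v ∈ L`. -/
theorem inL_of_T_mem_US {v : Vec m F} (h : T v 1 ∈ US m F) : InL v := by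
  intro i
  have h1 : InL ((T v 1).1 *ᵥ (eV i : Vec m F)) := US_inL h (inL_eV i)
  rw [T_mulVec, B_eV_left, one_mul] at h1
  have h2 := h1 i
  have h3 : (eV i : Vec m F) (Sum.inr i) = 0 := inL_eV i i
  rw [Pi.add_apply, h3, zero_add, Pi.smul_apply, smul_eq_mul, neg_mul, neg_eq_zero] at h2
  exact mul_self_eq_zero.1 h2

theorem l10_col (g : SpG m F) (j : Fin m) (r : Fin m ⊕ Fin m) :
    (g.1 *ᵥ (eV j : Vec m F)) r = g.1 r (Sum.inl j) := by
  unfold eV
  rw [mulVec_single_one]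
  rfl

/-- L11. an element normalising `US` preserves `L`. -/
theorem lowerLeft_zero_of_normalizes (n : SpG m F) (hn : ∀ x ∈ US m F, n * x * n⁻¹ ∈ US m F) :
    ∀ i j : Fin m, n.1 (Sum.inr i) (Sum.inl j) = 0 := by
  intro i j
  have h1 : T (eV j : Vec m F) 1 ∈ US m F := NS_le_US (T_mem_NS (inL_eV j) 1)
  have h2 := hn _ h1
  rw [conj_T] at h2
  have h3 := inL_of_T_mem_US h2 i
  rw [l10_col] at h3
  exact h3

end Cfsg.Agent.Lib.Helper49.PSpDup
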