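import Mathlib
import Cfsg.Agent.Lib.Helper85.PSpDefs
import Cfsg.Agent.Lib.Helper97.PSLnT2

set_option autoImplicit false
set_option linter.unusedSectionVars false

/-! Leaf L12 of helper85's S5171 project: `GL`-version of `mem_BB_of_normalizes`. -/

namespace Cfsg.Agent.Lib.Helper49.PSpDup

open Cfsg.Agent.Lib.Helper85.PSp

open Matrix Cfsg.Agent.Lib.Helper45.SpAut Cfsg.Agent.Lib.Helper41.PSLn

variable {F : Type*} [Field F] [Fintype F] {m : ℕ}

/-- L12. -/
theorem upper_of_normalizes_UU (A A' : Matrix (Fin m) (Fin m) F) (h1 : A * A' = 1) (h2 : A' * A = 1)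
    (h : ∀ u ∈ UU m F, ∀ i j : Fin m, j ≤ i →
      (A * (u : Matrix (Fin m) (Fin m) F) * A') i j = (1 : Matrix (Fin m) (Fin m) F) i j) :
    ∀ i j : Fin m, j < i → A i j = 0 := by
  classical
  have key : ∀ i j : Fin m, i < j → ∀ k l : Fin m, l ≤ k → A k i * A' j l = 0 := by
    intro i j hij k l hlk
    have hu := h _ (t2_tv_mem_UU hij (1 : F)) k l hlk
    have hcoe : A * ((tv (ne_of_lt hij) (1 : F) : SLn m F) : Matrix (Fin m) (Fin m) F) * A' =
        1 + A * Matrix.single i j (1 : F) * A' := by
      show A * (Matrix.SpecialLinearGroup.transvection (ne_of_lt hij) (1 : F)).1 * A' = _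
      rw [Matrix.SpecialLinearGroup.transvection_coe, Matrix.mul_add, Matrix.add_mul, Matrix.mul_one,
        h1]
    rw [hcoe, Matrix.add_apply, t2_entry, mul_one] at hu
    exact left_eq_add.mp hu.symm
  have hex : ∀ i : Fin m, ∃ k : Fin m, A' i k * A k i ≠ 0 := by
    intro i
    by_contra hcon
    push Not at hcon
    have h3 : (A' * A) i i = 0 := by
      rw [Matrix.mul_apply]
      exact Finset.sum_eq_zero (fun k _ => hcon k)
    rw [h2, Matrix.one_apply_eq] at h3
    exact one_ne_zero h3
  choose w hw using hex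
  have hmono : StrictMono w := by
    intro i j hij
    by_contra hcon
    have hle : w j ≤ w i := not_lt.mp hcon
    have h0 := key i j hij (w i) (w j) hle
    rcases mul_eq_zero.mp h0 with h' | h'
    · exact hw i (by rw [h', mul_zero])
    · exact hw j (by rw [h', zero_mul])
  have hwid : ∀ i, w i = i := fun i => hmono.apply_eq
  intro k i hik
  have h0 := key i k hik k k le_rfl
  rcases mul_eq_zero.mp h0 with h' | h'
  · exact h'
  · exfalso
    have := hw k
    rw [hwid k, h', zero_mul] at this
    exact this rfl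

end Cfsg.Agent.Lib.Helper49.PSpDup
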