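import Mathlib
import Cfsg.Agent.Lib.Helper85.PSpDefs
import Cfsg.Agent.Lib.Helper5.SympCenter

set_option autoImplicit false

/-! Leaves L3, L4 of helper85's S5171 project. -/

namespace Cfsg.Agent.Lib.Helper85.PSp

open Matrix Cfsg.Agent.Lib.Helper45.SpAut Cfsg.Agent.Lib.Helper41.PSLn

variable {F : Type*} [Field F] [Fintype F] {m : ℕ}

theorem l3_ker_pr : (pr : SpG m F →* Cfsg.PSp m F).ker = Subgroup.center (SpG m F) :=
  QuotientGroup.ker_mk' _

/-- L3. -/
theorem ker_pr_le_center : (pr : SpG m F →* Cfsg.PSp m F).ker ≤ Subgroup.center (SpG m F) :=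
  le_of_eq l3_ker_pr

theorem card_ker_pr_coprime (p : ℕ) [Fact p.Prime] [CharP F p] [NeZero m] :
    (Nat.card (pr : SpG m F →* Cfsg.PSp m F).ker).Coprime p := by
  have hp : p.Prime := Fact.out
  have : Nonempty (Fin m) := ⟨0⟩
  rw [l3_ker_pr]
  have h1 : Nat.card (Subgroup.center (SpG m F)) = Nat.gcd 2 (Fintype.card F - 1) :=
    Cfsg.Agent.Lib.Helper5.card_center_symplecticGroup
  rw [h1]
  apply Nat.Coprime.symm
  rw [Nat.Prime.coprime_iff_not_dvd hp]
  intro hd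
  obtain ⟨k, -, hk⟩ := FiniteField.card F p
  have h2 : p ∣ Fintype.card F - 1 := dvd_trans hd (Nat.gcd_dvd_right _ _)
  have h3 : p ∣ Fintype.card F := by
    rw [hk]
    exact dvd_pow_self p k.ne_zero
  have h4 : 1 ≤ Fintype.card F := Fintype.card_pos
  have h5 : p ∣ 1 := by
    have := Nat.dvd_sub h3 h2
    rwa [Nat.sub_sub_self h4] at this
  exact hp.one_lt.ne' (Nat.dvd_one.1 h5)

/-- L4. `T (eV 0) 1 ∈ NS` is not `1`. -/
theorem US_ne_bot [NeZero m] : US m F ≠ ⊥ := by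
  intro h
  have h1 : T (eV (0 : Fin m) : Vec m F) 1 ∈ US m F := NS_le_US (T_mem_NS (inL_eV 0) 1)
  rw [h, Subgroup.mem_bot, T_eq_one_iff (eV_ne_zero 0)] at h1
  exact one_ne_zero h1

end Cfsg.Agent.Lib.Helper85.PSp
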