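import Mathlib
import Cfsg.Agent.Lib.Helper85.PSpDefs
import Cfsg.Agent.Lib.Helper49.PSpL3

set_option autoImplicit false

/-! Leaf L2 of helper85's S5171 project: `US` is a Sylow `p`-subgroup of `Sp`. -/

namespace Cfsg.Agent.Lib.Helper85.PSp

open Matrix Cfsg.Agent.Lib.Helper45.SpAut Cfsg.Agent.Lib.Helper41.PSLn

variable {F : Type*} [Field F] [Fintype F] {m : ℕ}

/-- L2. `US` is a Sylow `p`-subgroup of `Sp`. -/
theorem exists_sylow_US (p : ℕ) [Fact p.Prime] [CharP F p] [NeZero m] :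
    ∃ S0 : Sylow p (SpG m F), (S0 : Subgroup (SpG m F)) = US m F := by
  have hp : p.Prime := Fact.out
  obtain ⟨P, hP⟩ := (US_isPGroup (m := m) (F := F) p).exists_le_sylow
  refine ⟨P, le_antisymm ?_ hP⟩
  -- the image of `P` in `PSp` is `Ub`
  let Q0 : Sylow p (Cfsg.PSp m F) := (Ub_isPGroup (m := m) (F := F) p).toSylow (Ub_index p)
  have hQ0 : (Q0 : Subgroup (Cfsg.PSp m F)) = Ub m F := IsPGroup.toSylow_coe _ _
  have hmap : (P : Subgroup (SpG m F)).map pr = Ub m F := by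
    rw [← hQ0]
    apply Q0.is_maximal' (P.isPGroup'.map pr)
    rw [hQ0]
    exact Subgroup.map_mono hP
  intro x hx
  have h1 : pr x ∈ Ub m F := by
    rw [← hmap]
    exact Subgroup.mem_map_of_mem _ hx
  obtain ⟨u, hu, hux⟩ := h1
  have hz : u⁻¹ * x ∈ (pr : SpG m F →* Cfsg.PSp m F).ker := by
    rw [MonoidHom.mem_ker, map_mul, map_inv, hux, inv_mul_cancel]
  have hzP : u⁻¹ * x ∈ (P : Subgroup (SpG m F)) := P.mul_mem (P.inv_mem (hP hu)) hx
  obtain ⟨k, hk⟩ := (IsPGroup.iff_orderOf.1 P.isPGroup') ⟨u⁻¹ * x, hzP⟩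
  have hk' : orderOf (u⁻¹ * x) = p ^ k := by
    rw [← hk]
    exact (Subgroup.orderOf_mk _ _).symm
  have hd : orderOf (u⁻¹ * x) ∣ Nat.card (pr : SpG m F →* Cfsg.PSp m F).ker := by
    have := orderOf_dvd_natCard (⟨u⁻¹ * x, hz⟩ : (pr : SpG m F →* Cfsg.PSp m F).ker)
    rwa [Subgroup.orderOf_mk] at this
  have hcop := card_ker_pr_coprime (m := m) (F := F) p
  have h1' : orderOf (u⁻¹ * x) = 1 := by
    have hc : (orderOf (u⁻¹ * x)).Coprime (p ^ k) :=
      Nat.Coprime.coprime_dvd_left hd (Nat.Coprime.pow_right k hcop)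
    rw [hk'] at hc ⊢
    exact (Nat.coprime_self _).1 hc
  rw [orderOf_eq_one_iff, inv_mul_eq_one] at h1'
  rw [← h1']
  exact hu

end Cfsg.Agent.Lib.Helper85.PSp
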