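import Mathlib
import Cfsg.Agent.Lib.Helper85.PSpDefs
import Cfsg.Agent.Lib.Helper40.PSpL1

set_option autoImplicit false
set_option linter.unusedSectionVars false

/-! Leaf L20 of helper85's S5171 project: `QS ≤ US`. -/

namespace Cfsg.Agent.Lib.Helper85.PSp

open Matrix Cfsg.Agent.Lib.Helper45.SpAut Cfsg.Agent.Lib.Helper41.PSLn

variable {F : Type*} [Field F] [Fintype F] {m : ℕ}

theorem l20_col (g : SpG m F) (j : Fin m) (r : Fin m ⊕ Fin m) :
    (g.1 *ᵥ (eV j : Vec m F)) r = g.1 r (Sum.inl j) := by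
  unfold eV
  rw [mulVec_single_one]
  rfl

/-- L20. -/
theorem QS_le_US [NeZero m] : QS m F ≤ US m F := by
  intro g hg
  rw [mem_QS] at hg
  obtain ⟨hg0, hg1⟩ := hg
  have hcol : ∀ j : Fin m, ∃ c : F, g.1 *ᵥ (eV j : Vec m F) = eV j + c • (eV 0 : Vec m F) := by
    intro j
    apply hg1
    rw [B_eV_right]
    simp [eV]
  rw [mem_US_iff]
  refine ⟨?_, ?_⟩
  · intro i j
    obtain ⟨c, hc⟩ := hcol j
    rw [← l20_col, hc]
    simp [eV]
  · intro i j hji
    by_cases hi : i = 0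
    · subst hi
      have hj : j = 0 := le_antisymm hji (Fin.zero_le j)
      subst hj
      rw [← l20_col, hg0]
      simp [eV]
    · obtain ⟨c, hc⟩ := hcol j
      rw [← l20_col, hc]
      simp [eV, Pi.single_apply, Matrix.one_apply, hi]

end Cfsg.Agent.Lib.Helper85.PSp
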