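import Mathlib
import Cfsg.Agent.Lib.Helper85.PSpDefs

set_option autoImplicit false
set_option linter.unusedSectionVars false
set_option linter.unusedVariables false

/-! Leaf L21 of helper85's S5171 project: elements fixing `e_0` normalise `QS`. -/

namespace Cfsg.Agent.Lib.Helper85.PSp

open Matrix Cfsg.Agent.Lib.Helper45.SpAut Cfsg.Agent.Lib.Helper41.PSLn

variable {F : Type*} [Field F] [Fintype F] {m : ℕ}

theorem l21_conj_mem [NeZero m] {h : SpG m F} (hh : h.1 *ᵥ (eV 0 : Vec m F) = eV 0)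
    {g : SpG m F} (hg : g ∈ QS m F) : h * g * h⁻¹ ∈ QS m F := by
  have hi : (h⁻¹).1 *ᵥ (eV 0 : Vec m F) = eV 0 := by
    nth_rewrite 1 [← hh]
    exact inv_mulVec_mulVec h _
  rw [mem_QS] at hg ⊢
  obtain ⟨hg0, hg1⟩ := hg
  refine ⟨?_, ?_⟩
  · rw [mul_mulVec, mul_mulVec, hi, hg0, hh]
  · intro x hx
    have hx' : B ((h⁻¹).1 *ᵥ x) (eV 0 : Vec m F) = 0 := by
      rw [B_inv_left, hh]
      exact hx
    obtain ⟨c, hc⟩ := hg1 _ hx'
    refine ⟨c, ?_⟩
    rw [mul_mulVec, mul_mulVec, hc, mulVec_add, mulVec_smul, hh, mulVec_inv_mulVec]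

/-- L21. elements fixing `e_0` normalise `QS`. -/
theorem mem_normalizer_QS_of_fix [NeZero m] {h : SpG m F}
    (hh : h.1 *ᵥ (eV 0 : Vec m F) = eV 0) :
    h ∈ Subgroup.normalizer (QS m F : Set (SpG m F)) := by
  have hi : (h⁻¹).1 *ᵥ (eV 0 : Vec m F) = eV 0 := by
    nth_rewrite 1 [← hh]
    exact inv_mulVec_mulVec h _
  rw [Subgroup.mem_normalizer_iff]
  intro g
  constructor
  · intro hg
    exact l21_conj_mem hh hg
  · intro hg
    have h1 := l21_conj_mem hi hg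
    have h2 : h⁻¹ * (h * g * h⁻¹) * h⁻¹⁻¹ = g := by group
    rwa [h2] at h1

theorem US_le_normalizer_QS [NeZero m] : US m F ≤ Subgroup.normalizer (QS m F : Set (SpG m F)) :=
  fun _ hg => mem_normalizer_QS_of_fix (US_fix_e0 hg)

theorem T_eV_mem_normalizer_QS [NeZero m] {l : Fin m} (hl : l ≠ 0) (c : F) :
    T (eV l) c ∈ Subgroup.normalizer (QS m F : Set (SpG m F)) := by
  apply mem_normalizer_QS_of_fix
  rw [T_mulVec, B_eV_right]
  have h0 : (eV 0 : Vec m F) (Sum.inr l) = 0 := by simp [eV]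
  rw [h0, mul_zero, zero_smul, add_zero]

theorem T_fV_mem_normalizer_QS [NeZero m] {l : Fin m} (hl : l ≠ 0) (c : F) :
    T (fV l) c ∈ Subgroup.normalizer (QS m F : Set (SpG m F)) := by
  apply mem_normalizer_QS_of_fix
  rw [T_mulVec, B_fV_right]
  have h0 : (eV 0 : Vec m F) (Sum.inl l) = 0 := by
    simp [eV, hl]
  rw [h0, neg_zero, mul_zero, zero_smul, add_zero]

end Cfsg.Agent.Lib.Helper85.PSp
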