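import Mathlib
import Cfsg.Agent.Lib.Helper85.PSpDefs

set_option autoImplicit false
set_option linter.unusedSectionVars false

/-! Leaf L6 of helper85's S5171 project: conjugation of `nElt` by the Levi factor and the torus. -/

namespace Cfsg.Agent.Lib.Helper85.PSp

open Matrix Cfsg.Agent.Lib.Helper45.SpAut Cfsg.Agent.Lib.Helper41.PSLn

variable {F : Type*} [Field F] [Fintype F] {m : ℕ}

/-- L6. conjugation of `nElt` by the Levi factor and by the torus. -/
theorem dHom_conj_nElt (A : SLn m F) (S : Matrix (Fin m) (Fin m) F) (hS : Sᵀ = S) :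
    dHom A * nElt S hS * (dHom A)⁻¹ = nElt (A.1 * S * A.1ᵀ)
      (by rw [transpose_mul, transpose_mul, transpose_transpose, hS, Matrix.mul_assoc]) := by
  rw [mul_inv_eq_iff_eq_mul]
  apply Subtype.ext
  show (fromBlocks A.1 0 0 ((A⁻¹).1)ᵀ : Matrix (Fin m ⊕ Fin m) (Fin m ⊕ Fin m) F) *
      fromBlocks 1 S 0 1 = fromBlocks 1 (A.1 * S * A.1ᵀ) 0 1 * fromBlocks A.1 0 0 ((A⁻¹).1)ᵀ
  rw [fromBlocks_multiply, fromBlocks_multiply]
  have h2 : A.1ᵀ * ((A⁻¹).1)ᵀ = 1 := by rw [← transpose_mul, sl_inv_mul, transpose_one]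
  have h3 : A.1 * S * A.1ᵀ * ((A⁻¹).1)ᵀ = A.1 * S := by
    rw [Matrix.mul_assoc, h2, Matrix.mul_one]
  simp only [Matrix.mul_zero, Matrix.zero_mul, add_zero, zero_add, Matrix.mul_one, Matrix.one_mul,
    h3]

theorem l6_diag_mul_inv (d : Fin m → Fˣ) :
    (diagonal fun i => ((d i : Fˣ) : F)) * (diagonal fun i => (((d i)⁻¹ : Fˣ) : F)) = 1 := by
  rw [diagonal_mul_diagonal]
  have : (fun i => ((d i : Fˣ) : F) * (((d i)⁻¹ : Fˣ) : F)) = fun _ => (1 : F) := by
    funext i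
    rw [← Units.val_mul, mul_inv_cancel, Units.val_one]
  rw [this, diagonal_one]

theorem tor_conj_nElt (d : Fin m → Fˣ) (S : Matrix (Fin m) (Fin m) F) (hS : Sᵀ = S) :
    tor d * nElt S hS * (tor d)⁻¹ =
      nElt (diagonal (fun i => ((d i : Fˣ) : F)) * S * diagonal (fun i => ((d i : Fˣ) : F)))
      (by rw [transpose_mul, transpose_mul, diagonal_transpose, hS, Matrix.mul_assoc]) := by
  rw [mul_inv_eq_iff_eq_mul]
  apply Subtype.ext
  show (fromBlocks (diagonal fun i => ((d i : Fˣ) : F)) 0 0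
        (diagonal fun i => (((d i)⁻¹ : Fˣ) : F)) : Matrix (Fin m ⊕ Fin m) (Fin m ⊕ Fin m) F) *
      fromBlocks 1 S 0 1 =
    fromBlocks 1 (diagonal (fun i => ((d i : Fˣ) : F)) * S * diagonal (fun i => ((d i : Fˣ) : F)))
      0 1 * fromBlocks (diagonal fun i => ((d i : Fˣ) : F)) 0 0
        (diagonal fun i => (((d i)⁻¹ : Fˣ) : F))
  rw [fromBlocks_multiply, fromBlocks_multiply]
  have h3 : (diagonal fun i => ((d i : Fˣ) : F)) * S * (diagonal fun i => ((d i : Fˣ) : F)) *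
      (diagonal fun i => (((d i)⁻¹ : Fˣ) : F)) = (diagonal fun i => ((d i : Fˣ) : F)) * S := by
    rw [Matrix.mul_assoc, l6_diag_mul_inv, Matrix.mul_one]
  simp only [Matrix.mul_zero, Matrix.zero_mul, add_zero, zero_add, Matrix.mul_one, Matrix.one_mul,
    h3]

end Cfsg.Agent.Lib.Helper85.PSp
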