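import Mathlib
import Cfsg.Agent.Lib.Helper85.PSpDefs
import Cfsg.Agent.Lib.Helper40.PSpL1

set_option autoImplicit false
set_option linter.unusedSectionVars false

/-! Leaf L7 of helper85's S5171 project: the torus normalises `US`. -/

namespace Cfsg.Agent.Lib.Helper49.PSpDup

open Cfsg.Agent.Lib.Helper85.PSp

open Matrix Cfsg.Agent.Lib.Helper45.SpAut Cfsg.Agent.Lib.Helper41.PSLn

variable {F : Type*} [Field F] [Fintype F] {m : ℕ}

/-- the diagonal entries of `tor d` -/
def l7_del (d : Fin m → Fˣ) : Fin m ⊕ Fin m → F :=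
  Sum.elim (fun i => ((d i : Fˣ) : F)) (fun i => (((d i)⁻¹ : Fˣ) : F))

theorem l7_tor_coe (d : Fin m → Fˣ) : (tor d : SpG m F).1 = diagonal (l7_del d) := by
  rw [tor_coe, l7_del, fromBlocks_diagonal]

theorem l7_del_ne_zero (d : Fin m → Fˣ) (a : Fin m ⊕ Fin m) : l7_del (F := F) d a ≠ 0 := by
  rcases a with i | i
  · exact Units.ne_zero (d i)
  · exact Units.ne_zero (d i)⁻¹

theorem l7_entry (d : Fin m → Fˣ) (x : SpG m F) (a b : Fin m ⊕ Fin m) :
    (tor d * x * (tor d)⁻¹).1 a b * l7_del d b = l7_del d a * x.1 a b := by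
  have h1 : (tor d * x * (tor d)⁻¹) * tor d = tor d * x := by group
  have h2 : ((tor d * x * (tor d)⁻¹) * tor d).1 a b = (tor d * x).1 a b := by rw [h1]
  have h3 : ((tor d * x * (tor d)⁻¹) * tor d).1 = (tor d * x * (tor d)⁻¹).1 * (tor d).1 := rfl
  have h4 : (tor d * x).1 = (tor d).1 * x.1 := rfl
  rw [h3, h4, l7_tor_coe, mul_diagonal, diagonal_mul] at h2
  exact h2

/-- L7. the torus normalises `US`. -/
theorem tor_conj_mem_US (d : Fin m → Fˣ) {x : SpG m F} (hx : x ∈ US m F) :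
    tor d * x * (tor d)⁻¹ ∈ US m F := by
  rw [mem_US_iff] at hx ⊢
  obtain ⟨hx1, hx2⟩ := hx
  refine ⟨?_, ?_⟩
  · intro i j
    have h := l7_entry d x (Sum.inr i) (Sum.inl j)
    rw [hx1 i j, mul_zero] at h
    exact (mul_eq_zero.1 h).resolve_right (l7_del_ne_zero d _)
  · intro i j hji
    have h := l7_entry d x (Sum.inl i) (Sum.inl j)
    rw [hx2 i j hji] at h
    by_cases hij : i = j
    · subst hij
      rw [Matrix.one_apply_eq, mul_one] at h
      rw [Matrix.one_apply_eq]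
      exact mul_right_cancel₀ (l7_del_ne_zero d _) (by rw [h, one_mul])
    · rw [Matrix.one_apply_ne hij, mul_zero] at h
      rw [Matrix.one_apply_ne hij]
      exact (mul_eq_zero.1 h).resolve_right (l7_del_ne_zero d _)

end Cfsg.Agent.Lib.Helper49.PSpDup
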