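import Cfsg.Agent.Lib.Helper12.PsDefs
import Cfsg.Agent.Lib.Helper9.CoprimeIndex

/-!
# Ps hive (S4321, helper12), leaf psC (helper49): the class of `a` is its `P`-orbit; `rstab a ≤ P`.
-/

set_option autoImplicit false

namespace Cfsg.Agent.Lib.Helper12.Ps

open Subgroup Cfsg.Agent.Lib.Helper22.Cg

universe u

/-- PSC. (Helper9.exists_mul_of_coprime_index) the class of `a` is its `P`-orbit; `rstab a ≤ P`. -/
theorem psC {G : Type u} [Group G] [Finite G] (p : ℕ) [Fact p.Prime] (a b : G) (P : Sylow p G)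
    (haP : a ∈ P) (hc : (cs a).Coprime (cs b))
    (hdec : ∀ w : G, b * w = w * b →
      ∃ y ∈ P, ∃ c : G, b * c = c * b ∧ (∀ y' ∈ P, c * y' = y' * c) ∧ w = c * y) :
    (∀ g : G, ∃ y ∈ P, g * a * g⁻¹ = y * a * y⁻¹) ∧ rstab a ≤ (P : Subgroup G) := by
  have h1 : ∀ g : G, ∃ y ∈ P, g * a * g⁻¹ = y * a * y⁻¹ := by
    intro g
    obtain ⟨u, hu, v, hv, huv⟩ := Cfsg.Agent.Lib.Helper9.exists_mul_of_coprime_index
      (centralizer ({b} : Set G)) (centralizer ({a} : Set G)) hc.symm g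
    have hub : b * u = u * b := (Subgroup.mem_centralizer_iff.1 hu) b (Set.mem_singleton b)
    have hva : a * v = v * a := (Subgroup.mem_centralizer_iff.1 hv) a (Set.mem_singleton a)
    obtain ⟨y, hy, c, -, hcP, hucy⟩ := hdec u hub
    refine ⟨y, hy, ?_⟩
    have hyay : y * a * y⁻¹ ∈ P := P.mul_mem (P.mul_mem hy haP) (P.inv_mem hy)
    have e1 : v * a * v⁻¹ = a := by rw [← hva, mul_inv_cancel_right]
    have e2 : c * (y * a * y⁻¹) * c⁻¹ = y * a * y⁻¹ := by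
      rw [hcP _ hyay, mul_inv_cancel_right]
    calc g * a * g⁻¹ = u * (v * a * v⁻¹) * u⁻¹ := by rw [huv]; group
      _ = u * a * u⁻¹ := by rw [e1]
      _ = c * (y * a * y⁻¹) * c⁻¹ := by rw [hucy]; group
      _ = y * a * y⁻¹ := e2
  refine ⟨h1, ?_⟩
  intro n hn
  obtain ⟨k', hk'⟩ := hn.1 1
  obtain ⟨y, hy, hyk⟩ := h1 k'
  have e : n = a⁻¹ * (y * a * y⁻¹) := by
    rw [← hyk, ← hk']
    group
  rw [e]
  exact P.mul_mem (P.inv_mem haP) (P.mul_mem (P.mul_mem hy haP) (P.inv_mem hy))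

end Cfsg.Agent.Lib.Helper12.Ps
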