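import Cfsg.Agent.Lib.Helper12.PsDefs
import Cfsg.Agent.Lib.Helper49.CgCG8c
import Cfsg.Agent.Lib.Helper49.PsC

/-!
# Ps hive (S4321, helper12, route B), leaf psH1 (helper49): an element of `P` with class size
coprime to `cs b` is `P`-conjugate into `C_P(Q)`.
-/

set_option autoImplicit false

namespace Cfsg.Agent.Lib.Helper12.Ps

open Subgroup Cfsg.Agent.Lib.Helper22.Cg
open scoped Pointwise

universe u

/-- PSH1. covering: an element of `P` with `p ∣ cs g` is `P`-conjugate into `C_P(Q)`. -/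
theorem psH1 {G : Type u} [Group G] [Finite G] (p q : ℕ) [Fact p.Prime] [Fact q.Prime] (b : G)
    (P : Sylow p G) (Q : Sylow q G) (hq : q ∣ cs b)
    (hdec : ∀ w : G, b * w = w * b →
      ∃ y ∈ P, ∃ c : G, b * c = c * b ∧ (∀ y' ∈ P, c * y' = y' * c) ∧ w = c * y)
    (g : G) (hgP : g ∈ P) (hcop : (cs g).Coprime (cs b)) :
    ∃ y ∈ P, ∀ x ∈ Q, (y * g * y⁻¹) * x = x * (y * g * y⁻¹) := by
  have hq' : ¬ q ∣ cs g := by
    intro h
    have h1 : q ∣ Nat.gcd (cs g) (cs b) := Nat.dvd_gcd h hq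
    rw [Nat.Coprime.gcd_eq_one hcop] at h1
    exact (Fact.out : q.Prime).one_lt.ne' (Nat.dvd_one.1 h1)
  obtain ⟨Q', hQ'⟩ := cg8c q g hq'
  obtain ⟨k, hk⟩ := MulAction.exists_smul_eq G Q' Q
  obtain ⟨y, hy, hyk⟩ := (psC p g b P hgP hcop hdec).1 k
  refine ⟨y, hy, ?_⟩
  intro x hx
  rw [← hyk]
  have hx' : k⁻¹ * x * k ∈ Q' := by
    have h1 : x ∈ (k • Q' : Sylow q G) := by rw [hk]; exact hx
    have h2 : x ∈ (MulAut.conj k • (Q' : Subgroup G)) := h1
    rw [Subgroup.mem_pointwise_smul_iff_inv_smul_mem] at h2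
    simp only [MulAut.smul_def, MulAut.conj_inv_apply] at h2
    exact h2
  have h3 := hQ' _ hx'
  calc k * g * k⁻¹ * x = k * (g * (k⁻¹ * x * k)) * k⁻¹ := by group
    _ = k * ((k⁻¹ * x * k) * g) * k⁻¹ := by rw [h3]
    _ = x * (k * g * k⁻¹) := by group

end Cfsg.Agent.Lib.Helper12.Ps
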