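import Cfsg.Agent.Lib.Helper12.PsDefs
import Cfsg.Agent.Lib.Helper88.CgCG4

/-!
# Ps hive (S4321, helper12, route B), leaf psH3 (helper49): covering of `P` by the centre and the
conjugates of `F` forces `F ∪ Z(P) = P`.
-/

set_option autoImplicit false

namespace Cfsg.Agent.Lib.Helper12.Ps

open Subgroup Cfsg.Agent.Lib.Helper22.Cg
open scoped Pointwise

universe u

/-- PSH3. (cg4 in `↥P`) covering of `P` by the centre and the conjugates of `F`:
then `F ∪ Z(P) = P` already. -/
theorem psH3 {G : Type u} [Group G] [Finite G] (P F : Subgroup G) (hFP : F ≤ P)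
    (hcov : ∀ g ∈ P, (∀ y ∈ P, g * y = y * g) ∨ ∃ y ∈ P, y * g * y⁻¹ ∈ F) :
    ∀ g ∈ P, (∀ y ∈ P, g * y = y * g) ∨ g ∈ F := by
  -- inside the group `↥P`
  have hD : (F.subgroupOf P ⊔ Subgroup.center ↥P : Subgroup ↥P) = ⊤ := by
    apply cg4
    intro g
    rcases hcov g.1 g.2 with h | ⟨y, hy, hyF⟩
    · refine ⟨1, ?_⟩
      rw [one_mul, inv_one, mul_one]
      apply Subgroup.mem_sup_right
      rw [Subgroup.mem_center_iff]
      intro k
      apply Subtype.ext
      exact (h k.1 k.2).symm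
    · refine ⟨⟨y, hy⟩, ?_⟩
      apply Subgroup.mem_sup_left
      rw [Subgroup.mem_subgroupOf]
      exact hyF
  intro g hg
  rcases hcov g hg with h | ⟨y, hy, hyF⟩
  · exact Or.inl h
  · right
    have hy' : (⟨y, hy⟩ : ↥P) ∈ (F.subgroupOf P ⊔ Subgroup.center ↥P : Subgroup ↥P) := by
      rw [hD]; exact Subgroup.mem_top _
    have hy'' : (⟨y, hy⟩ : ↥P) ∈
        ((F.subgroupOf P : Set ↥P) * (Subgroup.center ↥P : Set ↥P)) := by
      rw [← Subgroup.mul_normal]
      exact hy'
    obtain ⟨f, hf, z, hz, hfz⟩ := Set.mem_mul.1 hy''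
    have hfF : (f : G) ∈ F := Subgroup.mem_subgroupOf.1 hf
    have hzc : (z : G) * g = g * (z : G) := by
      have := (Subgroup.mem_center_iff.1 hz) ⟨g, hg⟩
      have := congrArg Subtype.val this
      simpa using this.symm
    have hyfz : y = (f : G) * (z : G) := by
      have := congrArg Subtype.val hfz
      simpa using this.symm
    have e : g = (f : G)⁻¹ * (y * g * y⁻¹) * (f : G) := by
      rw [hyfz]
      have : (f : G) * (z : G) * g * ((f : G) * (z : G))⁻¹ = (f : G) * g * (f : G)⁻¹ := by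
        rw [mul_assoc (f : G), hzc]
        group
      rw [this]
      group
    rw [e]
    exact F.mul_mem (F.mul_mem (F.inv_mem hfF) hyF) hfF

end Cfsg.Agent.Lib.Helper12.Ps
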