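import Cfsg.Agent.Lib.Helper12.PsDefs
import Cfsg.Agent.Lib.Helper49.PsH1
import Cfsg.Agent.Lib.Helper49.PsH3
import Cfsg.Agent.Lib.Helper87.PsH2

/-!
# Ps hive (S4321, helper12, route B), leaf psH (helper49): the final contradiction.
-/

set_option autoImplicit false

namespace Cfsg.Agent.Lib.Helper12.Ps

open Subgroup Cfsg.Agent.Lib.Helper22.Cg

universe u

/-- if a subgroup `S` centralizes `g` then `cs g` divides the index of `S`. -/
theorem psh_cs_dvd_index {G : Type u} [Group G] (S : Subgroup G) (g : G)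
    (h : ∀ y ∈ S, g * y = y * g) : cs g ∣ S.index := by
  apply Subgroup.index_dvd_of_le
  intro y hy
  rw [Subgroup.mem_centralizer_iff]
  intro z hz
  rw [Set.mem_singleton_iff] at hz
  rw [hz]
  exact h y hy

/-- PSH. (psH1, psH2, psH3) the final contradiction. -/
theorem psH {G : Type u} [Group G] [Finite G] (p : ℕ) [Fact p.Prime] (a b : G) (P : Sylow p G)
    (haP : a ∈ P) (hbP : b ∈ P) (hPb : ∀ y ∈ P, b * y = y * b)
    (hPn : ∀ h : G, ∀ y ∈ P, h * y * h⁻¹ ∈ P)
    (hdec : ∀ w : G, b * w = w * b →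
      ∃ y ∈ P, ∃ c : G, b * c = c * b ∧ (∀ y' ∈ P, c * y' = y' * c) ∧ w = c * y)
    (hNL : ∀ z : G, p ∣ orderOf z → p ∣ cs z → (cs z).Coprime (cs b))
    (hpa : p ∣ cs a) (hb1 : 1 < cs b) (hpb : ¬ p ∣ cs b) : False := by
  have hp : p.Prime := Fact.out
  -- a prime `q ∣ cs b`
  obtain ⟨q, hqp, hqb⟩ := Nat.exists_prime_and_dvd (Nat.ne_of_gt hb1)
  have : Fact q.Prime := ⟨hqp⟩
  let Q : Sylow q G := Sylow.nonempty.some
  -- the subgroup `F = P ⊓ C(Q)`
  let F : Subgroup G := (P : Subgroup G) ⊓ centralizer ((Q : Subgroup G) : Set G)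
  have hFP : F ≤ (P : Subgroup G) := inf_le_left
  have hmemF : ∀ g : G, g ∈ F ↔ g ∈ P ∧ ∀ x ∈ Q, g * x = x * g := by
    intro g
    constructor
    · intro hg
      refine ⟨(Subgroup.mem_inf.1 hg).1, fun x hx => ?_⟩
      exact ((Subgroup.mem_centralizer_iff.1 (Subgroup.mem_inf.1 hg).2) x hx).symm
    · rintro ⟨h1, h2⟩
      refine Subgroup.mem_inf.2 ⟨h1, ?_⟩
      rw [Subgroup.mem_centralizer_iff]
      intro x hx
      exact (h2 x hx).symm
  -- the covering
  have hcov : ∀ g ∈ (P : Subgroup G), (∀ y ∈ (P : Subgroup G), g * y = y * g) ∨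
      ∃ y ∈ (P : Subgroup G), y * g * y⁻¹ ∈ F := by
    intro g hg
    by_cases hpg : p ∣ cs g
    · right
      have hg1 : g ≠ 1 := by
        rintro rfl
        have h1 : cs (1 : G) = 1 := by
          have : centralizer ({(1 : G)} : Set G) = ⊤ := by
            rw [eq_top_iff]
            intro y _
            rw [Subgroup.mem_centralizer_iff]
            intro z hz
            rw [Set.mem_singleton_iff] at hz
            rw [hz, one_mul, mul_one]
          show (centralizer ({(1 : G)} : Set G)).index = 1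
          rw [this, Subgroup.index_top]
        rw [h1] at hpg
        exact hp.one_lt.ne' (Nat.dvd_one.1 hpg)
      have hord : p ∣ orderOf g := by
        obtain ⟨k, hk⟩ := (IsPGroup.iff_orderOf.1 P.2) ⟨g, hg⟩
        have hk' : orderOf g = p ^ k := by
          rw [← hk]
          exact (Subgroup.orderOf_mk g hg).symm
        rw [hk']
        cases k with
        | zero =>
          exfalso
          rw [pow_zero, orderOf_eq_one_iff] at hk'
          exact hg1 hk'
        | succ k => exact dvd_pow_self p (Nat.succ_ne_zero k)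
      have hcop := hNL g hord hpg
      obtain ⟨y, hy, hyQ⟩ := psH1 p q b P Q hqb hdec g hg hcop
      refine ⟨y, hy, (hmemF _).2 ⟨?_, hyQ⟩⟩
      exact P.mul_mem (P.mul_mem hy hg) (P.inv_mem hy)
    · left
      exact psH2 p P hPn g hpg
  have hall := psH3 (P : Subgroup G) F hFP hcov
  -- `a` is not central in `P`
  have ha_nc : ¬ ∀ y ∈ (P : Subgroup G), a * y = y * a := by
    intro h
    exact P.not_dvd_index (dvd_trans hpa (psh_cs_dvd_index (P : Subgroup G) a h))
  have haF : a ∈ F := (hall a haP).resolve_left ha_nc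
  -- `a * b` is not central in `P`
  have hab_nc : ¬ ∀ y ∈ (P : Subgroup G), (a * b) * y = y * (a * b) := by
    intro h
    apply ha_nc
    intro y hy
    have h1 := h y hy
    have h2 := hPb y hy
    calc a * y = a * b * y * b⁻¹ := by rw [mul_assoc a b y, h2]; group
      _ = y * (a * b) * b⁻¹ := by rw [h1]
      _ = y * a := by group
  have habF : a * b ∈ F := (hall (a * b) (P.mul_mem haP hbP)).resolve_left hab_nc
  have hbF : b ∈ F := by
    have : b = a⁻¹ * (a * b) := by group
    rw [this]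
    exact F.mul_mem (F.inv_mem haF) habF
  -- so `Q ≤ C(b)` and `q ∤ cs b`
  have hbQ : ∀ x ∈ (Q : Subgroup G), b * x = x * b := ((hmemF b).1 hbF).2
  exact Q.not_dvd_index (dvd_trans hqb (psh_cs_dvd_index (Q : Subgroup G) b hbQ))

end Cfsg.Agent.Lib.Helper12.Ps
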