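import Mathlib
import Cfsg.Agent.Lib.Helper65.RU.Defs

set_option autoImplicit false

/-! Leaf RU-DET3 of helper65's S2522 project. -/

namespace Cfsg.Agent.Lib.Helper65.RU

open Module

variable {K : Type*} [Field K] {V : Type*} [AddCommGroup V] [Module K V]

theorem not_surjective_of_plane [FiniteDimensional K V] (h3 : finrank K V = 3) (g : V →ₗ[K] V)
    (hdet : LinearMap.det g = 1) (a t : V) (hli : LinearIndependent K ![a, t]) (c : K)
    (hga : g a = a + t) (hgt : g t = c • a + (1 + c) • t) :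
    ¬ Function.Surjective (g - 1 : V →ₗ[K] V) := by
  obtain ⟨w, hw⟩ := exists_linearIndependent_cons_of_lt_finrank hli (by rw [h3]; norm_num)
  let b : Basis (Fin 3) K V := basisOfLinearIndependentOfCardEqFinrank hw (by rw [h3]; simp)
  have hb : ⇑b = Fin.cons w ![a, t] := coe_basisOfLinearIndependentOfCardEqFinrank _ _
  have hb1 : b 1 = a := by rw [hb]; rfl
  have hb2 : b 2 = t := by rw [hb]; rfl
  have hg1 : g (b 1) = b 1 + b 2 := by rw [hb1, hb2, hga]
  have hg2 : g (b 2) = c • b 1 + (1 + c) • b 2 := by rw [hb1, hb2, hgt]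
  have e10 : b.repr (g (b 1)) 0 = 0 := by
    rw [hg1]; simp
  have e11 : b.repr (g (b 1)) 1 = 1 := by
    rw [hg1]; simp
  have e12 : b.repr (g (b 1)) 2 = 1 := by
    rw [hg1]; simp
  have e20 : b.repr (g (b 2)) 0 = 0 := by
    rw [hg2]; simp
  have e21 : b.repr (g (b 2)) 1 = c := by
    rw [hg2]; simp
  have e22 : b.repr (g (b 2)) 2 = 1 + c := by
    rw [hg2]; simp
  have hd := LinearMap.det_toMatrix b g
  rw [hdet, Matrix.det_fin_three] at hd
  simp only [LinearMap.toMatrix_apply, e10, e11, e12, e20, e21, e22] at hd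
  have h00 : b.repr (g (b 0)) 0 = 1 := by
    rw [← hd]; ring
  intro hsurj
  have hφ : (b.coord 0) ∘ₗ (g - 1 : V →ₗ[K] V) = 0 := by
    apply b.ext
    intro i
    fin_cases i
    · simp [h00]
    · simp [e10]
    · simp [e20]
  obtain ⟨v, hv⟩ := hsurj (b 0)
  have h1 := LinearMap.congr_fun hφ v
  rw [LinearMap.comp_apply, hv] at h1
  simp at h1
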