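import Cfsg.Prelude.Def_Balance
import Cfsg.Agent.Lib.Helper24.SylowInv

set_option autoImplicit false

/-!
Consequences of the transitivity theorem for solvable signalizer functors, stated with
transitivity as a hypothesis (`Trans`).
-/

namespace Cfsg.Agent.Lib.Helper49.SigTrans

open Subgroup

variable {G : Type*} [Group G]

/-- `Q` is maximal among the `q`-subgroups in the family of `θ`. -/
def IsMaxQ (p : ℕ) (A : Subgroup G) (θ : G → Subgroup G) (q : ℕ) (Q : Subgroup G) : Prop :=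
  Q ∈ Cfsg.signalizerFamily p A θ ∧ IsPGroup q ↥Q ∧
    ∀ R ∈ Cfsg.signalizerFamily p A θ, IsPGroup q ↥R → Q ≤ R → R = Q

/-- The conclusion of the transitivity theorem, as a hypothesis. -/
def Trans (p : ℕ) (A : Subgroup G) (θ : G → Subgroup G) (q : ℕ) : Prop :=
  ∀ Q₁ Q₂ : Subgroup G, IsMaxQ p A θ q Q₁ → IsMaxQ p A θ q Q₂ →
    ∃ c ∈ Cfsg.signalizerInf A θ, Q₁.map (MulAut.conj c).toMonoidHom = Q₂

theorem mem_signalizerInf {B : Subgroup G} {θ : G → Subgroup G} {x : G} :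
    x ∈ Cfsg.signalizerInf B θ ↔ ∀ b ∈ B, b ≠ 1 → x ∈ θ b := by
  unfold Cfsg.signalizerInf
  rw [Subgroup.mem_iInf]
  constructor
  · intro h b hb hb1
    exact h ⟨b, hb, hb1⟩
  · intro h b
    exact h b.1 b.2.1 b.2.2

theorem signalizerInf_mono {A B : Subgroup G} (θ : G → Subgroup G) (hBA : B ≤ A) :
    Cfsg.signalizerInf A θ ≤ Cfsg.signalizerInf B θ := by
  intro x hx
  rw [mem_signalizerInf] at hx ⊢
  intro b hb hb1
  exact hx b (hBA hb) hb1

theorem le_normalizer_of_inv {A U : Subgroup G} (h : ∀ b ∈ A, ∀ u ∈ U, b * u * b⁻¹ ∈ U) :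
    A ≤ normalizer (U : Set G) := by
  intro b hb
  rw [Subgroup.mem_normalizer_iff]
  intro u
  constructor
  · intro hu
    exact h b hb u hu
  · intro hu
    have := h b⁻¹ (A.inv_mem hb) _ hu
    simpa [mul_assoc] using this

theorem inv_of_le_normalizer {A U : Subgroup G} (h : A ≤ normalizer (U : Set G)) :
    ∀ b ∈ A, ∀ u ∈ U, b * u * b⁻¹ ∈ U := by
  intro b hb u hu
  exact (Subgroup.mem_normalizer_iff.mp (h hb) u).mp hu

theorem mem_family_of_le {p : ℕ} {A : Subgroup G} {θ : G → Subgroup G} {H U : Subgroup G}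
    (hH : H ∈ Cfsg.signalizerFamily p A θ) (hUH : U ≤ H)
    (hinv : ∀ b ∈ A, ∀ u ∈ U, b * u * b⁻¹ ∈ U) : U ∈ Cfsg.signalizerFamily p A θ := by
  obtain ⟨hsol, hp, _, hbal⟩ := hH
  refine ⟨?_, ?_, hinv, ?_⟩
  · have := hsol
    exact Group.isSolvable_of_isSolvable_injective (Subgroup.inclusion_injective hUH)
  · intro hdvd
    exact hp (dvd_trans hdvd (Subgroup.card_dvd_of_le hUH))
  · intro a ha ha1
    exact le_trans (inf_le_inf_right _ hUH) (hbal a ha ha1)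

theorem theta_mem_family {p : ℕ} {A : Subgroup G} {θ : G → Subgroup G}
    (hθ : Cfsg.IsSolvableSignalizerFunctor p A θ) {a : G} (ha : a ∈ A) (ha1 : a ≠ 1) :
    θ a ∈ Cfsg.signalizerFamily p A θ := by
  obtain ⟨⟨_, hp, hinv, hbal⟩, hsol⟩ := hθ
  exact ⟨hsol a ha ha1, hp a ha ha1, hinv a ha ha1, fun b hb hb1 => hbal a ha ha1 b hb hb1⟩

theorem map_conj_eq_self {T : Subgroup G} {c : G} (hc : c ∈ T) :
    T.map (MulAut.conj c).toMonoidHom = T := by
  ext x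
  rw [Subgroup.mem_map]
  constructor
  · rintro ⟨y, hy, rfl⟩
    simp only [MulEquiv.coe_toMonoidHom, MulAut.conj_apply]
    exact T.mul_mem (T.mul_mem hc hy) (T.inv_mem hc)
  · intro hx
    refine ⟨c⁻¹ * x * c, T.mul_mem (T.mul_mem (T.inv_mem hc) hx) hc, ?_⟩
    simp only [MulEquiv.coe_toMonoidHom, MulAut.conj_apply]
    group

variable [Finite G]

theorem exists_max_ge {p : ℕ} {A : Subgroup G} {θ : G → Subgroup G} {q : ℕ} {U : Subgroup G}
    (hU : U ∈ Cfsg.signalizerFamily p A θ) (hUq : IsPGroup q ↥U) :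
    ∃ Q, IsMaxQ p A θ q Q ∧ U ≤ Q := by
  obtain ⟨Q, hUQ, hQ⟩ := Set.Finite.exists_le_maximal
    (s := {R : Subgroup G | R ∈ Cfsg.signalizerFamily p A θ ∧ IsPGroup q ↥R})
    (Set.toFinite _) (a := U) ⟨hU, hUq⟩
  refine ⟨Q, ⟨hQ.1.1, hQ.1.2, ?_⟩, hUQ⟩
  intro R hR hRq hQR
  exact le_antisymm (hQ.2 ⟨hR, hRq⟩ hQR) hQR

theorem coprime_card {p : ℕ} [Fact p.Prime] {A H : Subgroup G}
    (hA : Cfsg.IsElementaryAbelian p A) (hH : ¬ p ∣ Nat.card ↥H) :
    (Nat.card ↥A).Coprime (Nat.card ↥H) := by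
  have hAp : IsPGroup p ↥A := by
    intro g
    refine ⟨1, ?_⟩
    have := hA.2 g.1 g.2
    rw [pow_one]
    exact Subtype.ext (by simpa using this)
  obtain ⟨n, hn⟩ := hAp.exists_card_eq
  rw [hn]
  exact Nat.Coprime.pow_left _ ((Nat.Prime.coprime_iff_not_dvd (Fact.out)).mpr hH)

/-- Part (a): every member of the family meets some `θ(C(A))`-conjugate of `Q` in a Sylow
`q`-subgroup. -/
theorem part_a {p : ℕ} [Fact p.Prime] {A : Subgroup G} (hA : Cfsg.IsElementaryAbelian p A)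
    {θ : G → Subgroup G} {q : ℕ} [Fact q.Prime] (htr : Trans p A θ q)
    {Q : Subgroup G} (hQ : IsMaxQ p A θ q Q) {H : Subgroup G}
    (hH : H ∈ Cfsg.signalizerFamily p A θ) :
    ∃ c ∈ Cfsg.signalizerInf A θ, ∃ S : Sylow q ↥H,
      (S : Subgroup ↥H).map H.subtype = Q.map (MulAut.conj c).toMonoidHom ⊓ H := by
  have hAH : A ≤ normalizer (H : Set G) := le_normalizer_of_inv hH.2.2.1
  obtain ⟨S, hS⟩ := Cfsg.Agent.Lib.Helper24.exists_invariant_sylow (p := q) A H hAH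
    (coprime_card hA hH.2.1) (Or.inr hH.1)
  have hS'H : (S : Subgroup ↥H).map H.subtype ≤ H := Subgroup.map_subtype_le _
  have hS'fam : (S : Subgroup ↥H).map H.subtype ∈ Cfsg.signalizerFamily p A θ :=
    mem_family_of_le hH hS'H (inv_of_le_normalizer hS)
  have hS'q : IsPGroup q ↥((S : Subgroup ↥H).map H.subtype) := S.2.map _
  obtain ⟨Q', hQ', hSQ'⟩ := exists_max_ge hS'fam hS'q
  obtain ⟨c, hc, hcQ⟩ := htr Q Q' hQ hQ'
  refine ⟨c, hc, S, ?_⟩
  rw [hcQ]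
  have hq' : IsPGroup q ↥((Q' ⊓ H).subgroupOf H) :=
    (hQ'.2.1.to_le inf_le_left).comap_subtype
  have hle : (S : Subgroup ↥H) ≤ (Q' ⊓ H).subgroupOf H := by
    intro x hx
    rw [Subgroup.mem_subgroupOf]
    exact ⟨hSQ' (Subgroup.mem_map_of_mem _ hx), x.2⟩
  have heq := S.is_maximal' hq' hle
  rw [← heq, Subgroup.subgroupOf_map_subtype, inf_assoc, inf_idem]

/-- Part (b): `C_Q(B)` is a Sylow `q`-subgroup of `θ(C(B))`. -/
theorem part_b {p : ℕ} [Fact p.Prime] {A : Subgroup G} (hA : Cfsg.IsElementaryAbelian p A)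
    {θ : G → Subgroup G} (hθ : Cfsg.IsSolvableSignalizerFunctor p A θ)
    {q : ℕ} [Fact q.Prime] (htr : Trans p A θ q)
    {Q : Subgroup G} (hQ : IsMaxQ p A θ q Q) {B : Subgroup G} (hBA : B ≤ A) (hB : B ≠ ⊥) :
    ∃ S : Sylow q ↥(Cfsg.signalizerInf B θ),
      (S : Subgroup ↥(Cfsg.signalizerInf B θ)).map (Cfsg.signalizerInf B θ).subtype =
        Q ⊓ Subgroup.centralizer (B : Set G) := by
  obtain ⟨⟨b₀, hb₀⟩, hb₀1⟩ := Subgroup.ne_bot_iff_exists_ne_one.mp hB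
  have hb₀1' : b₀ ≠ 1 := fun h => hb₀1 (Subtype.ext h)
  set T := Cfsg.signalizerInf B θ with hT
  have hTle : T ≤ θ b₀ := fun x hx => mem_signalizerInf.mp hx b₀ hb₀ hb₀1'
  obtain ⟨⟨hcen, hp, hinv, hbal⟩, hsol⟩ := hθ
  have hTfam : T ∈ Cfsg.signalizerFamily p A θ := by
    refine ⟨?_, ?_, ?_, ?_⟩
    · have := hsol b₀ (hBA hb₀) hb₀1'
      exact Group.isSolvable_of_isSolvable_injective (Subgroup.inclusion_injective hTle)
    · intro hdvd
      exact hp b₀ (hBA hb₀) hb₀1' (dvd_trans hdvd (Subgroup.card_dvd_of_le hTle))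
    · intro b hb u hu
      rw [hT, mem_signalizerInf] at hu ⊢
      intro b' hb' hb'1
      exact hinv b' (hBA hb') hb'1 b hb u (hu b' hb' hb'1)
    · intro a ha ha1
      exact le_trans (inf_le_inf_right _ hTle) (hbal b₀ (hBA hb₀) hb₀1' a ha ha1)
  obtain ⟨c, hc, S₀, hS₀⟩ := part_a hA htr hQ hTfam
  have hcT : c ∈ T := signalizerInf_mono θ hBA hc
  -- `Q ⊓ T` is a Sylow `q`-subgroup of `T`
  have hmap : (Q ⊓ T).map (MulAut.conj c).toMonoidHom =
      Q.map (MulAut.conj c).toMonoidHom ⊓ T := by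
    rw [Subgroup.map_inf _ _ _ (MulAut.conj c).injective, map_conj_eq_self hcT]
  have hcard : Nat.card ↥(Q ⊓ T) = Nat.card ↥(S₀ : Subgroup ↥T) := by
    have h1 : Nat.card ↥((Q ⊓ T).map (MulAut.conj c).toMonoidHom) = Nat.card ↥(Q ⊓ T) :=
      Subgroup.card_map_of_injective (MulAut.conj c).injective
    rw [← h1, hmap, ← hS₀, Subgroup.card_map_of_injective T.subtype_injective]
  have hcard2 : Nat.card ↥((Q ⊓ T).subgroupOf T) =
      q ^ (Nat.card ↥T).factorization q := by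
    rw [Nat.card_congr (Subgroup.subgroupOfEquivOfLe (inf_le_right : Q ⊓ T ≤ T)).toEquiv,
      hcard, S₀.card_eq_multiplicity]
  refine ⟨Sylow.ofCard ((Q ⊓ T).subgroupOf T) hcard2, ?_⟩
  rw [Sylow.coe_ofCard, Subgroup.subgroupOf_map_subtype, inf_assoc, inf_idem]
  -- `Q ⊓ T = Q ⊓ C(B)`
  apply le_antisymm
  · intro x hx
    rw [Subgroup.mem_inf] at hx ⊢
    obtain ⟨hxQ, hxT⟩ := hx
    refine ⟨hxQ, ?_⟩
    rw [Subgroup.mem_centralizer_iff]
    intro b hb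
    by_cases hb1 : b = 1
    · rw [hb1]; simp
    · have hx : x ∈ θ b := mem_signalizerInf.mp hxT b hb hb1
      have := hcen b (hBA hb) hb1 hx
      rw [Subgroup.mem_centralizer_iff] at this
      exact this b (Set.mem_singleton b)
  · intro x hx
    rw [Subgroup.mem_inf] at hx ⊢
    obtain ⟨hxQ, hxC⟩ := hx
    refine ⟨hxQ, ?_⟩
    rw [hT, mem_signalizerInf]
    intro b hb hb1
    apply hQ.1.2.2.2 b (hBA hb) hb1
    rw [Subgroup.mem_inf]
    refine ⟨hxQ, ?_⟩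
    rw [Subgroup.mem_centralizer_iff]
    intro y hy
    rw [Set.mem_singleton_iff] at hy
    rw [hy]
    rw [Subgroup.mem_centralizer_iff] at hxC
    exact hxC b hb

/-- If every `θ a` is a `q`-group then (given transitivity) `θ` is complete. -/
theorem complete_of_trans {p : ℕ} [Fact p.Prime] {A : Subgroup G}
    {θ : G → Subgroup G} (hθ : Cfsg.IsSolvableSignalizerFunctor p A θ)
    {q : ℕ} [Fact q.Prime]
    (htr : (∃ a ∈ A, a ≠ 1 ∧ q ∣ Nat.card ↥(θ a)) → Trans p A θ q)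
    (hq : ∀ a ∈ A, a ≠ 1 → IsPGroup q ↥(θ a)) :
    Cfsg.IsCompleteSignalizerFunctor p A θ := by
  refine ⟨hθ.1, ?_⟩
  by_cases hex : ∃ a ∈ A, a ≠ 1 ∧ q ∣ Nat.card ↥(θ a)
  · obtain ⟨a₀, ha₀, ha₀1, _⟩ := hex
    have htr' := htr ⟨a₀, ha₀, ha₀1, ‹_›⟩
    obtain ⟨Q, hQ, _⟩ := exists_max_ge (theta_mem_family hθ ha₀ ha₀1) (hq a₀ ha₀ ha₀1)
    refine ⟨Q, hQ.1.2.2.1, hQ.1.2.1, ?_⟩
    intro a ha ha1
    apply le_antisymm (hQ.1.2.2.2 a ha ha1)
    obtain ⟨Q', hQ', hle⟩ := exists_max_ge (theta_mem_family hθ ha ha1) (hq a ha ha1)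
    obtain ⟨c, hc, hcQ⟩ := htr' Q Q' hQ hQ'
    have hca : c ∈ θ a := mem_signalizerInf.mp hc a ha ha1
    intro x hx
    refine ⟨?_, hθ.1.1 a ha ha1 hx⟩
    have hx' : c * x * c⁻¹ ∈ θ a := (θ a).mul_mem ((θ a).mul_mem hca hx) ((θ a).inv_mem hca)
    have := hle hx'
    rw [← hcQ, Subgroup.mem_map] at this
    obtain ⟨y, hy, hyx⟩ := this
    simp only [MulEquiv.coe_toMonoidHom, MulAut.conj_apply] at hyx
    have : y = x := by
      have := mul_left_cancel (mul_right_cancel hyx)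
      exact this
    rw [SetLike.mem_coe, ← this]
    exact hy
  · refine ⟨⊥, ?_, ?_, ?_⟩
    · intro b _ x hx
      rw [Subgroup.mem_bot] at hx ⊢
      rw [hx]; simp
    · rw [Subgroup.card_bot]
      exact (Fact.out : p.Prime).one_lt.ne' ∘ Nat.dvd_one.mp
    · intro a ha ha1
      rw [bot_inf_eq]
      symm
      obtain ⟨n, hn⟩ := (hq a ha ha1).exists_card_eq
      apply Subgroup.eq_bot_of_card_eq
      rcases Nat.eq_zero_or_pos n with h0 | hpos
      · rw [hn, h0, pow_zero]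
      · exfalso
        apply hex
        refine ⟨a, ha, ha1, ?_⟩
        rw [hn]
        exact dvd_pow_self q hpos.ne'

end Cfsg.Agent.Lib.Helper49.SigTrans
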