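import Mathlib.GroupTheory.Sylow
import Mathlib.GroupTheory.Index
import Mathlib.GroupTheory.Nilpotent
import Mathlib.Logic.Relation
import Mathlib.Order.Preorder.Finite
import Cfsg.Prelude.Def_SylowChains
import Cfsg.Agent.Lib.Helper49.SylowControl
import Cfsg.Agent.Lib.Helper49.FunctorRegular

set_option autoImplicit false

namespace Cfsg.Agent.Lib.Helper49

open Cfsg

section Basic

variable {G : Type*} [Group G] [Finite G] {p : ℕ} [Fact p.Prime]

/-- every `p`-subgroup `B` of `L` lies in a Sylow subgroup `Q` of `G` meeting `L` in a Sylow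
subgroup of `L`. -/
theorem exists_sylow_enlarge (L B : Subgroup G) (hBL : B ≤ L) (hB : IsPGroup p ↥B) :
    ∃ Q : Sylow p G, B ≤ (Q : Subgroup G) ∧ IsSylowIn p ((Q : Subgroup G) ⊓ L) L := by
  obtain ⟨P, hP⟩ := (hB.comap_subtype (K := L)).exists_le_sylow
  obtain ⟨Q, hQ⟩ := (P.isPGroup'.map L.subtype).exists_le_sylow
  refine ⟨Q, ?_, ?_⟩
  · intro b hb
    exact hQ ⟨⟨b, hBL hb⟩, hP (Subgroup.mem_subgroupOf.mpr hb), rfl⟩
  · have h1 : ((Q : Subgroup G) ⊓ L).subgroupOf L = (P : Subgroup ↥L) := by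
      apply P.is_maximal' ((Q.isPGroup'.to_le inf_le_left).comap_subtype)
      intro y hy
      show y ∈ ((Q : Subgroup G) ⊓ L).subgroupOf L
      rw [Subgroup.mem_subgroupOf]
      exact ⟨hQ ⟨y, hy, rfl⟩, y.2⟩
    rw [← isSylowIn_iff]
    refine ⟨P, ?_⟩
    rw [← h1, Subgroup.subgroupOf_map_subtype, inf_of_le_left inf_le_right]

/-- normalizers grow in `p`-groups -/
theorem card_lt_card_inf_normalizer (S : Sylow p G) (B : Subgroup G) (hBS : B ≤ (S : Subgroup G))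
    (hne : B ≠ (S : Subgroup G)) :
    Nat.card ↥B < Nat.card ↥((S : Subgroup G) ⊓ Subgroup.normalizer (B : Set G)) := by
  have : Group.IsNilpotent ↥(S : Subgroup G) := S.isPGroup'.isNilpotent
  set H : Subgroup ↥(S : Subgroup G) := B.subgroupOf S with hH
  have hHtop : H < ⊤ := by
    rw [lt_top_iff_ne_top]
    intro h
    apply hne
    apply le_antisymm hBS
    intro s hs
    have : (⟨s, hs⟩ : ↥(S : Subgroup G)) ∈ H := h ▸ Subgroup.mem_top _
    exact Subgroup.mem_subgroupOf.mp this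
  have hlt := Group.normalizerCondition_of_isNilpotent H hHtop
  have hcardH : Nat.card ↥H = Nat.card ↥B :=
    Nat.card_congr (Subgroup.subgroupOfEquivOfLe hBS).toEquiv
  have h1 : Nat.card ↥H < Nat.card ↥(Subgroup.normalizer (H : Set ↥(S : Subgroup G))) := by
    by_contra hcon
    push Not at hcon
    exact hlt.ne (Subgroup.eq_of_le_of_card_ge hlt.le hcon)
  have h2 : (Subgroup.normalizer (H : Set ↥(S : Subgroup G))).map (S : Subgroup G).subtype ≤
      (S : Subgroup G) ⊓ Subgroup.normalizer (B : Set G) := by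
    rintro _ ⟨s, hs, rfl⟩
    refine ⟨s.2, ?_⟩
    replace hs : s ∈ Subgroup.normalizer (H : Set ↥(S : Subgroup G)) := hs
    show (s : G) ∈ Subgroup.normalizer (B : Set G)
    rw [Subgroup.mem_normalizer_iff] at hs ⊢
    intro b
    constructor
    · intro hb
      have := (hs ⟨b, hBS hb⟩).mp (Subgroup.mem_subgroupOf.mpr hb)
      exact Subgroup.mem_subgroupOf.mp this
    · intro hb
      have hbS : b ∈ (S : Subgroup G) := by
        have h3 : b = (s : G)⁻¹ * ((s : G) * b * (s : G)⁻¹) * (s : G) := by group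
        rw [h3]
        exact (S : Subgroup G).mul_mem ((S : Subgroup G).mul_mem ((S : Subgroup G).inv_mem s.2)
          (hBS hb)) s.2
      have := (hs ⟨b, hbS⟩).mpr (Subgroup.mem_subgroupOf.mpr hb)
      exact Subgroup.mem_subgroupOf.mp this
  calc Nat.card ↥B = Nat.card ↥H := hcardH.symm
    _ < Nat.card ↥(Subgroup.normalizer (H : Set ↥(S : Subgroup G))) := h1
    _ = Nat.card ↥((Subgroup.normalizer (H : Set ↥(S : Subgroup G))).map (S : Subgroup G).subtype) :=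
        (Subgroup.card_map_of_injective (Subgroup.subtype_injective _)).symm
    _ ≤ _ := Subgroup.card_le_of_le h2

/-- every `p`-local subgroup lies in a maximal one -/
theorem exists_maximal_pLocal (L : Subgroup G) (hL : IsPLocal p L) :
    ∃ M, IsMaximalPLocal p M ∧ L ≤ M := by
  obtain ⟨M, hLM, hM⟩ := Finite.exists_le_maximal (p := fun N : Subgroup G => IsPLocal p N) hL
  exact ⟨M, ⟨hM.1, fun N hN hMN => le_antisymm (hM.2 hN hMN) hMN⟩, hLM⟩

end Basic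

section Chains

variable {G : Type*} [Group G]

/-- one step of a chain for the family `𝓗` -/
def StepH (p : ℕ) (𝓗 : Set (Subgroup G)) (D : Subgroup G) (Q T : Sylow p G) : Prop :=
  ∃ (X : Subgroup G) (x : G), X ∈ sylowMembers p 𝓗 (Q : Subgroup G) ∧
    X ∈ sylowMembers p 𝓗 (T : Subgroup G) ∧ x ∈ X ∧
    subgroupConjRight x (T : Subgroup G) = (Q : Subgroup G) ∧ D ≤ (T : Subgroup G) ⊓ X

/-- chains for the family `𝓗` all of whose members contain `D` -/
def Link (p : ℕ) (𝓗 : Set (Subgroup G)) (D : Subgroup G) (Q T : Sylow p G) : Prop :=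
  Relation.ReflTransGen (StepH p 𝓗 D) Q T

theorem Link.refl {p : ℕ} {𝓗 : Set (Subgroup G)} {D : Subgroup G} (Q : Sylow p G) :
    Link p 𝓗 D Q Q := Relation.ReflTransGen.refl

theorem Link.trans {p : ℕ} {𝓗 : Set (Subgroup G)} {D : Subgroup G} {Q R T : Sylow p G}
    (h1 : Link p 𝓗 D Q R) (h2 : Link p 𝓗 D R T) : Link p 𝓗 D Q T :=
  Relation.ReflTransGen.trans h1 h2

theorem Link.single {p : ℕ} {𝓗 : Set (Subgroup G)} {D : Subgroup G} {Q T : Sylow p G}
    (h : StepH p 𝓗 D Q T) : Link p 𝓗 D Q T := Relation.ReflTransGen.single h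

theorem Link.mono {p : ℕ} {𝓗 : Set (Subgroup G)} {D D' : Subgroup G} (hD : D' ≤ D)
    {Q T : Sylow p G} (h : Link p 𝓗 D Q T) : Link p 𝓗 D' Q T :=
  Relation.ReflTransGen.mono (fun _ _ ⟨X, x, h1, h2, h3, h4, h5⟩ =>
    ⟨X, x, h1, h2, h3, h4, le_trans hD h5⟩) _ _ h

/-- the inner induction statement -/
def Psi (p : ℕ) (𝓗 : Set (Subgroup G)) (D : Subgroup G) (d : ℕ) (L : Subgroup G) : Prop :=
  ∀ (Q₁ Q₂ : Sylow p G) (B₁ B₂ : Subgroup G), B₁ ≤ (Q₁ : Subgroup G) ⊓ L →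
    B₂ ≤ (Q₂ : Subgroup G) ⊓ L → d < Nat.card ↥B₁ → d < Nat.card ↥B₂ → D ≤ B₁ ⊓ B₂ →
    Link p 𝓗 D Q₁ Q₂

theorem Psi.mono {p : ℕ} {𝓗 : Set (Subgroup G)} {D : Subgroup G} {d : ℕ} {L M : Subgroup G}
    (hLM : L ≤ M) (h : Psi p 𝓗 D d M) : Psi p 𝓗 D d L :=
  fun Q₁ Q₂ B₁ B₂ h1 h2 h3 h4 h5 =>
    h Q₁ Q₂ B₁ B₂ (le_trans h1 (inf_le_inf_left _ hLM)) (le_trans h2 (inf_le_inf_left _ hLM)) h3 h4 h5

theorem mem_of_map_subtype_eq {L : Subgroup G} {P : Subgroup ↥L} {K : Subgroup G}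
    (h : P.map L.subtype = K) (w : ↥L) : w ∈ P ↔ (w : G) ∈ K := by
  constructor
  · intro hw; rw [← h]; exact ⟨w, hw, rfl⟩
  · intro hw
    rw [← h] at hw
    obtain ⟨w', hw', e⟩ := hw
    have : w' = w := Subtype.ext e
    rw [← this]; exact hw'

variable [Finite G] {p : ℕ} [Fact p.Prime] {𝓗 : Set (Subgroup G)} {D : Subgroup G} {d : ℕ}

theorem link_of_common
    (hΦ : ∀ Q₁ Q₂ : Sylow p G, d < Nat.card ↥((Q₁ : Subgroup G) ⊓ (Q₂ : Subgroup G)) →
      D ≤ (Q₁ : Subgroup G) ⊓ (Q₂ : Subgroup G) → Link p 𝓗 D Q₁ Q₂)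
    (Q₁ Q₂ : Sylow p G) (B : Subgroup G) (hB₁ : B ≤ (Q₁ : Subgroup G)) (hB₂ : B ≤ (Q₂ : Subgroup G))
    (hd : d < Nat.card ↥B) (hDB : D ≤ B) : Link p 𝓗 D Q₁ Q₂ :=
  hΦ Q₁ Q₂ (lt_of_lt_of_le hd (Subgroup.card_le_of_le (le_inf hB₁ hB₂)))
    (le_trans hDB (le_inf hB₁ hB₂))

theorem psi_of_mem
    (hΦ : ∀ Q₁ Q₂ : Sylow p G, d < Nat.card ↥((Q₁ : Subgroup G) ⊓ (Q₂ : Subgroup G)) →
      D ≤ (Q₁ : Subgroup G) ⊓ (Q₂ : Subgroup G) → Link p 𝓗 D Q₁ Q₂)
    (L : Subgroup G) (hL : L ∈ 𝓗) : Psi p 𝓗 D d L := by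
  intro Q₁ Q₂ B₁ B₂ hB₁ hB₂ hd₁ hd₂ hDB
  have hB₁p : IsPGroup p ↥B₁ := Q₁.isPGroup'.to_le (le_trans hB₁ inf_le_left)
  have hB₂p : IsPGroup p ↥B₂ := Q₂.isPGroup'.to_le (le_trans hB₂ inf_le_left)
  obtain ⟨R₁, hBR₁, hS₁⟩ := exists_sylow_enlarge L B₁ (le_trans hB₁ inf_le_right) hB₁p
  obtain ⟨R₂, hBR₂, hS₂⟩ := exists_sylow_enlarge L B₂ (le_trans hB₂ inf_le_right) hB₂p
  have l1 : Link p 𝓗 D Q₁ R₁ :=
    link_of_common hΦ Q₁ R₁ B₁ (le_trans hB₁ inf_le_left) hBR₁ hd₁ (le_trans hDB inf_le_left)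
  have l4 : Link p 𝓗 D R₂ Q₂ :=
    link_of_common hΦ R₂ Q₂ B₂ hBR₂ (le_trans hB₂ inf_le_left) hd₂ (le_trans hDB inf_le_right)
  obtain ⟨P₁, hP₁⟩ := (isSylowIn_iff _ L).mpr hS₁
  obtain ⟨P₂, hP₂⟩ := (isSylowIn_iff _ L).mpr hS₂
  obtain ⟨y, hy⟩ := MulAction.exists_smul_eq ↥L P₂ P₁
  have hQ'' : ((((y : G) • R₂ : Sylow p G) : Subgroup G)) ⊓ L = (R₁ : Subgroup G) ⊓ L := by
    ext z
    rw [Subgroup.mem_inf, Subgroup.mem_inf, mem_smul_sylow_iff]
    constructor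
    · rintro ⟨hz1, hz2⟩
      have h1 : (y⁻¹ * ⟨z, hz2⟩ * y : ↥L) ∈ (P₂ : Subgroup ↥L) := by
        rw [mem_of_map_subtype_eq hP₂]
        exact ⟨hz1, (y⁻¹ * ⟨z, hz2⟩ * y : ↥L).2⟩
      rw [← mem_smul_sylow_iff, hy, mem_of_map_subtype_eq hP₁] at h1
      exact h1
    · rintro ⟨hz1, hz2⟩
      have h1 : (⟨z, hz2⟩ : ↥L) ∈ (P₁ : Subgroup ↥L) := by
        rw [mem_of_map_subtype_eq hP₁]
        exact ⟨hz1, hz2⟩
      rw [← hy, mem_smul_sylow_iff, mem_of_map_subtype_eq hP₂] at h1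
      exact ⟨h1.1, hz2⟩
  have hB₁'' : B₁ ≤ (((y : G) • R₂ : Sylow p G) : Subgroup G) := by
    have h1 : B₁ ≤ (R₁ : Subgroup G) ⊓ L := le_inf hBR₁ (le_trans hB₁ inf_le_right)
    rw [← hQ''] at h1
    exact le_trans h1 inf_le_left
  have l2 : Link p 𝓗 D R₁ ((y : G) • R₂) :=
    link_of_common hΦ R₁ _ B₁ hBR₁ hB₁'' hd₁ (le_trans hDB inf_le_left)
  have l3 : StepH p 𝓗 D ((y : G) • R₂) R₂ := by
    refine ⟨L, (y : G)⁻¹, ?_, ?_, L.inv_mem y.2, ?_, ?_⟩
    · rw [mem_sylowMembers_iff, hQ'']; exact ⟨hL, hS₁⟩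
    · rw [mem_sylowMembers_iff]; exact ⟨hL, hS₂⟩
    · rw [conjRight_sylow, inv_inv]
    · exact le_inf (le_trans (le_trans hDB inf_le_right) hBR₂)
        (le_trans (le_trans hDB inf_le_right) (le_trans hB₂ inf_le_right))
  exact l1.trans (l2.trans ((Link.single l3).trans l4))

/-- a Sylow subgroup of `G` containing a given Sylow subgroup of `M` -/
noncomputable def upSylow {M : Subgroup G} (R : Sylow p ↥M) : Sylow p G :=
  Classical.choose (R.isPGroup'.map M.subtype).exists_le_sylow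

theorem le_upSylow {M : Subgroup G} (R : Sylow p ↥M) :
    (R : Subgroup ↥M).map M.subtype ≤ (upSylow R : Subgroup G) :=
  Classical.choose_spec (R.isPGroup'.map M.subtype).exists_le_sylow

theorem psi_regular {f : Subgroup G → Set (Subgroup G)} (hf : IsNormalizerFunctor p f)
    (hD : D ≠ ⊥)
    (hΦ : ∀ Q₁ Q₂ : Sylow p G, d < Nat.card ↥((Q₁ : Subgroup G) ⊓ (Q₂ : Subgroup G)) →
      D ≤ (Q₁ : Subgroup G) ⊓ (Q₂ : Subgroup G) → Link p 𝓗 D Q₁ Q₂)
    (M : Subgroup G) (hreg : IsFunctorRegular p f M)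
    (hL : ∀ (P : Sylow p ↥M) (F : Subgroup G), F ∈ f ((P : Subgroup ↥M).map M.subtype) →
      Psi p 𝓗 D d (Subgroup.normalizer (F : Set G))) : Psi p 𝓗 D d M := by
  intro Q₁ Q₂ B₁ B₂ hB₁ hB₂ hd₁ hd₂ hDB
  have hB₁p : IsPGroup p ↥B₁ := Q₁.isPGroup'.to_le (le_trans hB₁ inf_le_left)
  have hB₂p : IsPGroup p ↥B₂ := Q₂.isPGroup'.to_le (le_trans hB₂ inf_le_left)
  have hB₁M : B₁ ≤ M := le_trans hB₁ inf_le_right
  have hB₂M : B₂ ≤ M := le_trans hB₂ inf_le_right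
  have hDM : D ≤ M := le_trans (le_trans hDB inf_le_left) hB₁M
  obtain ⟨R₁, hR₁⟩ := (hB₁p.comap_subtype (K := M)).exists_le_sylow
  obtain ⟨R₂, hR₂⟩ := (hB₂p.comap_subtype (K := M)).exists_le_sylow
  have hB₁R : B₁ ≤ (R₁ : Subgroup ↥M).map M.subtype := fun b hb =>
    ⟨⟨b, hB₁M hb⟩, hR₁ (Subgroup.mem_subgroupOf.mpr hb), rfl⟩
  have hB₂R : B₂ ≤ (R₂ : Subgroup ↥M).map M.subtype := fun b hb =>
    ⟨⟨b, hB₂M hb⟩, hR₂ (Subgroup.mem_subgroupOf.mpr hb), rfl⟩
  have hcardR : ∀ R : Sylow p ↥M, d < Nat.card ↥((R : Subgroup ↥M).map M.subtype) := by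
    intro R
    rw [Subgroup.card_map_of_injective M.subtype_injective]
    have h1 : Nat.card ↥(R : Subgroup ↥M) = Nat.card ↥(R₁ : Subgroup ↥M) := by
      rw [Sylow.card_eq_multiplicity, Sylow.card_eq_multiplicity]
    rw [h1, ← Subgroup.card_map_of_injective M.subtype_injective]
    exact lt_of_lt_of_le hd₁ (Subgroup.card_le_of_le hB₁R)
  have l1 : Link p 𝓗 D Q₁ (upSylow R₁) :=
    link_of_common hΦ Q₁ _ B₁ (le_trans hB₁ inf_le_left) (le_trans hB₁R (le_upSylow R₁)) hd₁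
      (le_trans hDB inf_le_left)
  have l3 : Link p 𝓗 D (upSylow R₂) Q₂ :=
    link_of_common hΦ _ Q₂ B₂ (le_trans hB₂R (le_upSylow R₂)) (le_trans hB₂ inf_le_left) hd₂
      (le_trans hDB inf_le_right)
  have hDA : D.subgroupOf M ≤ (R₁ : Subgroup ↥M) ⊓ (R₂ : Subgroup ↥M) := by
    intro y hy
    rw [Subgroup.mem_subgroupOf] at hy
    exact ⟨hR₁ (Subgroup.mem_subgroupOf.mpr ((le_trans hDB inf_le_left) hy)),
      hR₂ (Subgroup.mem_subgroupOf.mpr ((le_trans hDB inf_le_right) hy))⟩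
  have l2 : Link p 𝓗 D (upSylow R₁) (upSylow R₂) := by
    by_cases hne : R₁ = R₂
    · rw [hne]; exact Link.refl _
    · have hinf : (R₁ : Subgroup ↥M) ⊓ (R₂ : Subgroup ↥M) ≠ ⊥ := by
        intro h
        apply hD
        rw [eq_bot_iff]
        intro x hx
        have h1 : (⟨x, hDM hx⟩ : ↥M) ∈ (R₁ : Subgroup ↥M) ⊓ (R₂ : Subgroup ↥M) :=
          hDA (Subgroup.mem_subgroupOf.mpr hx)
        rw [h, Subgroup.mem_bot] at h1
        rw [Subgroup.mem_bot]
        exact congrArg Subtype.val h1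
      have h := reflTransGen_of_regular hf M hreg R₁ R₂ hne hinf
      have key : ∀ R' : Sylow p ↥M,
          Relation.ReflTransGen (StepM p f M ((R₁ : Subgroup ↥M) ⊓ (R₂ : Subgroup ↥M))) R₁ R' →
          (R₁ : Subgroup ↥M) ⊓ (R₂ : Subgroup ↥M) ≤ (R' : Subgroup ↥M) ∧
            Link p 𝓗 D (upSylow R₁) (upSylow R') := by
        intro R' hR'
        induction hR' with
        | refl => exact ⟨inf_le_left, Link.refl _⟩
        | @tail R R' _ hstep ih =>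
          obtain ⟨hAR, hlink⟩ := ih
          obtain ⟨hAR', P, F, hF, hRF, hR'F⟩ := hstep
          refine ⟨hAR', hlink.trans ?_⟩
          have hDR : ∀ R'' : Sylow p ↥M,
              (R₁ : Subgroup ↥M) ⊓ (R₂ : Subgroup ↥M) ≤ (R'' : Subgroup ↥M) →
              D ≤ (R'' : Subgroup ↥M).map M.subtype := by
            intro R'' hA x hx
            exact ⟨⟨x, hDM hx⟩, hA (hDA (Subgroup.mem_subgroupOf.mpr hx)), rfl⟩
          exact hL P F hF (upSylow R) (upSylow R') _ _ (le_inf (le_upSylow R) hRF)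
            (le_inf (le_upSylow R') hR'F) (hcardR R) (hcardR R') (le_inf (hDR R hAR) (hDR R' hAR'))
      exact (key R₂ h).2
  exact l1.trans (l2.trans l3)

theorem sylow_map_ne_bot_of_pLocal (M : Subgroup G) (hM : IsPLocal p M) (P : Sylow p ↥M) :
    (P : Subgroup ↥M).map M.subtype ≠ ⊥ := by
  obtain ⟨Q₀, hQp, hQne, rfl⟩ := hM
  intro h
  have hpp : p.Prime := Fact.out
  have h1 : Nat.card ↥(P : Subgroup ↥(Subgroup.normalizer (Q₀ : Set G))) = 1 := by
    rw [← Subgroup.card_map_of_injective (Subgroup.subtype_injective _), h, Subgroup.card_bot]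
  rw [Sylow.card_eq_multiplicity] at h1
  have h2 : (Nat.card ↥(Subgroup.normalizer (Q₀ : Set G))).factorization p = 0 := by
    by_contra hne
    have : 1 < p ^ (Nat.card ↥(Subgroup.normalizer (Q₀ : Set G))).factorization p :=
      Nat.one_lt_pow hne hpp.one_lt
    omega
  have h3 : p ∣ Nat.card ↥Q₀ := by
    obtain ⟨j, hj⟩ := IsPGroup.iff_card.mp hQp
    have hj0 : j ≠ 0 := by
      rintro rfl
      rw [pow_zero] at hj
      exact hQne (Subgroup.card_eq_one.mp hj)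
    rw [hj]
    exact dvd_pow_self p hj0
  have h4 : p ∣ Nat.card ↥(Subgroup.normalizer (Q₀ : Set G)) :=
    dvd_trans h3 (Subgroup.card_dvd_of_le Subgroup.le_normalizer)
  have h5 := hpp.factorization_pos_of_dvd Nat.card_pos.ne' h4
  omega

theorem psi_pLocal {f : Subgroup G → Set (Subgroup G)} (hf : IsNormalizerFunctor p f)
    (hf1 : ∀ P : Subgroup G, IsPGroup p ↥P → P ≠ ⊥ → ∀ F ∈ f P, F ≠ ⊥)
    (h𝓕 : functorFamily p f ⊤ ⊆ 𝓗)
    (h𝓕' : ∀ M, IsMaximalPLocal p M → ¬ IsFunctorRegular p f M → M ∈ 𝓗)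
    (hD : D ≠ ⊥)
    (hΦ : ∀ Q₁ Q₂ : Sylow p G, d < Nat.card ↥((Q₁ : Subgroup G) ⊓ (Q₂ : Subgroup G)) →
      D ≤ (Q₁ : Subgroup G) ⊓ (Q₂ : Subgroup G) → Link p 𝓗 D Q₁ Q₂) :
    ∀ (k : ℕ) (L : Subgroup G), IsPLocal p L →
      (Nat.card G).factorization p - (Nat.card ↥L).factorization p = k → Psi p 𝓗 D d L := by
  intro k
  induction k using Nat.strong_induction_on with
  | _ k ih =>
  intro L hL hk
  have hpp : p.Prime := Fact.out
  obtain ⟨M, hM, hLM⟩ := exists_maximal_pLocal L hL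
  apply Psi.mono hLM
  by_cases hreg : IsFunctorRegular p f M
  · apply psi_regular hf hD hΦ M hreg
    intro P F hF
    have hBp : IsPGroup p ↥((P : Subgroup ↥M).map M.subtype) := P.isPGroup'.map _
    have hBne := sylow_map_ne_bot_of_pLocal M hM.1 P
    have hFne : F ≠ ⊥ := hf1 _ hBp hBne F hF
    have hFB := (hf _ hBp).1 F hF
    by_cases hidx : p ∣ ((P : Subgroup ↥M).map M.subtype).index
    · have hFloc : IsPLocal p (Subgroup.normalizer (F : Set G)) := ⟨F, hBp.to_le hFB.1, hFne, rfl⟩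
      obtain ⟨S, hS⟩ := hBp.exists_le_sylow
      have hBS : (P : Subgroup ↥M).map M.subtype ≠ (S : Subgroup G) := by
        intro e
        rw [e] at hidx
        exact S.not_dvd_index hidx
      have hlt := card_lt_card_inf_normalizer S _ hS hBS
      have hTp : IsPGroup p ↥((S : Subgroup G) ⊓
          Subgroup.normalizer (((P : Subgroup ↥M).map M.subtype : Subgroup G) : Set G)) :=
        S.isPGroup'.to_le inf_le_left
      obtain ⟨j, hj⟩ := IsPGroup.iff_card.mp hTp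
      have hcardB : Nat.card ↥((P : Subgroup ↥M).map M.subtype) =
          p ^ (Nat.card ↥M).factorization p := by
        rw [Subgroup.card_map_of_injective M.subtype_injective, Sylow.card_eq_multiplicity]
      rw [hj, hcardB] at hlt
      have hlt' : (Nat.card ↥M).factorization p < j := (Nat.pow_lt_pow_iff_right hpp.one_lt).mp hlt
      have hdvd : p ^ j ∣ Nat.card ↥(Subgroup.normalizer (F : Set G)) := by
        rw [← hj]
        exact Subgroup.card_dvd_of_le (le_trans inf_le_right hFB.2)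
      have h1 : j ≤ (Nat.card ↥(Subgroup.normalizer (F : Set G))).factorization p :=
        (hpp.pow_dvd_iff_le_factorization Nat.card_pos.ne').mp hdvd
      have h2 : (Nat.card ↥L).factorization p ≤ (Nat.card ↥M).factorization p :=
        (Nat.factorization_le_iff_dvd Nat.card_pos.ne' Nat.card_pos.ne').mpr
          (Subgroup.card_dvd_of_le hLM) p
      have h3 : (Nat.card ↥(Subgroup.normalizer (F : Set G))).factorization p ≤
          (Nat.card G).factorization p :=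
        (Nat.factorization_le_iff_dvd Nat.card_pos.ne' Nat.card_pos.ne').mpr
          (Subgroup.card_subgroup_dvd_card _) p
      exact ih _ (by omega) _ hFloc rfl
    · apply psi_of_mem hΦ
      apply h𝓕
      refine ⟨((hBp.toSylow hidx).subtype le_top), F, ?_, ?_⟩
      · rw [Sylow.coe_subtype, Subgroup.subgroupOf_map_subtype, inf_of_le_left le_top,
          IsPGroup.toSylow_coe]
        exact hF
      · rw [top_inf_eq]
  · exact psi_of_mem hΦ M (h𝓕' M hM hreg)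

theorem link_of_inter {f : Subgroup G → Set (Subgroup G)} (hf : IsNormalizerFunctor p f)
    (hf1 : ∀ P : Subgroup G, IsPGroup p ↥P → P ≠ ⊥ → ∀ F ∈ f P, F ≠ ⊥)
    (h𝓕 : functorFamily p f ⊤ ⊆ 𝓗)
    (h𝓕' : ∀ M, IsMaximalPLocal p M → ¬ IsFunctorRegular p f M → M ∈ 𝓗)
    (S T : Sylow p G) (hne : S ≠ T) (hinf : (S : Subgroup G) ⊓ (T : Subgroup G) ≠ ⊥)
    (hΦ : ∀ Q₁ Q₂ : Sylow p G, Nat.card ↥((S : Subgroup G) ⊓ (T : Subgroup G)) <
        Nat.card ↥((Q₁ : Subgroup G) ⊓ (Q₂ : Subgroup G)) →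
      (S : Subgroup G) ⊓ (T : Subgroup G) ≤ (Q₁ : Subgroup G) ⊓ (Q₂ : Subgroup G) →
      Link p 𝓗 ((S : Subgroup G) ⊓ (T : Subgroup G)) Q₁ Q₂) :
    Link p 𝓗 ((S : Subgroup G) ⊓ (T : Subgroup G)) S T := by
  have hDp : IsPGroup p ↥((S : Subgroup G) ⊓ (T : Subgroup G)) := S.isPGroup'.to_le inf_le_left
  have hloc : IsPLocal p (Subgroup.normalizer (((S : Subgroup G) ⊓ (T : Subgroup G) : Subgroup G) : Set G)) :=
    ⟨_, hDp, hinf, rfl⟩
  have hpsi := psi_pLocal hf hf1 h𝓕 h𝓕' hinf hΦ _ _ hloc rfl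
  have hDS : (S : Subgroup G) ⊓ (T : Subgroup G) ≠ (S : Subgroup G) := by
    intro e
    apply hne
    have hle : (S : Subgroup G) ≤ (T : Subgroup G) := inf_eq_left.mp e
    exact Sylow.ext (S.is_maximal' T.isPGroup' hle).symm
  have hDT : (S : Subgroup G) ⊓ (T : Subgroup G) ≠ (T : Subgroup G) := by
    intro e
    apply hne
    have hle : (T : Subgroup G) ≤ (S : Subgroup G) := inf_eq_right.mp e
    exact Sylow.ext (T.is_maximal' S.isPGroup' hle)
  exact hpsi S T _ _ le_rfl le_rfl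
    (card_lt_card_inf_normalizer S _ inf_le_left hDS)
    (card_lt_card_inf_normalizer T _ inf_le_right hDT)
    (le_inf (le_inf inf_le_left Subgroup.le_normalizer) (le_inf inf_le_right Subgroup.le_normalizer))

theorem link_all_pairs {f : Subgroup G → Set (Subgroup G)} (hf : IsNormalizerFunctor p f)
    (hf1 : ∀ P : Subgroup G, IsPGroup p ↥P → P ≠ ⊥ → ∀ F ∈ f P, F ≠ ⊥)
    (h𝓕 : functorFamily p f ⊤ ⊆ 𝓗)
    (h𝓕' : ∀ M, IsMaximalPLocal p M → ¬ IsFunctorRegular p f M → M ∈ 𝓗) :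
    ∀ (n : ℕ) (S T : Sylow p G),
      Nat.card G - Nat.card ↥((S : Subgroup G) ⊓ (T : Subgroup G)) = n →
      (S : Subgroup G) ⊓ (T : Subgroup G) ≠ ⊥ →
      Link p 𝓗 ((S : Subgroup G) ⊓ (T : Subgroup G)) S T := by
  intro n
  induction n using Nat.strong_induction_on with
  | _ n ih =>
  intro S T hn hinf
  by_cases hne : S = T
  · subst hne; exact Link.refl _
  · apply link_of_inter hf hf1 h𝓕 h𝓕' S T hne hinf
    intro Q₁ Q₂ hcard hle
    have hinf' : (Q₁ : Subgroup G) ⊓ (Q₂ : Subgroup G) ≠ ⊥ := fun e =>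
      hinf (eq_bot_iff.mpr (e ▸ hle))
    have hle' : Nat.card ↥((Q₁ : Subgroup G) ⊓ (Q₂ : Subgroup G)) ≤ Nat.card G :=
      Subgroup.card_le_card_group _
    have := ih (Nat.card G - Nat.card ↥((Q₁ : Subgroup G) ⊓ (Q₂ : Subgroup G))) (by omega) Q₁ Q₂ rfl hinf'
    exact this.mono hle

theorem controls_of_link
    (h : ∀ S T : Sylow p G, S ≠ T → (S : Subgroup G) ⊓ (T : Subgroup G) ≠ ⊥ →
      Link p 𝓗 ((S : Subgroup G) ⊓ (T : Subgroup G)) S T) :
    ControlsSylowIntersections p 𝓗 := by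
  intro S T hne hinf
  have h1 := h S T hne hinf
  have h2 : Relation.ReflTransGen (fun u v : Sylow p G => ∃ w : Subgroup G × G,
      w.1 ∈ sylowMembers p 𝓗 (u : Subgroup G) ∧ w.1 ∈ sylowMembers p 𝓗 (v : Subgroup G) ∧
      w.2 ∈ w.1 ∧ subgroupConjRight w.2 (v : Subgroup G) = (u : Subgroup G) ∧
      (S : Subgroup G) ⊓ (T : Subgroup G) ≤ (v : Subgroup G) ⊓ w.1) S T :=
    Relation.ReflTransGen.mono (fun u v huv => by
      obtain ⟨X, x, h⟩ := huv
      exact ⟨(X, x), h⟩) _ _ h1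
  obtain ⟨n, c, w, h0, hl, hR⟩ := exists_chain_of_reflTransGen h2
  exact ⟨n, c, fun i => (w i).1, fun i => (w i).2, h0, hl, hR⟩

theorem controls_union_singular {f : Subgroup G → Set (Subgroup G)} (hf : IsNormalizerFunctor p f)
    (hf1 : ∀ P : Subgroup G, IsPGroup p ↥P → P ≠ ⊥ → ∀ F ∈ f P, F ≠ ⊥) :
    ControlsSylowIntersections p (functorFamily p f ⊤ ∪
      {M | IsMaximalPLocal p M ∧ ¬ IsFunctorRegular p f M}) := by
  apply controls_of_link
  intro S T _ hinf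
  have h𝓕' : ∀ M, IsMaximalPLocal p M → ¬ IsFunctorRegular p f M →
      M ∈ functorFamily p f ⊤ ∪ {M | IsMaximalPLocal p M ∧ ¬ IsFunctorRegular p f M} :=
    fun M hM hreg => Or.inr (And.intro hM hreg)
  exact link_all_pairs hf hf1 Set.subset_union_left h𝓕' _ S T rfl hinf

end Chains

end Cfsg.Agent.Lib.Helper49
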