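import Cfsg.Agent.Lib.Helper76.SlDefs
import Cfsg.Agent.Lib.Helper3.CharOps
import Cfsg.Agent.S2336

/-! Sl hive (S2332, helper76): leaf CH1 `character_one_eq` (helper49). -/

set_option autoImplicit false

namespace Cfsg.Agent.Lib.Helper76.Sl

open Matrix Cfsg

/-- CH1 -/
theorem character_one_eq (G : Type*) [Group G] (k : ℕ) (ρ : Representation ℂ G (Fin k → ℂ)) :
    ρ.character 1 = k := by
  rw [Representation.char_one, Module.finrank_fin_fun]

end Cfsg.Agent.Lib.Helper76.Sl
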