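import Mathlib

/-! Sm hive (S2086, helper39): leaf N-SPAN `subring_eq_top_of_cubes` (helper49), Mathlib only.

A subring `R` of a finite field `K`, `|K| ≠ 4`, containing all cubes is `K`.  Elementary proof: in characteristic 3
cubing is injective, hence surjective.  Otherwise `t (3 t² + 3 t + 3) = 3 t³ + ((t+1)³ - t³ - 1)` with both the
factor `3 (t² + t + 1) = (t+1)³ - t³ - 1 + 3` and the right-hand side in `R`, and `R` is closed under inverses
(`r⁻¹ = r^(q-2)`), so `t ∈ R` unless `t² + t + 1 = 0`; every `t` is a difference of two such "good" elements when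
`|K| ≥ 5` (at most four bad shifts), and for `|K| = 2` every element is its own cube. -/

set_option autoImplicit false

namespace Cfsg.Agent.Lib.Helper39.Sm

variable {K : Type*} [Field K]

/-- N-SPAN (Mathlib only): un-imported twin of `Lib/Helper44/Sm_NSPAN.lean` (helper44 landed first), renamed to avoid a duplicate constant. -/
theorem nspan49_subring_eq_top_of_cubes [Finite K] (h4 : Nat.card K ≠ 4) (R : Subring K)
    (hR : ∀ t : K, t ^ 3 ∈ R) : R = ⊤ := by
  classical
  have : Fintype K := Fintype.ofFinite K
  rw [Nat.card_eq_fintype_card] at h4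
  rw [eq_top_iff]
  intro t _
  by_cases h3 : (3 : K) = 0
  · -- characteristic 3: cubing is injective, hence surjective
    have hinj : Function.Injective (fun x : K => x ^ 3) := by
      intro a b hab
      have hab' : a ^ 3 = b ^ 3 := hab
      have h : (a - b) ^ 3 = 0 := by
        have e : (a - b) ^ 3 = a ^ 3 - b ^ 3 - 3 * (a * b * (a - b)) := by ring
        rw [e, h3, zero_mul, sub_zero, hab', sub_self]
      exact sub_eq_zero.1 ((pow_eq_zero_iff (three_ne_zero)).1 h)
    obtain ⟨x, hx⟩ := (Finite.injective_iff_surjective.1 hinj) t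
    rw [← hx]
    exact hR x
  · have hq : 2 ≤ Fintype.card K := Fintype.one_lt_card
    have hinvmem : ∀ r ∈ R, r ≠ 0 → r⁻¹ ∈ R := by
      intro r hr hr0
      have h1 : r ^ (Fintype.card K - 1) = 1 := FiniteField.pow_card_sub_one_eq_one r hr0
      have h2 : r * r ^ (Fintype.card K - 2) = 1 := by
        rw [← pow_succ', show Fintype.card K - 2 + 1 = Fintype.card K - 1 by omega]
        exact h1
      rw [inv_eq_of_mul_eq_one_right h2]
      exact R.pow_mem hr _
    have hgood : ∀ t : K, t ^ 2 + t + 1 ≠ 0 → t ∈ R := by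
      intro t ht
      have h3R : (3 : K) ∈ R := by
        have := natCast_mem R 3
        exact_mod_cast this
      have hA : (t + 1) ^ 3 - t ^ 3 - 1 ∈ R := R.sub_mem (R.sub_mem (hR _) (hR _)) R.one_mem
      have hD : (t + 1) ^ 3 - t ^ 3 - 1 + 3 ∈ R := R.add_mem hA h3R
      have hN : 3 * t ^ 3 + ((t + 1) ^ 3 - t ^ 3 - 1) ∈ R := R.add_mem (R.mul_mem h3R (hR _)) hA
      have hD0 : (t + 1) ^ 3 - t ^ 3 - 1 + 3 ≠ 0 := by
        have e : (t + 1) ^ 3 - t ^ 3 - 1 + 3 = 3 * (t ^ 2 + t + 1) := by ring
        rw [e]
        exact mul_ne_zero h3 ht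
      have hid : t * ((t + 1) ^ 3 - t ^ 3 - 1 + 3) = 3 * t ^ 3 + ((t + 1) ^ 3 - t ^ 3 - 1) := by ring
      have e : t = (3 * t ^ 3 + ((t + 1) ^ 3 - t ^ 3 - 1)) * ((t + 1) ^ 3 - t ^ 3 - 1 + 3)⁻¹ := by
        rw [← hid, mul_assoc, mul_inv_cancel₀ hD0, mul_one]
      rw [e]
      exact R.mul_mem hN (hinvmem _ hD hD0)
    have hq3 : Fintype.card K ≠ 3 := by
      intro h
      apply h3
      have := FiniteField.cast_card_eq_zero K
      rw [h] at this
      exact_mod_cast this
    rcases (by omega : Fintype.card K = 2 ∨ 5 ≤ Fintype.card K) with h2 | h5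
    · have e2 : t ^ 2 = t := by
        have := FiniteField.pow_card t
        rwa [h2] at this
      have e3 : t ^ 3 = t := by
        calc t ^ 3 = t ^ 2 * t := by ring
          _ = t * t := by rw [e2]
          _ = t ^ 2 := by ring
          _ = t := e2
      rw [← e3]
      exact hR t
    · let Z : Finset K := Finset.univ.filter (fun s => s ^ 2 + s + 1 = 0)
      have hZmem : ∀ s, s ∈ Z ↔ s ^ 2 + s + 1 = 0 := by
        intro s
        simp [Z]
      have hZ : Z.card ≤ 2 := by
        by_contra hcon
        push Not at hcon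
        obtain ⟨a, b, c, ha, hb, hc, hab, hac, hbc⟩ := Finset.two_lt_card_iff.1 hcon
        rw [hZmem] at ha hb hc
        have hsum : ∀ x y : K, x ^ 2 + x + 1 = 0 → y ^ 2 + y + 1 = 0 → x ≠ y → x + y = -1 := by
          intro x y hx hy hxy
          have h : (x - y) * (x + y + 1) = 0 := by linear_combination hx - hy
          rcases mul_eq_zero.1 h with h | h
          · exact absurd (sub_eq_zero.1 h) hxy
          · linear_combination h
        have h1 := hsum a b ha hb hab
        have h2 := hsum a c ha hc hac
        exact hbc (by linear_combination h1 - h2)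
      let B : Finset K := Z ∪ Z.image (fun z => z - t)
      have hB : B.card ≤ 4 := by
        calc B.card ≤ Z.card + (Z.image (fun z => z - t)).card := Finset.card_union_le _ _
          _ ≤ 2 + 2 := add_le_add hZ (le_trans Finset.card_image_le hZ)
      obtain ⟨s, hs⟩ : ∃ s, s ∉ B := by
        by_contra hcon
        push Not at hcon
        have hBu : B = Finset.univ := Finset.eq_univ_iff_forall.2 hcon
        rw [hBu, Finset.card_univ] at hB
        omega
      have hs1 : s ^ 2 + s + 1 ≠ 0 := by
        intro h
        apply hs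
        exact Finset.mem_union_left _ ((hZmem s).2 h)
      have hs2 : (t + s) ^ 2 + (t + s) + 1 ≠ 0 := by
        intro h
        apply hs
        apply Finset.mem_union_right
        rw [Finset.mem_image]
        exact ⟨t + s, (hZmem _).2 h, by ring⟩
      have e : t = (t + s) - s := by ring
      rw [e]
      exact R.sub_mem (hgood _ hs2) (hgood _ hs1)

end Cfsg.Agent.Lib.Helper39.Sm
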