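import Cfsg.Agent.Lib.Helper39.SmDefs

/-! Sm hive (S2086, helper39): cores of the leaves N-T1 `fcm_eq_one_first` and N-T2 `fcm_eq_one_second` (helper49),
with the statements of T-ADD `fcm_add_left` and T-CONJH `fcm_hh` as hypotheses. -/

set_option autoImplicit false

namespace Cfsg.Agent.Lib.Helper39.Sm

open Cfsg.Agent.Lib.Helper41.Stn
open scoped commutatorElement

/-- abstract core: a function additive in its first variable and invariant under `t ↦ c³ t`, `c³ ≠ 1`, is trivial. -/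
theorem nt1_abs {K Y : Type*} [Field K] [Group Y] (f : K → K → Y)
    (hadd : ∀ t t' u, f (t + t') u = f t u * f t' u) {c : K} (hc1 : c ^ 3 ≠ 1)
    (h3 : ∀ t u, f (c ^ 3 * t) u = f t u) (t u : K) : f t u = 1 := by
  have h0 : ∀ u, f 0 u = 1 := by
    intro u
    have hz := hadd 0 0 u
    rw [add_zero] at hz
    have hz2 : f 0 u * f 0 u = f 0 u * 1 := by rw [← hz, mul_one]
    exact mul_left_cancel hz2
  have hne : c ^ 3 - 1 ≠ 0 := sub_ne_zero.2 hc1
  have key : ∀ s, f ((c ^ 3 - 1) * s) u = 1 := by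
    intro s
    have e : (c ^ 3 - 1) * s = c ^ 3 * s + (-s) := by ring
    rw [e, hadd, h3, ← hadd, add_neg_cancel, h0]
  have hk := key ((c ^ 3 - 1)⁻¹ * t)
  rwa [← mul_assoc, mul_inv_cancel₀ hne, one_mul] at hk

variable {K : Type*} [Field K] {n : ℕ} {Y : Type*} [Group Y] (φ : Y →* St K n)
  (hφ : Function.Surjective φ)

/-- core of N-T1 -/
theorem nt1_core
    (hadd : ∀ {i j k l : Fin n}, i ≠ l → j ≠ k → ∀ t t' u : K,
      cm φ hφ (xx i j (t + t')) (xx k l u) =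
        cm φ hφ (xx i j t) (xx k l u) * cm φ hφ (xx i j t') (xx k l u))
    (hhh : ∀ {i j k l : Fin n}, i ≠ j → k ≠ l → i ≠ l → j ≠ k → ∀ {p q : Fin n}, p ≠ q →
      ∀ {c : K}, c ≠ 0 → ∀ t u : K,
      cm φ hφ (xx i j (dd p q c i / dd p q c j * t)) (xx k l (dd p q c k / dd p q c l * u)) =
        cm φ hφ (xx i j t) (xx k l u))
    {i j h : Fin n} (hij : i ≠ j) (hhi : h ≠ i) (hhj : h ≠ j) {c : K} (hc0 : c ≠ 0)
    (hc1 : c ^ 3 ≠ 1) (t u : K) : cm φ hφ (xx i j t) (xx i h u) = 1 := by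
  -- `(p,q) = (j,h)`: `f(c⁻¹ t, c u) = f(t,u)`
  have h1 : ∀ t u : K, cm φ hφ (xx i j (c⁻¹ * t)) (xx i h (c * u)) =
      cm φ hφ (xx i j t) (xx i h u) := by
    intro t u
    have hx := hhh hij (Ne.symm hhi) (Ne.symm hhi) (Ne.symm hij) (p := j) (q := h) (Ne.symm hhj) hc0 t u
    have e1 : dd j h c i / dd j h c j = c⁻¹ := by
      simp only [dd, if_neg hij, if_neg (Ne.symm hhi), if_true, one_div]
    have e2 : dd j h c i / dd j h c h = c := by
      simp only [dd, if_neg hij, if_neg (Ne.symm hhi), if_neg hhj, if_true, one_div, inv_inv]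
    rw [e1, e2] at hx
    exact hx
  -- `(p,q) = (i,j)`: `f(c² t, c u) = f(t,u)`
  have h2 : ∀ t u : K, cm φ hφ (xx i j (c ^ 2 * t)) (xx i h (c * u)) =
      cm φ hφ (xx i j t) (xx i h u) := by
    intro t u
    have hx := hhh hij (Ne.symm hhi) (Ne.symm hhi) (Ne.symm hij) (p := i) (q := j) hij hc0 t u
    have e1 : dd i j c i / dd i j c j = c ^ 2 := by
      simp only [dd, if_true, if_neg (Ne.symm hij), div_inv_eq_mul, sq]
    have e2 : dd i j c i / dd i j c h = c := by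
      simp only [dd, if_true, if_neg hhi, if_neg hhj, div_one]
    rw [e1, e2] at hx
    exact hx
  refine nt1_abs (fun t u => cm φ hφ (xx i j t) (xx i h u))
    (fun t t' u => hadd (Ne.symm hhi) (Ne.symm hij) t t' u) hc1 ?_ t u
  intro t u
  show cm φ hφ (xx i j (c ^ 3 * t)) (xx i h u) = cm φ hφ (xx i j t) (xx i h u)
  have e : c⁻¹ * (c ^ 3 * t) = c ^ 2 * t := by
    field_simp
  calc cm φ hφ (xx i j (c ^ 3 * t)) (xx i h u)
      = cm φ hφ (xx i j (c⁻¹ * (c ^ 3 * t))) (xx i h (c * u)) := (h1 (c ^ 3 * t) u).symm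
    _ = cm φ hφ (xx i j (c ^ 2 * t)) (xx i h (c * u)) := by rw [e]
    _ = cm φ hφ (xx i j t) (xx i h u) := h2 t u

/-- core of N-T2 -/
theorem nt2_core
    (hadd : ∀ {i j k l : Fin n}, i ≠ l → j ≠ k → ∀ t t' u : K,
      cm φ hφ (xx i j (t + t')) (xx k l u) =
        cm φ hφ (xx i j t) (xx k l u) * cm φ hφ (xx i j t') (xx k l u))
    (hhh : ∀ {i j k l : Fin n}, i ≠ j → k ≠ l → i ≠ l → j ≠ k → ∀ {p q : Fin n}, p ≠ q →
      ∀ {c : K}, c ≠ 0 → ∀ t u : K,
      cm φ hφ (xx i j (dd p q c i / dd p q c j * t)) (xx k l (dd p q c k / dd p q c l * u)) =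
        cm φ hφ (xx i j t) (xx k l u))
    {i j h : Fin n} (hij : i ≠ j) (hhi : h ≠ i) (hhj : h ≠ j) {c : K} (hc0 : c ≠ 0)
    (hc1 : c ^ 3 ≠ 1) (t u : K) : cm φ hφ (xx i j t) (xx h j u) = 1 := by
  -- `(p,q) = (i,h)`: `f(c t, c⁻¹ u) = f(t,u)`
  have h1 : ∀ t u : K, cm φ hφ (xx i j (c * t)) (xx h j (c⁻¹ * u)) =
      cm φ hφ (xx i j t) (xx h j u) := by
    intro t u
    have hx := hhh hij hhj hij (Ne.symm hhj) (p := i) (q := h) (Ne.symm hhi) hc0 t u
    have e1 : dd i h c i / dd i h c j = c := by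
      simp only [dd, if_true, if_neg (Ne.symm hij), if_neg (Ne.symm hhj), div_one]
    have e2 : dd i h c h / dd i h c j = c⁻¹ := by
      simp only [dd, if_neg hhi, if_true, if_neg (Ne.symm hij), if_neg (Ne.symm hhj), div_one]
    rw [e1, e2] at hx
    exact hx
  -- `(p,q) = (i,j)`: `f(c² t, c u) = f(t,u)`
  have h2 : ∀ t u : K, cm φ hφ (xx i j (c ^ 2 * t)) (xx h j (c * u)) =
      cm φ hφ (xx i j t) (xx h j u) := by
    intro t u
    have hx := hhh hij hhj hij (Ne.symm hhj) (p := i) (q := j) hij hc0 t u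
    have e1 : dd i j c i / dd i j c j = c ^ 2 := by
      simp only [dd, if_true, if_neg (Ne.symm hij), div_inv_eq_mul, sq]
    have e2 : dd i j c h / dd i j c j = c := by
      simp only [dd, if_neg hhi, if_neg hhj, if_neg (Ne.symm hij), if_true, one_div, inv_inv]
    rw [e1, e2] at hx
    exact hx
  refine nt1_abs (fun t u => cm φ hφ (xx i j t) (xx h j u))
    (fun t t' u => hadd hij (Ne.symm hhj) t t' u) hc1 ?_ t u
  intro t u
  show cm φ hφ (xx i j (c ^ 3 * t)) (xx h j u) = cm φ hφ (xx i j t) (xx h j u)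
  have e1 : c * (c ^ 2 * t) = c ^ 3 * t := by ring
  have e2 : c⁻¹ * (c * u) = u := by
    rw [← mul_assoc, inv_mul_cancel₀ hc0, one_mul]
  calc cm φ hφ (xx i j (c ^ 3 * t)) (xx h j u)
      = cm φ hφ (xx i j (c * (c ^ 2 * t))) (xx h j (c⁻¹ * (c * u))) := by rw [e1, e2]
    _ = cm φ hφ (xx i j (c ^ 2 * t)) (xx h j (c * u)) := h1 (c ^ 2 * t) (c * u)
    _ = cm φ hφ (xx i j t) (xx h j u) := h2 t u

end Cfsg.Agent.Lib.Helper39.Sm
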