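import Mathlib

/-! # Stn-SYM-FIN (S2401 Stn hive of helper41, SYM sub-hive of helper86)

A Steinberg symbol on a finite field is trivial (Steinberg, Lectures on Chevalley groups, Thm 12;
Milnor, Algebraic K-theory, Cor. 9.9).  Mathlib only. -/

set_option autoImplicit false

namespace Cfsg.Agent.Lib.Helper41.Stn

open Polynomial

/-- in a finite field in which `-1 ≠ 1`, the element `1` is a sum of two non-squares -/
theorem symfin49_exists_nonsq {K : Type*} [Field K] [Finite K] (h : (-1 : K) ≠ 1) :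
    ∃ u v : K, ¬ IsSquare u ∧ ¬ IsSquare v ∧ u + v = 1 := by
  classical
  have : Fintype K := Fintype.ofFinite K
  have hchar : ringChar K ≠ 2 := by
    intro h2
    have : CharP K 2 := ringChar.of_eq h2
    apply h
    exact CharTwo.neg_eq (1 : K)
  obtain ⟨n, hn⟩ := FiniteField.exists_nonsquare hchar
  have hn0 : n ≠ 0 := by
    rintro rfl
    exact hn ⟨0, by simp⟩
  have hodd := FiniteField.odd_card_of_char_ne_two hchar
  obtain ⟨a, b, hab⟩ := FiniteField.exists_root_sum_quadratic (R := K) (f := X ^ 2)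
    (g := X ^ 2 - C n⁻¹) (degree_X_pow 2) (degree_X_pow_sub_C (by decide) _) hodd
  simp only [eval_pow, eval_X, eval_sub, eval_C] at hab
  have hsum : a ^ 2 + b ^ 2 = n⁻¹ := by linear_combination hab
  have hninv : ¬ IsSquare n⁻¹ := by
    rintro ⟨c, hc⟩
    exact hn ⟨c⁻¹, by rw [← mul_inv, ← hc, inv_inv]⟩
  have ha : a ≠ 0 := by
    rintro rfl
    exact hninv ⟨b, by rw [← hsum]; ring⟩
  have hb : b ≠ 0 := by
    rintro rfl
    exact hninv ⟨a, by rw [← hsum]; ring⟩
  refine ⟨n * a ^ 2, n * b ^ 2, ?_, ?_, ?_⟩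
  · rintro ⟨c, hc⟩
    refine hn ⟨c / a, ?_⟩
    field_simp
    linear_combination hc
  · rintro ⟨c, hc⟩
    refine hn ⟨c / b, ?_⟩
    field_simp
    linear_combination hc
  · rw [← mul_add, hsum, mul_inv_cancel₀ hn0]

/-- SYM-FIN: a Steinberg symbol on a finite field is trivial. -/
theorem symbol_trivial {K : Type*} [Field K] [Finite K] {A : Type*} [Group A] (s : K → K → A)
    (hl : ∀ t t' u : K, t ≠ 0 → t' ≠ 0 → u ≠ 0 → s (t * t') u = s t u * s t' u)
    (hr : ∀ t u u' : K, t ≠ 0 → u ≠ 0 → u' ≠ 0 → s t (u * u') = s t u * s t u')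
    (hneg : ∀ u : K, u ≠ 0 → s u (-u) = 1)
    (hst : ∀ u v : K, u ≠ 0 → v ≠ 0 → u + v = 1 → s u v = 1) :
    ∀ t u : K, t ≠ 0 → u ≠ 0 → s t u = 1 := by
  classical
  obtain ⟨g, hg⟩ := IsCyclic.exists_generator (α := Kˣ)
  have hg0 : (g : K) ≠ 0 := g.ne_zero
  have h1l : ∀ u : K, u ≠ 0 → s 1 u = 1 := by
    intro u hu
    have h := hl 1 1 u one_ne_zero one_ne_zero hu
    rw [mul_one] at h
    have h' : s 1 u * s 1 u = s 1 u * 1 := by rw [mul_one]; exact h.symm
    exact mul_left_cancel h'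
  have h1r : ∀ t : K, t ≠ 0 → s t 1 = 1 := by
    intro t ht
    have h := hr t 1 1 ht one_ne_zero one_ne_zero
    rw [mul_one] at h
    have h' : s t 1 * s t 1 = s t 1 * 1 := by rw [mul_one]; exact h.symm
    exact mul_left_cancel h'
  have hpl : ∀ (a : ℕ) (u : K), u ≠ 0 → s ((g : K) ^ a) u = (s g u) ^ a := by
    intro a u hu
    induction a with
    | zero => rw [pow_zero, pow_zero]; exact h1l u hu
    | succ a ih => rw [pow_succ, hl _ _ u (pow_ne_zero a hg0) hg0 hu, ih, pow_succ]
  have hpr : ∀ (b : ℕ) (t : K), t ≠ 0 → s t ((g : K) ^ b) = (s t g) ^ b := by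
    intro b t ht
    induction b with
    | zero => rw [pow_zero, pow_zero]; exact h1r t ht
    | succ b ih => rw [pow_succ, hr t _ _ ht (pow_ne_zero b hg0) hg0, ih, pow_succ]
  have hval : ∀ a b : ℕ, s ((g : K) ^ a) ((g : K) ^ b) = ((s g g) ^ b) ^ a := by
    intro a b
    rw [hpl a _ (pow_ne_zero b hg0), hpr b g hg0]
  have hex : ∀ t : K, t ≠ 0 → ∃ a : ℕ, (g : K) ^ a = t := by
    intro t ht
    have hmem : Units.mk0 t ht ∈ Subgroup.zpowers g := hg _
    obtain ⟨a, ha⟩ := (mem_powers_iff_mem_zpowers).mpr hmem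
    refine ⟨a, ?_⟩
    have h := congrArg Units.val ha
    simpa using h
  have hσ : s g g = 1 := by
    by_cases hc : (-1 : K) = 1
    · have hgg : -(g : K) = g := by rw [neg_eq_neg_one_mul, hc, one_mul]
      have h := hneg g hg0
      rwa [hgg] at h
    · obtain ⟨m, hm⟩ := hex (-1) (neg_ne_zero.mpr one_ne_zero)
      have e1 : (s g g) ^ (m + 1) = 1 := by
        have h := hneg g hg0
        have hgg : -(g : K) = (g : K) ^ (m + 1) := by rw [pow_succ, hm]; ring
        rw [hgg, hpr (m + 1) g hg0] at h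
        exact h
      have e2 : (s g g) ^ (2 * m) = 1 := by
        have hgg : (g : K) ^ (2 * m) = 1 := by
          rw [mul_comm, pow_mul, hm]; norm_num
        have h := hpl (2 * m) g hg0
        rw [hgg, h1l g hg0] at h
        exact h.symm
      have e3 : (s g g) ^ 2 = 1 := by
        have h : (s g g) ^ (2 * m + 2) = 1 := by
          rw [show 2 * m + 2 = (m + 1) * 2 by ring, pow_mul, e1, one_pow]
        rw [pow_add, e2, one_mul] at h
        exact h
      obtain ⟨u, v, hu, hv, huv⟩ := symfin49_exists_nonsq hc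
      have hu0 : u ≠ 0 := by
        rintro rfl
        exact hu ⟨0, by simp⟩
      have hv0 : v ≠ 0 := by
        rintro rfl
        exact hv ⟨0, by simp⟩
      obtain ⟨a, ha⟩ := hex u hu0
      obtain ⟨b, hb⟩ := hex v hv0
      have hao : Odd a := by
        by_contra hne
        rw [Nat.not_odd_iff_even] at hne
        obtain ⟨c, rfl⟩ := hne
        exact hu ⟨(g : K) ^ c, by rw [← ha, pow_add]⟩
      have hbo : Odd b := by
        by_contra hne
        rw [Nat.not_odd_iff_even] at hne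
        obtain ⟨c, rfl⟩ := hne
        exact hv ⟨(g : K) ^ c, by rw [← hb, pow_add]⟩
      have h := hst u v hu0 hv0 huv
      rw [← ha, ← hb, hval, ← pow_mul] at h
      obtain ⟨k, hk⟩ := hbo.mul hao
      rw [hk, pow_succ, pow_mul, e3, one_pow, one_mul] at h
      exact h
  intro t u ht hu
  obtain ⟨a, ha⟩ := hex t ht
  obtain ⟨b, hb⟩ := hex u hu
  rw [← ha, ← hb, hval, hσ, one_pow, one_pow]

end Cfsg.Agent.Lib.Helper41.Stn
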