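import Mathlib.GroupTheory.Sylow
import Mathlib.GroupTheory.Transfer

set_option autoImplicit false

namespace Cfsg.Agent.Lib.Helper49

/-- the normalizer of a subgroup normalizes its centralizer -/
theorem normalizer_le_normalizer_centralizer {G : Type*} [Group G] (Q : Subgroup G) :
    Subgroup.normalizer (Q : Set G) ≤
      Subgroup.normalizer ((Subgroup.centralizer (Q : Set G) : Subgroup G) : Set G) :=
  (Subgroup.normal_subgroupOf_iff_le_normalizer
    (Subgroup.centralizer_le_normalizer (Q : Set G))).mp
    (Subgroup.normal_subgroupOf_centralizer_normalizer (Q : Set G))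

/-- If a Sylow `p`-subgroup `T` normalizes `C`, then `T ⊓ C` has index prime to `p` in `C`. -/
theorem sylow_inf_relIndex {G : Type*} [Group G] [Finite G] {p : ℕ} [Fact p.Prime]
    (T : Sylow p G) (C : Subgroup G)
    (hTC : (T : Subgroup G) ≤ Subgroup.normalizer (C : Set G)) :
    ¬ p ∣ ((T : Subgroup G) ⊓ C).relIndex C := by
  set D := (T : Subgroup G) ⊓ C with hD
  set E := (T : Subgroup G) ⊔ C with hE
  have h1 : C.relIndex (T : Subgroup G) = C.relIndex E := by
    have := Subgroup.normal_subgroupOf_of_le_normalizer hTC
    have := Subgroup.normal_subgroupOf_sup_of_le_normalizer hTC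
    have e := QuotientGroup.quotientInfEquivProdNormalizerQuotient (T : Subgroup G) C hTC
    exact Nat.card_congr e.toEquiv
  have h2 : D.relIndex (T : Subgroup G) = C.relIndex (T : Subgroup G) := by
    rw [hD]; exact Subgroup.inf_relIndex_left _ _
  have h3 : D.relIndex (T : Subgroup G) * (T : Subgroup G).relIndex E = D.relIndex E :=
    Subgroup.relIndex_mul_relIndex D T E inf_le_left le_sup_left
  have h4 : D.relIndex C * C.relIndex E = D.relIndex E :=
    Subgroup.relIndex_mul_relIndex D C E inf_le_right le_sup_right
  have h5 : (T : Subgroup G).relIndex E = D.relIndex C := by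
    have hne : D.relIndex (T : Subgroup G) ≠ 0 := Subgroup.index_ne_zero_of_finite
    have : D.relIndex (T : Subgroup G) * (T : Subgroup G).relIndex E
        = D.relIndex (T : Subgroup G) * D.relIndex C := by
      rw [h3, ← h4, h2, h1, mul_comm]
    exact Nat.eq_of_mul_eq_mul_left (Nat.pos_of_ne_zero hne) this
  rw [← h5]
  intro hdvd
  exact T.not_dvd_index (dvd_trans hdvd (Subgroup.relIndex_dvd_index_of_le le_sup_left))

end Cfsg.Agent.Lib.Helper49
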