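import Cfsg.Agent.Lib.Helper49.TpI7a

/-! Tp hive (S4017, helper66): leaf TP-BSW2 `false_of_bsw_concl` (helper49): the conclusion of the abstract
Brauer-Suzuki-Wall theorem is incompatible with case (II) of the minimal counterexample. -/

set_option autoImplicit false

namespace Cfsg.Agent.Lib.Helper66.Tp

universe u

open scoped Pointwise

/-- an element conjugating `z` to `z` or `z⁻¹` normalises `zpowers z`. -/
theorem bsw2_mem_normalizer_zpowers {G : Type*} [Group G] (a z : G)
    (h : a * z * a⁻¹ = z ∨ a * z * a⁻¹ = z⁻¹) :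
    a ∈ Subgroup.normalizer ((Subgroup.zpowers z : Subgroup G) : Set G) := by
  rw [Subgroup.mem_normalizer_iff_map_conj_eq, MonoidHom.map_zpowers]
  have h1 : (MulAut.conj a : G →* G) z = a * z * a⁻¹ := by simp [MulAut.conj_apply]
  rw [h1]
  rcases h with h | h
  · rw [h]
  · rw [h, Subgroup.zpowers_inv]

/-- `|D ⊔ ⟨w⟩| = 2 |D|` for an involution `w ∉ D` inverting `D`. -/
theorem bsw2_card_sup {G : Type*} [Group G] [Finite G] (D : Subgroup G) (w : G)
    (hw : orderOf w = 2) (hwD : w ∉ D) (hinv : ∀ d ∈ D, w * d * w⁻¹ = d⁻¹) :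
    Nat.card ↥(D ⊔ Subgroup.zpowers w) = 2 * Nat.card D := by
  have hwN : w ∈ Subgroup.normalizer (D : Set G) := by
    rw [Subgroup.mem_normalizer_iff_map_conj_eq]
    apply le_antisymm
    · rintro _ ⟨d, hd, rfl⟩
      have h1 : (MulAut.conj w : G →* G) d = w * d * w⁻¹ := by simp [MulAut.conj_apply]
      rw [h1, hinv d hd]
      exact inv_mem hd
    · intro d hd
      refine ⟨d⁻¹, inv_mem hd, ?_⟩
      have h1 : (MulAut.conj w : G →* G) d⁻¹ = w * d⁻¹ * w⁻¹ := by simp [MulAut.conj_apply]
      rw [h1, hinv d⁻¹ (inv_mem hd), inv_inv]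
  have hle : Subgroup.zpowers w ≤ Subgroup.normalizer (D : Set G) := by
    rw [Subgroup.zpowers_le]; exact hwN
  have hcoe := Subgroup.coe_mul_of_right_le_normalizer_left D (Subgroup.zpowers w) hle
  have hle2 : Nat.card ↥(D ⊔ Subgroup.zpowers w) ≤ Nat.card D * 2 := by
    have h1 : Nat.card ↥(D ⊔ Subgroup.zpowers w) =
        Nat.card ((D : Set G) * (Subgroup.zpowers w : Set G) : Set G) := by
      rw [← hcoe]; rfl
    rw [h1]
    refine le_trans Set.natCard_mul_le ?_
    have h2 : Nat.card (Subgroup.zpowers w : Set G) = 2 := by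
      rw [← hw]; exact Nat.card_zpowers w
    rw [h2]
    exact le_of_eq rfl
  have hdvd : Nat.card D ∣ Nat.card ↥(D ⊔ Subgroup.zpowers w) := Subgroup.card_dvd_of_le le_sup_left
  have hne : Nat.card ↥(D ⊔ Subgroup.zpowers w) ≠ Nat.card D := by
    intro he
    have h3 : D = D ⊔ Subgroup.zpowers w := Subgroup.eq_of_le_of_card_ge le_sup_left he.le
    apply hwD
    rw [h3]
    exact Subgroup.mem_sup_right (Subgroup.mem_zpowers w)
  obtain ⟨k, hk⟩ := hdvd
  have hdpos : 0 < Nat.card D := Nat.card_pos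
  have hpos : 0 < Nat.card ↥(D ⊔ Subgroup.zpowers w) := Nat.card_pos
  have hk2 : k ≤ 2 := by
    by_contra hcon
    push Not at hcon
    nlinarith
  have hk1 : k ≠ 1 := by
    rintro rfl
    apply hne
    rw [hk, mul_one]
  have hk0 : k ≠ 0 := by
    rintro rfl
    rw [hk, mul_zero] at hpos
    exact lt_irrefl _ hpos
  have hk' : k = 2 := by omega
  rw [hk, hk', mul_comm]

section ctx

variable {p : ℕ} {G : Type*} [Group G] [Finite G]

variable (s : Setup p G)
include s

/-- TP-BSW2 -/
theorem false_of_bsw_concl {u : G} (hu : u ∈ (s.Q : Subgroup G)) (hu1 : u ≠ 1)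
    (hcu : Nat.card (Subgroup.centralizer ({u} : Set G)) = Nat.card (Yof p u) * (p + 1))
    (h : CaseII s u) (hc : BSWConcl G) : False := by
  obtain ⟨Q', D', hG, hcent, hDcomm, hq, hQD, hNQ, hX⟩ := hc
  have hp3 : p = 3 := h.p3
  subst hp3
  have hsimple := s.ctx.simple
  have hstar := s.ctx.star
  have hdpos : 0 < Nat.card D' := Nat.card_pos
  obtain ⟨r, hr, hrG, hr2, hr3⟩ := s.ctx.bad
  have hGd : Nat.card G = 2 * Nat.card D' * (Nat.card D' + 1) * (2 * Nat.card D' + 1) := by
    rw [← hq] at hG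
    have h1 : 2 * Nat.card D' + 1 - 1 = 2 * Nat.card D' := by omega
    rw [h1] at hG
    refine Nat.eq_of_mul_eq_mul_left (two_pos) (hG.trans ?_)
    ring
  by_cases hD : D' = ⊥
  · have hd1 : Nat.card D' = 1 := by rw [hD]; exact Subgroup.card_bot
    rw [hd1] at hGd
    have hG12 : Nat.card G = 12 := by rw [hGd]
    rw [hG12] at hrG
    have hle : r ≤ 12 := Nat.le_of_dvd (by norm_num) hrG
    interval_cases r <;> first | omega | exact absurd hr (by norm_num)
  · obtain ⟨hNX, w, hw, hwD, hwinv, hND⟩ := hX D' le_rfl hD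
    have hcardN : Nat.card (Subgroup.normalizer (D' : Set G)) = 2 * Nat.card D' := by
      rw [hND]; exact bsw2_card_sup D' w hw hwD hwinv
    have hNtop : Subgroup.normalizer (D' : Set G) ≠ ⊤ := by
      intro htop
      have hn : D'.Normal := Subgroup.normalizer_eq_top_iff.1 htop
      rcases hsimple.eq_bot_or_eq_top_of_normal D' hn with h1 | h1
      · exact hD h1
      · have h2 : Nat.card D' = Nat.card G := by rw [h1]; exact Subgroup.card_top
        rw [← h2] at hGd
        nlinarith [mul_pos hdpos hdpos, mul_pos (mul_pos hdpos hdpos) hdpos]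
    have hNeven : 2 ∣ Nat.card (Subgroup.normalizer (D' : Set G)) := by
      rw [hcardN]; exact dvd_mul_right 2 _
    have hNstar := hstar _ hNtop hNeven
    have hdprime : ∀ r : ℕ, r.Prime → r ∣ Nat.card D' → r = 2 ∨ r = 3 := fun r hr hrd =>
      hNstar r hr (by rw [hcardN]; exact dvd_mul_of_dvd_right hrd 2)
    obtain ⟨R, hR⟩ := h.sylow
    have hYp : IsPGroup 3 (Yof 3 u) := hR ▸ R.isPGroup'
    have : Fact (Nat.Prime 3) := ⟨Nat.prime_three⟩
    have : Fact (Nat.Prime 2) := ⟨Nat.prime_two⟩
    have h3Y : 3 ∣ Nat.card (Yof 3 u) := by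
      obtain ⟨n, hn⟩ := hYp.exists_card_eq
      rcases n with _ | n
      · exfalso
        apply h.ne_bot
        rw [pow_zero] at hn
        exact Subgroup.card_eq_one.1 hn
      · rw [hn, pow_succ]; exact dvd_mul_left 3 _
    by_cases hdeven : 2 ∣ Nat.card D'
    · -- `|D'|` even
      obtain ⟨t, ht⟩ := exists_prime_orderOf_dvd_card' (G := D') 2 hdeven
      have ht' : orderOf (t : G) = 2 := by rw [Subgroup.orderOf_coe]; exact ht
      obtain ⟨g, hg⟩ := tpi7a_conj s hu hu1 ht'
      have hXle : Subgroup.zpowers (t : G) ≤ D' := by rw [Subgroup.zpowers_le]; exact t.2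
      have hXne : Subgroup.zpowers (t : G) ≠ ⊥ := by
        rw [Ne, Subgroup.zpowers_eq_bot]
        intro h1
        rw [h1, orderOf_one] at ht'
        omega
      have hNt := (hX _ hXle hXne).1
      obtain ⟨z₀, hz₀⟩ := exists_prime_orderOf_dvd_card' (G := Yof 3 u) 3 h3Y
      have hz₀' : orderOf (z₀ : G) = 3 := by rw [Subgroup.orderOf_coe]; exact hz₀
      have hz₀u : u * (z₀ : G) = z₀ * u := by
        have h1 := Yof_le_centralizer 3 u z₀.2
        rw [Subgroup.mem_centralizer_iff] at h1
        exact h1 u (Set.mem_singleton u)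
      have hz' : g * z₀ * g⁻¹ ∈ Subgroup.normalizer (D' : Set G) := by
        rw [← hNt]
        apply bsw2_mem_normalizer_zpowers
        left
        rw [← hg]
        calc g * ↑z₀ * g⁻¹ * (g * u * g⁻¹) * (g * ↑z₀ * g⁻¹)⁻¹
            = g * ↑z₀ * (u * (↑z₀)⁻¹) * g⁻¹ := by group
          _ = g * (↑z₀ * u) * (↑z₀)⁻¹ * g⁻¹ := by group
          _ = g * (u * ↑z₀) * (↑z₀)⁻¹ * g⁻¹ := by rw [hz₀u]
          _ = g * u * g⁻¹ := by group
      have h3N : 3 ∣ Nat.card (Subgroup.normalizer (D' : Set G)) := by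
        have h1 := Subgroup.orderOf_dvd_natCard _ hz'
        have h2 : orderOf (g * ↑z₀ * g⁻¹) = 3 := by
          rw [← MulAut.conj_apply, MulEquiv.orderOf_eq, hz₀']
        rwa [h2] at h1
      have h3d : 3 ∣ Nat.card D' := by
        rw [hcardN] at h3N
        exact (Nat.Coprime.dvd_of_dvd_mul_left (by norm_num : Nat.Coprime 3 2) h3N)
      have hNQtop : Subgroup.normalizer (Q' : Set G) ≠ ⊤ := by
        intro htop
        have hn : Q'.Normal := Subgroup.normalizer_eq_top_iff.1 htop
        rcases hsimple.eq_bot_or_eq_top_of_normal Q' hn with h1 | h1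
        · have h2 : Nat.card Q' = 1 := by rw [h1]; exact Subgroup.card_bot
          omega
        · have h2 : Nat.card Q' = Nat.card G := by rw [h1]; exact Subgroup.card_top
          rw [← h2, ← hq] at hGd
          nlinarith [mul_pos hdpos hdpos, mul_pos (mul_pos hdpos hdpos) hdpos]
      have hNQeven : 2 ∣ Nat.card (Subgroup.normalizer (Q' : Set G)) := by
        have h1 : D' ≤ Subgroup.normalizer (Q' : Set G) := by rw [hNQ]; exact le_sup_right
        exact hdeven.trans (Subgroup.card_dvd_of_le h1)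
      have hq1 : Nat.card Q' = 1 := by
        by_contra hne
        obtain ⟨r', hr', hr'q⟩ := Nat.exists_prime_and_dvd hne
        have h1 := hstar _ hNQtop hNQeven r' hr'
          (hr'q.trans (Subgroup.card_dvd_of_le Subgroup.le_normalizer))
        rcases h1 with rfl | rfl
        · omega
        · omega
      omega
    · -- `|D'|` odd
      have hd1 : Nat.card D' ≠ 1 := fun h1 => hD (Subgroup.card_eq_one.1 h1)
      obtain ⟨r', hr', hr'd⟩ := Nat.exists_prime_and_dvd hd1
      have h3d : 3 ∣ Nat.card D' := by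
        rcases hdprime r' hr' hr'd with rfl | rfl
        · exact absurd hr'd hdeven
        · exact hr'd
      obtain ⟨z, hz⟩ := exists_prime_orderOf_dvd_card' (G := D') 3 h3d
      have hz' : orderOf (z : G) = 3 := by rw [Subgroup.orderOf_coe]; exact hz
      have hXle : Subgroup.zpowers (z : G) ≤ D' := by rw [Subgroup.zpowers_le]; exact z.2
      have hXne : Subgroup.zpowers (z : G) ≠ ⊥ := by
        rw [Ne, Subgroup.zpowers_eq_bot]
        intro h1
        rw [h1, orderOf_one] at hz'
        omega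
      have hNz := (hX _ hXle hXne).1
      have hpg : IsPGroup 3 (Subgroup.zpowers (z : G)) := by
        apply IsPGroup.of_card (n := 1)
        rw [Nat.card_zpowers, hz', pow_one]
      obtain ⟨P, hP⟩ := hpg.exists_le_sylow
      obtain ⟨g, hg⟩ := MulAction.exists_smul_eq G R P
      have hzP : (z : G) ∈ (P : Subgroup G) := hP (Subgroup.mem_zpowers _)
      rw [← hg, Sylow.coe_subgroup_smul, Subgroup.mem_smul_pointwise_iff_exists] at hzP
      obtain ⟨z₀, hz₀R, hz₀⟩ := hzP
      rw [MulAut.smul_def, MulAut.conj_apply] at hz₀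
      have hz₀Y : z₀ ∈ Yof 3 u := hR ▸ hz₀R
      have hz₀u : u * z₀ = z₀ * u := by
        have h1 := Yof_le_centralizer 3 u hz₀Y
        rw [Subgroup.mem_centralizer_iff] at h1
        exact h1 u (Set.mem_singleton u)
      have hQle : ((g • s.Q : Sylow 2 G) : Subgroup G) ≤
          Subgroup.normalizer ((Subgroup.zpowers (z : G) : Subgroup G) : Set G) := by
        intro a ha
        rw [Sylow.coe_subgroup_smul, Subgroup.mem_smul_pointwise_iff_exists] at ha
        obtain ⟨v, hv, rfl⟩ := ha
        rw [MulAut.smul_def, MulAut.conj_apply]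
        apply bsw2_mem_normalizer_zpowers
        rw [← hz₀]
        by_cases hv1 : v = 1
        · left
          rw [hv1]
          group
        by_cases hvu : v = u
        · left
          rw [hvu]
          calc g * u * g⁻¹ * (g * z₀ * g⁻¹) * (g * u * g⁻¹)⁻¹
              = g * (u * z₀) * u⁻¹ * g⁻¹ := by group
            _ = g * (z₀ * u) * u⁻¹ * g⁻¹ := by rw [hz₀u]
            _ = g * z₀ * g⁻¹ := by group
        · right
          have hi := h.inv v hv hv1 hvu z₀ hz₀Y
          calc g * v * g⁻¹ * (g * z₀ * g⁻¹) * (g * v * g⁻¹)⁻¹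
              = g * (v * z₀ * v⁻¹) * g⁻¹ := by group
            _ = g * z₀⁻¹ * g⁻¹ := by rw [hi]
            _ = (g * z₀ * g⁻¹)⁻¹ := by group
      have h4 : Nat.card ((g • s.Q : Sylow 2 G) : Subgroup G) = 4 := by
        rw [Sylow.card_eq_multiplicity, s.ctx.two_part]
      have h5 := Subgroup.card_dvd_of_le hQle
      rw [h4, hNz, hcardN] at h5
      omega

end ctx

end Cfsg.Agent.Lib.Helper66.Tp
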