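import Cfsg.Agent.Lib.Helper66.TpDefs

/-! Tp hive (S4017, helper66): leaf TP-I7a `card_invol` (helper49): all involutions are conjugate, so their number is
`|G| / |C(b)|`. -/

set_option autoImplicit false

namespace Cfsg.Agent.Lib.Helper66.Tp

universe u

section ctx

variable {p : ℕ} {G : Type*} [Group G] [Finite G]

/-- every involution is conjugate to a given non-trivial element of `Q`. -/
theorem tpi7a_conj (s : Setup p G) {b : G} (hb : b ∈ (s.Q : Subgroup G)) (hb1 : b ≠ 1) {t : G}
    (ht : orderOf t = 2) : ∃ g : G, g * b * g⁻¹ = t := by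
  have : Fact (Nat.Prime 2) := ⟨Nat.prime_two⟩
  have hpg : IsPGroup 2 (Subgroup.zpowers t) := by
    apply IsPGroup.of_card (n := 1)
    rw [Nat.card_zpowers, ht, pow_one]
  obtain ⟨P, hP⟩ := hpg.exists_le_sylow
  obtain ⟨g, hg⟩ := MulAction.exists_smul_eq G P s.Q
  have htP : t ∈ (P : Subgroup G) := hP (Subgroup.mem_zpowers t)
  have hv : g * t * g⁻¹ ∈ (s.Q : Subgroup G) := by
    rw [← hg, Sylow.coe_subgroup_smul]
    have := Subgroup.smul_mem_pointwise_smul t (MulAut.conj g) (P : Subgroup G) htP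
    simpa [MulAut.smul_def] using this
  have hv1 : g * t * g⁻¹ ≠ 1 := by
    intro h
    have ht1 : t = 1 := by
      have h2 : g * t * g⁻¹ = g * 1 * g⁻¹ := by rw [h]; group
      exact mul_left_cancel (mul_right_cancel h2)
    rw [ht1, orderOf_one] at ht
    exact absurd ht (by norm_num)
  obtain ⟨k, hk⟩ := s.htrans _ hv _ hb hv1 hb1
  refine ⟨(s.x ^ k * g)⁻¹, ?_⟩
  rw [← hk]
  group

/-- conjugates of `b` agree iff the quotient of the conjugators centralises `b`. -/
theorem tpi7a_conj_eq_iff {G : Type*} [Group G] (b g g' : G) :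
    g * b * g⁻¹ = g' * b * g'⁻¹ ↔ g⁻¹ * g' ∈ Subgroup.centralizer ({b} : Set G) := by
  rw [Subgroup.mem_centralizer_iff]
  constructor
  · intro h x hx
    rw [Set.mem_singleton_iff] at hx
    subst hx
    have h2 : g⁻¹ * (g * x * g⁻¹) * g' = g⁻¹ * (g' * x * g'⁻¹) * g' := by rw [h]
    calc x * (g⁻¹ * g') = g⁻¹ * (g * x * g⁻¹) * g' := by group
      _ = g⁻¹ * (g' * x * g'⁻¹) * g' := h2
      _ = g⁻¹ * g' * x := by group
  · intro h
    have hc := h b (Set.mem_singleton b)
    calc g * b * g⁻¹ = g * (b * (g⁻¹ * g')) * g'⁻¹ := by group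
      _ = g * (g⁻¹ * g' * b) * g'⁻¹ := by rw [hc]
      _ = g' * b * g'⁻¹ := by group

/-- TP-I7a -/
theorem card_invol (s : Setup p G)
    (hcent : ∀ t : G, orderOf t = 2 → Nat.card (Subgroup.centralizer ({t} : Set G)) = p + 1) :
    Nat.card {t : G // orderOf t = 2} * (p + 1) = Nat.card G := by
  classical
  have : Fact (Nat.Prime 2) := ⟨Nat.prime_two⟩
  have hQcard : Nat.card (s.Q : Subgroup G) = p + 1 := by
    rw [Sylow.card_eq_multiplicity, s.ctx.two_part]
  have hQne : (s.Q : Subgroup G) ≠ ⊥ := by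
    intro h
    rw [h, Subgroup.card_bot] at hQcard
    have := s.ctx.hp.pos
    omega
  obtain ⟨⟨b, hb⟩, hb1'⟩ := (Subgroup.ne_bot_iff_exists_ne_one).1 hQne
  have hb1 : b ≠ 1 := fun h => hb1' (Subtype.ext h)
  have hb2 : orderOf b = 2 := orderOf_eq_prime (by rw [sq]; exact s.hexp b hb) hb1
  have hCcard : Nat.card (Subgroup.centralizer ({b} : Set G)) = p + 1 := hcent b hb2
  let f : G ⧸ Subgroup.centralizer ({b} : Set G) → {t : G // orderOf t = 2} := fun q =>
    Quotient.liftOn' q
      (fun g => (⟨g * b * g⁻¹, by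
        have := (MulAut.conj g).orderOf_eq b
        rw [MulAut.conj_apply] at this
        rw [this, hb2]⟩ : {t : G // orderOf t = 2}))
      (by
        intro a a' h
        rw [QuotientGroup.leftRel_apply] at h
        exact Subtype.ext ((tpi7a_conj_eq_iff b a a').2 h))
  have hbij : Function.Bijective f := by
    constructor
    · intro q q'
      refine Quotient.inductionOn₂' q q' ?_
      intro a a' h
      have h2 : a * b * a⁻¹ = a' * b * a'⁻¹ := congrArg Subtype.val h
      exact QuotientGroup.eq.2 ((tpi7a_conj_eq_iff b a a').1 h2)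
    · rintro ⟨t, ht⟩
      obtain ⟨g, hg⟩ := tpi7a_conj s hb hb1 ht
      exact ⟨(g : G ⧸ Subgroup.centralizer ({b} : Set G)), Subtype.ext hg⟩
  rw [← Nat.card_congr (Equiv.ofBijective f hbij), ← hCcard]
  exact (Subgroup.card_eq_card_quotient_mul_card_subgroup _).symm

end ctx

end Cfsg.Agent.Lib.Helper66.Tp
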