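import Cfsg.Agent.Lib.Helper49.TpI7a

/-! Tp hive (S4017, helper66): leaf TP-I7c `card_lines` (helper49): double count of the pairs (involution `t`, Sylow
`p`-subgroup `A` inverted by `t`). -/

set_option autoImplicit false

namespace Cfsg.Agent.Lib.Helper66.Tp

universe u

/-- generic double counting with constant row and column numbers. -/
theorem tpi7c_double {T X : Type*} [Finite T] [Finite X] (R : T → X → Prop) (ℓ P : ℕ)
    (h1 : ∀ t, Nat.card {A : X // R t A} = ℓ) (h2 : ∀ A, Nat.card {t : T // R t A} = P) :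
    Nat.card T * ℓ = Nat.card X * P := by
  classical
  have : Fintype T := Fintype.ofFinite T
  have : Fintype X := Fintype.ofFinite X
  have e1 : {x : T × X // R x.1 x.2} ≃ Σ t, {A : X // R t A} :=
    Equiv.subtypeProdEquivSigmaSubtype R
  have e2 : {x : T × X // R x.1 x.2} ≃ Σ A, {t : T // R t A} :=
    ((Equiv.prodComm T X).subtypeEquiv (fun x => by simp)).trans
      (Equiv.subtypeProdEquivSigmaSubtype (fun A t => R t A))
  have c1 : Nat.card {x : T × X // R x.1 x.2} = Nat.card T * ℓ := by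
    rw [Nat.card_congr e1, Nat.card_sigma]
    simp only [h1, Finset.sum_const, Finset.card_univ, smul_eq_mul, Nat.card_eq_fintype_card]
  have c2 : Nat.card {x : T × X // R x.1 x.2} = Nat.card X * P := by
    rw [Nat.card_congr e2, Nat.card_sigma]
    simp only [h2, Finset.sum_const, Finset.card_univ, smul_eq_mul, Nat.card_eq_fintype_card]
  rw [← c1, c2]

section ctx

variable {p : ℕ} {G : Type*} [Group G] [Finite G]

/-- inversion is transported by conjugation. -/
theorem tpi7c_inv_conj [Fact p.Prime] (b g : G) (A : Sylow p G)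
    (h : ∀ z ∈ (A : Subgroup G), b * z * b⁻¹ = z⁻¹) :
    ∀ z ∈ ((g • A : Sylow p G) : Subgroup G), (g * b * g⁻¹) * z * (g * b * g⁻¹)⁻¹ = z⁻¹ := by
  intro z hz
  rw [Sylow.coe_subgroup_smul, Subgroup.mem_smul_pointwise_iff_exists] at hz
  obtain ⟨w, hw, rfl⟩ := hz
  rw [MulAut.smul_def, MulAut.conj_apply]
  have hbw := h w hw
  calc g * b * g⁻¹ * (g * w * g⁻¹) * (g * b * g⁻¹)⁻¹ = g * (b * w * b⁻¹) * g⁻¹ := by group
    _ = g * w⁻¹ * g⁻¹ := by rw [hbw]
    _ = (g * w * g⁻¹)⁻¹ := by group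

/-- the involutions inverting `A` form the coset `A t₀`: they are in bijection with `A`. -/
theorem tpi7c_card_inverting (s : Setup p G) [Fact p.Prime] (A : Sylow p G) {t₀ : G} (ht₀ : orderOf t₀ = 2)
    (hinv : ∀ z ∈ (A : Subgroup G), t₀ * z * t₀⁻¹ = z⁻¹)
    (hcent : Subgroup.centralizer ((A : Subgroup G) : Set G) = (A : Subgroup G)) :
    Nat.card {t : {t : G // orderOf t = 2} // ∀ z ∈ (A : Subgroup G), t.1 * z * t.1⁻¹ = z⁻¹} =
      Nat.card (A : Subgroup G) := by
  have ht2 : t₀ * t₀ = 1 := by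
    have := pow_orderOf_eq_one t₀
    rwa [ht₀, sq] at this
  have htinv : t₀⁻¹ = t₀ := inv_eq_of_mul_eq_one_right ht2
  have hcomm : ∀ a ∈ (A : Subgroup G), ∀ z ∈ (A : Subgroup G), a * z = z * a := by
    intro a ha z hz
    have hA := s.ctx.abel A
    have := hA.is_comm.comm (⟨a, ha⟩ : (A : Subgroup G)) ⟨z, hz⟩
    exact congrArg Subtype.val this
  have hswap : ∀ a ∈ (A : Subgroup G), t₀ * a = a⁻¹ * t₀ := by
    intro a ha
    have h := hinv a ha
    calc t₀ * a = (t₀ * a * t₀⁻¹) * t₀ := by group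
      _ = a⁻¹ * t₀ := by rw [h]
  have ht₀A : t₀ ∉ (A : Subgroup G) := by
    intro hmem
    obtain ⟨k, hk⟩ := A.2 ⟨t₀, hmem⟩
    have hk' : t₀ ^ (p ^ k) = 1 := by
      have := congrArg Subtype.val hk
      simpa using this
    have hdvd : 2 ∣ p ^ k := by
      rw [← ht₀]; exact orderOf_dvd_of_pow_eq_one hk'
    have h2p : 2 ∣ p := Nat.Prime.dvd_of_dvd_pow Nat.prime_two hdvd
    exact s.ctx.hp2 ((Nat.prime_dvd_prime_iff_eq Nat.prime_two s.ctx.hp).1 h2p).symm
  let f : ↥(A : Subgroup G) → {t : {t : G // orderOf t = 2} // ∀ z ∈ (A : Subgroup G), t.1 * z * t.1⁻¹ = z⁻¹} :=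
    fun a => ⟨⟨a.1 * t₀, by
      apply orderOf_eq_prime
      · rw [sq]
        calc a.1 * t₀ * (a.1 * t₀) = a.1 * (t₀ * a.1) * t₀ := by group
          _ = a.1 * (a.1⁻¹ * t₀) * t₀ := by rw [hswap a.1 a.2]
          _ = t₀ * t₀ := by group
          _ = 1 := ht2
      · intro h
        apply ht₀A
        have : t₀ = a.1⁻¹ := by
          calc t₀ = a.1⁻¹ * (a.1 * t₀) := by group
            _ = a.1⁻¹ := by rw [h, mul_one]
        rw [this]
        exact (A : Subgroup G).inv_mem a.2⟩, by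
      intro z hz
      show a.1 * t₀ * z * (a.1 * t₀)⁻¹ = z⁻¹
      calc a.1 * t₀ * z * (a.1 * t₀)⁻¹ = a.1 * (t₀ * z * t₀⁻¹) * a.1⁻¹ := by group
        _ = a.1 * z⁻¹ * a.1⁻¹ := by rw [hinv z hz]
        _ = z⁻¹ * a.1 * a.1⁻¹ := by rw [hcomm a.1 a.2 z⁻¹ ((A : Subgroup G).inv_mem hz)]
        _ = z⁻¹ := by group⟩
  have hbij : Function.Bijective f := by
    constructor
    · intro a a' h
      have h2 : a.1 * t₀ = a'.1 * t₀ := congrArg (fun x => x.1.1) h
      exact Subtype.ext (mul_right_cancel h2)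
    · rintro ⟨⟨t, ht⟩, htA⟩
      have hmem : t * t₀⁻¹ ∈ (A : Subgroup G) := by
        rw [← hcent, Subgroup.mem_centralizer_iff]
        intro z hz
        have h1 : t₀⁻¹ * z * t₀ = z⁻¹ := by
          have := hinv z hz
          rw [htinv] at this ⊢
          exact this
        have h3 := htA z⁻¹ ((A : Subgroup G).inv_mem hz)
        rw [inv_inv] at h3
        calc z * (t * t₀⁻¹) = (t * z⁻¹ * t⁻¹) * (t * t₀⁻¹) := by rw [h3]
          _ = t * (z⁻¹ * t₀⁻¹) := by group
          _ = t * (t₀⁻¹ * z * t₀ * t₀⁻¹) := by rw [h1]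
          _ = t * t₀⁻¹ * z := by group
      refine ⟨⟨t * t₀⁻¹, hmem⟩, ?_⟩
      apply Subtype.ext
      apply Subtype.ext
      show t * t₀⁻¹ * t₀ = t
      group
  exact (Nat.card_congr (Equiv.ofBijective f hbij)).symm

/-- TP-I7c -/
theorem card_lines (s : Setup p G)
    (hinvol : Nat.card {t : G // orderOf t = 2} * (p + 1) = Nat.card G)
    (hN : ∀ (A : Sylow p G) (t : G), orderOf t = 2 → (∀ z ∈ (A : Subgroup G), t * z * t⁻¹ = z⁻¹) →
      Nat.card (Subgroup.normalizer ((A : Subgroup G) : Set G)) = 2 * Nat.card (A : Subgroup G) ∧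
        Subgroup.centralizer ((A : Subgroup G) : Set G) = (A : Subgroup G))
    {b : G} (hb : b ∈ (s.Q : Subgroup G)) (hb1 : b ≠ 1)
    (hex : ∃ A : Sylow p G, ∀ z ∈ (A : Subgroup G), b * z * b⁻¹ = z⁻¹) :
    Nat.card {A : Sylow p G // ∀ z ∈ (A : Subgroup G), b * z * b⁻¹ = z⁻¹} * 2 = p + 1 := by
  classical
  have : Fact p.Prime := ⟨s.ctx.hp⟩
  obtain ⟨A₀, hA₀⟩ := hex
  have hb2 : orderOf b = 2 := orderOf_eq_prime (by rw [sq]; exact s.hexp b hb) hb1
  -- rows
  have h1 : ∀ t : {t : G // orderOf t = 2},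
      Nat.card {A : Sylow p G // ∀ z ∈ (A : Subgroup G), t.1 * z * t.1⁻¹ = z⁻¹} =
        Nat.card {A : Sylow p G // ∀ z ∈ (A : Subgroup G), b * z * b⁻¹ = z⁻¹} := by
    intro t
    obtain ⟨g, hg⟩ := tpi7a_conj s hb hb1 t.2
    symm
    refine Nat.card_congr ((MulAction.toPerm g : Sylow p G ≃ Sylow p G).subtypeEquiv ?_)
    intro A
    show (∀ z ∈ (A : Subgroup G), b * z * b⁻¹ = z⁻¹) ↔
      ∀ z ∈ ((g • A : Sylow p G) : Subgroup G), t.1 * z * t.1⁻¹ = z⁻¹
    rw [← hg]
    constructor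
    · exact tpi7c_inv_conj b g A
    · intro h
      have h2 := tpi7c_inv_conj (g * b * g⁻¹) g⁻¹ (g • A) h
      rw [inv_smul_smul] at h2
      have e : g⁻¹ * (g * b * g⁻¹) * g⁻¹⁻¹ = b := by group
      rw [e] at h2
      exact h2
  -- columns
  have h2 : ∀ A : Sylow p G,
      Nat.card {t : {t : G // orderOf t = 2} // ∀ z ∈ (A : Subgroup G), t.1 * z * t.1⁻¹ = z⁻¹} =
        p ^ (Nat.card G).factorization p := by
    intro A
    obtain ⟨g, hg⟩ := MulAction.exists_smul_eq G A₀ A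
    have hinv := tpi7c_inv_conj b g A₀ hA₀
    rw [hg] at hinv
    have ht₀ : orderOf (g * b * g⁻¹) = 2 := by
      have := (MulAut.conj g).orderOf_eq b
      rw [MulAut.conj_apply] at this
      rw [this, hb2]
    rw [tpi7c_card_inverting s A ht₀ hinv (hN A _ ht₀ hinv).2, Sylow.card_eq_multiplicity]
  have hdc := tpi7c_double
    (fun (t : {t : G // orderOf t = 2}) (A : Sylow p G) => ∀ z ∈ (A : Subgroup G), t.1 * z * t.1⁻¹ = z⁻¹)
    _ _ h1 h2
  -- number of Sylow subgroups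
  have hsyl : Nat.card (Sylow p G) * (2 * p ^ (Nat.card G).factorization p) = Nat.card G := by
    have hNA := (hN A₀ b hb2 hA₀).1
    rw [Sylow.card_eq_multiplicity] at hNA
    rw [Sylow.card_eq_index_normalizer A₀, ← hNA]
    exact Subgroup.index_mul_card _
  have hpos : 0 < Nat.card {t : G // orderOf t = 2} := by
    have : Nonempty {t : G // orderOf t = 2} := ⟨⟨b, hb2⟩⟩
    exact Nat.card_pos
  have hfin : Nat.card {t : G // orderOf t = 2} *
      (Nat.card {A : Sylow p G // ∀ z ∈ (A : Subgroup G), b * z * b⁻¹ = z⁻¹} * 2) =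
      Nat.card {t : G // orderOf t = 2} * (p + 1) := by
    rw [hinvol, ← hsyl, ← mul_assoc, hdc]
    ring
  exact Nat.eq_of_mul_eq_mul_left hpos hfin

end ctx

end Cfsg.Agent.Lib.Helper66.Tp
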