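import Mathlib

/-! U62 hive (helper57, S1684 + S0471), round 2, leaf U62-CENT `cent_trivial` (helper49), Mathlib only:
a permutation `π` commuting with a family `g s` that is transitive along a spanning tree rooted at `i0`,
where `i0` is the only common fixed point of the sub-family `S` of the stabiliser of `i0`, is trivial. -/

set_option autoImplicit false

namespace Cfsg.Agent.Lib.Helper57.U62

theorem cent_trivial {m k : ℕ} (g : Fin k → Equiv.Perm (Fin m)) (par : Fin m → Fin m) (lt : Fin m → Fin k)
    (rk : Fin m → ℕ) (i0 : Fin m) (htree : ∀ i, i ≠ i0 → rk (par i) < rk i ∧ g (lt i) (par i) = i)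
    (S : List (Fin k)) (hfix : ∀ s ∈ S, g s i0 = i0) (huniq : ∀ i, (∀ s ∈ S, g s i = i) → i = i0)
    (π : Equiv.Perm (Fin m)) (hπ : ∀ s, π * g s = g s * π) : π = 1 := by
  have hcomm : ∀ s i, π (g s i) = g s (π i) := by
    intro s i
    have h1 := congrArg (fun σ : Equiv.Perm (Fin m) => σ i) (hπ s)
    simpa [Equiv.Perm.mul_apply] using h1
  have h0 : π i0 = i0 := by
    apply huniq
    intro s hs
    rw [← hcomm, hfix s hs]
  have hall : ∀ n : ℕ, ∀ i, rk i = n → π i = i := by
    intro n
    induction n using Nat.strong_induction_on with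
    | _ n ih =>
      intro i hi
      by_cases hi0 : i = i0
      · rw [hi0]; exact h0
      · obtain ⟨hlt, hpar⟩ := htree i hi0
        have h1 := ih (rk (par i)) (hi ▸ hlt) (par i) rfl
        calc π i = π (g (lt i) (par i)) := by rw [hpar]
          _ = g (lt i) (π (par i)) := hcomm _ _
          _ = g (lt i) (par i) := by rw [h1]
          _ = i := hpar
  exact Equiv.ext (fun i => by rw [hall _ i rfl]; rfl)

end Cfsg.Agent.Lib.Helper57.U62
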