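import Mathlib
import Cfsg.Agent.Lib.Helper57.U62Defs
import Cfsg.Agent.S0280
import Cfsg.Agent.S0779

/-! U62 hive (S1684 + S0471, helper57): leaf U62-ISO `iso_of_perm` (helper49). -/

set_option autoImplicit false

namespace Cfsg.Agent.Lib.Helper57.U62

open Cfsg.Agent.Lib.Helper28.Sp44F4

/-! ### U62-ISO (generic, Mathlib only) -/

theorem iso_of_perm {H P X : Type*} [Group H] [Group P] [Finite H] [Finite P]
    (ρ : H →* Equiv.Perm X) (θ : P →* Equiv.Perm X) (hle : ρ.range ≤ θ.range)
    (hker : ρ.ker = Subgroup.center H) (hZ : Nat.card (Subgroup.center H) = 2)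
    (hcard : Nat.card H = 2 * Nat.card P) : Nonempty (H ⧸ Subgroup.center H ≃* P) := by
  have e1 : H ⧸ ρ.ker ≃* ρ.range := QuotientGroup.quotientKerEquivRange ρ
  have e0 : H ⧸ ρ.ker ≃* H ⧸ Subgroup.center H := QuotientGroup.quotientMulEquivOfEq hker
  have hk2 : Nat.card ρ.ker = 2 := by rw [hker]; exact hZ
  have hc1 : Nat.card ρ.range = Nat.card P := by
    have h1 : Nat.card (H ⧸ ρ.ker) = Nat.card ρ.range := Nat.card_congr e1.toEquiv
    have h2 : Nat.card H = Nat.card (H ⧸ ρ.ker) * Nat.card ρ.ker :=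
      Subgroup.card_eq_card_quotient_mul_card_subgroup ρ.ker
    rw [hk2, h1, hcard] at h2
    omega
  have hfin : Finite θ.range := Finite.of_surjective θ.rangeRestrict θ.rangeRestrict_surjective
  have hc2 : Nat.card θ.range ≤ Nat.card P :=
    Nat.card_le_card_of_surjective θ.rangeRestrict θ.rangeRestrict_surjective
  have heq : ρ.range = θ.range := Subgroup.eq_of_le_of_card_ge hle (by rw [hc1]; exact hc2)
  have hc3 : Nat.card P ≤ Nat.card θ.range := by rw [← heq, hc1]
  have hbij : Function.Bijective θ.rangeRestrict :=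
    Function.Surjective.bijective_of_nat_card_le θ.rangeRestrict_surjective hc3
  have e2 : P ≃* θ.range := MulEquiv.ofBijective θ.rangeRestrict hbij
  exact ⟨e0.symm.trans (e1.trans ((MulEquiv.subgroupCongr heq).trans e2.symm))⟩

end Cfsg.Agent.Lib.Helper57.U62
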