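import Mathlib
import Cfsg.Agent.Lib.Helper57.U62Defs
import Cfsg.Agent.S0280
import Cfsg.Agent.S0779

/-! U62 hive (S1684 + S0471, helper57): leaf U62-NS `nonsplit_of_sq` (helper49), with the hypothesis `hzc : z ∈ center H`
added (without it the statement fails: `H = S₄`, `y` a 4-cycle). -/

set_option autoImplicit false

namespace Cfsg.Agent.Lib.Helper57.U62

open Cfsg.Agent.Lib.Helper28.Sp44F4

/-! ### U62-NS (generic, Mathlib only) -/

theorem nonsplit_of_sq {H : Type*} [Group H] (z y : H) (hz : z ≠ 1) (hzc : z ∈ Subgroup.center H)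
    (hZ : ∀ c ∈ Subgroup.center H, c = 1 ∨ c = z) (hy : y * y = z) :
    ∀ L : Subgroup H, ¬ (Subgroup.center H).IsComplement' L := by
  intro L hL
  have hdisj : ∀ x, x ∈ Subgroup.center H → x ∈ L → x = 1 := by
    intro x hx hxL
    have h : x ∈ Subgroup.center H ⊓ L := ⟨hx, hxL⟩
    rw [hL.disjoint.eq_bot] at h
    exact Subgroup.mem_bot.1 h
  obtain ⟨⟨⟨c, hc⟩, ⟨l, hl⟩⟩, hcl⟩ := (Subgroup.isComplement_iff_existsUnique.1 hL y).exists
  simp only at hcl
  subst hcl
  have hcomm : ∀ g : H, g * c = c * g := fun g => Subgroup.mem_center_iff.1 hc g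
  have hyy : c * l * (c * l) = c * c * (l * l) := by
    calc c * l * (c * l) = c * (l * c) * l := by group
      _ = c * (c * l) * l := by rw [hcomm l]
      _ = c * c * (l * l) := by group
  rw [hyy] at hy
  rcases hZ c hc with h1c | hcz
  · rw [h1c, one_mul, one_mul] at hy
    have : l * l ∈ L := L.mul_mem hl hl
    rw [hy] at this
    exact hz (hdisj z hzc this)
  · -- c = z: z * z * (l * l) = z, so l * l = z⁻¹
    rw [hcz] at hy
    have h1 : l * l = z⁻¹ := by
      have : z * (z * (l * l)) = z * 1 := by rw [← mul_assoc, hy, mul_one]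
      have h2 := mul_left_cancel this
      exact eq_inv_of_mul_eq_one_right h2
    have h3 : z⁻¹ ∈ L := h1 ▸ L.mul_mem hl hl
    have h4 : z⁻¹ = 1 := hdisj _ (Subgroup.inv_mem _ hzc) h3
    exact hz (inv_eq_one.1 h4)

/-- NEW U62-NS: the central involution is a product of an even number of conjugates of one element, so the centre
(of order 2) has no complement. -/
theorem nonsplit_of_even {H : Type*} [Group H] [Finite H] (z c : H) (hz : z ≠ 1)
    (hzc : z ∈ Subgroup.center H) (hZ : Nat.card (Subgroup.center H) = 2) (k : Fin 6 → H)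
    (hprod : z = ((List.finRange 6).map (fun i => (k i)⁻¹ * c * k i)).prod) :
    ∀ L : Subgroup H, ¬ (Subgroup.center H).IsComplement' L := by
  intro L hL
  have hidx : L.index = 2 := by rw [hL.index_eq_card, hZ]
  have hN : L.Normal := Subgroup.normal_of_index_eq_two hidx
  have hconj : ∀ i, ((k i)⁻¹ * c * k i ∈ L ↔ c ∈ L) := by
    intro i
    constructor
    · intro h
      have := hN.conj_mem _ h (k i)
      simpa [mul_assoc] using this
    · intro h
      have := hN.conj_mem _ h (k i)⁻¹
      simpa [mul_assoc] using this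
  have hpair : ∀ i j, (k i)⁻¹ * c * k i * ((k j)⁻¹ * c * k j) ∈ L := by
    intro i j
    rw [Subgroup.mul_mem_iff_of_index_two hidx, hconj i, hconj j]
  have hl : List.finRange 6 = [0, 1, 2, 3, 4, 5] := by decide
  have hzL : z ∈ L := by
    rw [hprod, hl]
    simp only [List.map_cons, List.map_nil, List.prod_cons, List.prod_nil, mul_one]
    have h := L.mul_mem (hpair 0 1) (L.mul_mem (hpair 2 3) (hpair 4 5))
    simpa [mul_assoc] using h
  have h : z ∈ Subgroup.center H ⊓ L := ⟨hzc, hzL⟩
  rw [hL.disjoint.eq_bot] at h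
  exact hz (Subgroup.mem_bot.1 h)

end Cfsg.Agent.Lib.Helper57.U62
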